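import Cfsg.Agent.Lib.Goldschmidt53.Facts
import Cfsg.Agent.Lib.Walter.KnownFactsJR
import Cfsg.Agent.Lib.PSLFacts.FourGroups

/-!
# Rank two, bad involutions: the groups `PSL(2, q)`, `q ≡ 3, 5 mod 8`

A known group with a non-trivial odd core in the centraliser of an involution and Sylow 2-subgroups
of order four is of this type.  For an involution `a` more than a third of the involutions `j` have
`ja` of odd order: the others commute with one of the `m` involutions commuting with `a`, and `2m` is
the order of the centraliser, at most `q + 1`.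

Owner: helper72.
-/

set_option autoImplicit false
set_option linter.style.haveILetI false
set_option linter.unusedSectionVars false

universe u

namespace Cfsg.Agent.Lib.Goldschmidt53.RankTwoBadOne.OddType

open Subgroup Cfsg.Agent.Lib.Walter Cfsg.Agent.Lib.Walter.Known

variable {L : Type u} [Group L] [Finite L]

/-- Even type: centralisers of involutions have trivial odd core. -/
theorem core_eq_bot_of_even (hL : IsEvenType L) {u : L} (hu : orderOf u = 2) : core u = ⊥ := by
  obtain ⟨n, F, _, _, hn, hF, ⟨e⟩⟩ := hL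
  obtain ⟨p, hp⟩ := CharP.exists F
  haveI := hp
  obtain ⟨k, hpp, hk⟩ := FiniteField.card F p
  have hp2 : p = 2 := by
    have h : p ∣ 2 ^ n := hF ▸ hk ▸ dvd_pow_self p k.pos.ne'
    exact (Nat.prime_dvd_prime_iff_eq hpp Nat.prime_two).1 (hpp.dvd_of_dvd_pow h)
  subst hp2
  refine core_eq_bot_of_isPGroup fun x => ⟨1, Subtype.ext (e.injective ?_)⟩
  rw [pow_one, pow_two, Subgroup.coe_mul, map_mul, Subgroup.coe_one, map_one]
  exact psl_exponent_two (u := e u) (by rw [MulEquiv.orderOf_eq, hu])
    (by rw [← map_mul, ← map_mul, mem_centralizer_singleton_iff.1 x.2])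

/-- A known group with a centraliser of an involution which has an odd core is of odd type. -/
theorem of_core (hk : Goldschmidt53.IsKnown L) {u : L} (hu : orderOf u = 2) (hne : core u ≠ ⊥) :
    IsOddType L := by
  haveI : Fact (Nat.Prime 2) := ⟨Nat.prime_two⟩
  rcases hk with (hE | hO | hJ) | hB
  · exact absurd (core_eq_bot_of_even hE hu) hne
  · exact hO
  · exact absurd ((Goldschmidt53.facts L (Or.inl (Or.inr (Or.inr hJ)))).core
      (fun P => (hJ.card_sylow P).ge) u hu) hne
  · refine absurd (BenderLocal.core_eq_bot (fun P => ?_) hu) hne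
    rcases hB with hSz | ⟨F, _, _, n, hn, hF, ⟨e⟩⟩
    · exact suzuki_local hSz P
    · exact unitary_local hn hF e P

/-- The basic properties. -/
theorem basic (hK : IsOddType L) : OddBasic L := by
  obtain ⟨F, _, _, h1, h2, ⟨e⟩⟩ := hK
  exact odd_basic h1 h2 e

/-- All involutions are conjugate. -/
theorem conj (hK : IsOddType L) (x y : L) (hx : orderOf x = 2) (hy : orderOf y = 2) : IsConj x y :=
  (basic hK).conj x y hx hy

/-- The involutions other than `u` commuting with it. -/
noncomputable def partners (u : L) : ℕ := Nat.card {v : L // PSLFacts.FourCount.IsPair u v}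

/-- At most `m(m-1)` involutions have product of even order with a given one. -/
theorem card_even_le {a : L} (ha : orderOf a = 2)
    (hsame : ∀ u : L, orderOf u = 2 → partners u = partners a) :
    Nat.card {j : L // orderOf j = 2 ∧ ¬ Odd (orderOf (j * a))} ≤
      partners a * (partners a - 1) := by
  classical
  haveI : Fintype L := Fintype.ofFinite L
  have ha2 := mul_self_of_orderOf ha
  let T := Σ z : {z : L // PSLFacts.FourCount.IsPair a z}, {v : L // PSLFacts.FourCount.IsPair z.1 v ∧ v ≠ a}
  have hz : ∀ j : {j : L // orderOf j = 2 ∧ ¬ Odd (orderOf (j * a))},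
      ∃ z : L, PSLFacts.FourCount.IsPair a z ∧ PSLFacts.FourCount.IsPair z j.1 ∧ j.1 ≠ a := by
    rintro ⟨j, hj, heven⟩
    have hj2 := mul_self_of_orderOf hj
    set r := j * a with hr
    set k := orderOf r / 2 with hk
    have hm : orderOf r = k * 2 := by
      rw [Nat.not_odd_iff_even, even_iff_two_dvd] at heven
      rw [hk, Nat.div_mul_cancel heven]
    have hk0 : 0 < k := by
      have := orderOf_pos r
      omega
    have hja : j ≠ a := fun e => heven (by
      rw [hr, e, ha2, orderOf_one]
      exact odd_one)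
    set z := r ^ k with hzdef
    have hz2 : z * z = 1 := by
      rw [hzdef, ← pow_add, show k + k = orderOf r by omega, pow_orderOf_eq_one]
    have hz1 : z ≠ 1 := pow_ne_one_of_lt_orderOf hk0.ne' (by omega)
    have hzi : z⁻¹ = z := inv_eq_of_mul_eq_one_right hz2
    have hrinv : a * r * a = r⁻¹ := by
      rw [hr, mul_inv_rev, inv_eq_of_mul_eq_one_right ha2, inv_eq_of_mul_eq_one_right hj2,
        mul_assoc, mul_assoc, ha2, mul_one]
    have hza : a * z = z * a := by
      have h1 : a * z * a⁻¹ = z⁻¹ := by
        rw [hzdef, ← conj_pow, inv_eq_of_mul_eq_one_right ha2, hrinv, inv_pow]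
      rw [hzi] at h1
      exact mul_inv_eq_iff_eq_mul.1 h1
    have hzr : Commute z r := (Commute.refl r).pow_left k
    have hzj : z * j = j * z := by
      have hjr : j = r * a := by rw [hr, mul_assoc, ha2, mul_one]
      rw [hjr]
      exact (hzr.mul_right hza.symm).eq
    have hzne : ∀ b : L, b * b = 1 → (b = a ∨ b = j) → z ≠ b := by
      intro b _ hb he
      have hc : a * j = j * a := by
        rcases hb with rfl | rfl
        · rw [he] at hzj; exact hzj
        · rw [he] at hza; exact hza
      have hrr : r * r = 1 := by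
        rw [hr]
        calc j * a * (j * a) = j * (a * j) * a := by group
          _ = j * j * (a * a) := by rw [hc]; group
          _ = 1 := by rw [hj2, ha2, mul_one]
      have hk1 : k = 1 := by
        have := orderOf_dvd_of_pow_eq_one (x := r) (n := 2) (by rw [pow_two]; exact hrr)
        have := Nat.le_of_dvd two_pos this
        omega
      have : z = j * a := by rw [hzdef, hk1, pow_one]
      rw [he] at this
      rcases hb with rfl | rfl
      · exact ne_one_of_orderOf hj (mul_eq_right.1 this.symm)
      · exact ne_one_of_orderOf ha (mul_eq_left.1 this.symm)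
    exact ⟨z, ⟨ha, orderOf_two hz2 hz1, (hzne a ha2 (Or.inl rfl)).symm, hza⟩,
      ⟨orderOf_two hz2 hz1, hj, hzne j hj2 (Or.inr rfl), hzj⟩, hja⟩
  choose z hz1 hz2 hz3 using hz
  let f : {j : L // orderOf j = 2 ∧ ¬ Odd (orderOf (j * a))} → T :=
    fun j => ⟨⟨z j, hz1 j⟩, ⟨j.1, hz2 j, hz3 j⟩⟩
  have hf : Function.Injective f := fun i j h =>
    Subtype.ext (congrArg (fun t : T => t.2.1) h)
  refine (Nat.card_le_card_of_injective f hf).trans (le_of_eq ?_)
  rw [Nat.card_sigma]
  have hone : ∀ w : {w : L // PSLFacts.FourCount.IsPair a w},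
      Nat.card {v : L // PSLFacts.FourCount.IsPair w.1 v ∧ v ≠ a} = partners a - 1 := by
    rintro ⟨w, hw⟩
    rw [← hsame w hw.2.1]
    have haw : PSLFacts.FourCount.IsPair w a := ⟨hw.2.1, hw.1, hw.2.2.1.symm, hw.2.2.2.symm⟩
    show Nat.card ↥({v : L | PSLFacts.FourCount.IsPair w v} \ {a}) = Nat.card ↥{v : L | PSLFacts.FourCount.IsPair w v} - 1
    rw [Nat.card_coe_set_eq, Nat.card_coe_set_eq]
    exact Set.ncard_sdiff_singleton_of_mem haw
  rw [Finset.sum_congr rfl fun w _ => hone w, Finset.sum_const, Finset.card_univ, smul_eq_mul,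
    ← Nat.card_eq_fintype_card]
  rfl

/-- The two kinds of involutions. -/
theorem card_add {a : L} : Nat.card {j : L // orderOf j = 2} =
    Nat.card {j : L // orderOf j = 2 ∧ Odd (orderOf (j * a))} +
      Nat.card {j : L // orderOf j = 2 ∧ ¬ Odd (orderOf (j * a))} := by
  rw [show Nat.card {j : L // orderOf j = 2} = ({j | orderOf j = 2} : Set L).ncard from
    Nat.card_coe_set_eq _,
    show Nat.card {j : L // orderOf j = 2 ∧ Odd (orderOf (j * a))} =
      ({j | orderOf j = 2} ∩ {j | Odd (orderOf (j * a))} : Set L).ncard from Nat.card_coe_set_eq _,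
    show Nat.card {j : L // orderOf j = 2 ∧ ¬ Odd (orderOf (j * a))} =
      ({j | orderOf j = 2} \ {j | Odd (orderOf (j * a))} : Set L).ncard from Nat.card_coe_set_eq _]
  exact (Set.ncard_inter_add_ncard_sdiff_eq_ncard _ _ (Set.toFinite _)).symm

section PSL

variable {F : Type} [Field F] [Fintype F]

local notation "PSL2" => Matrix.ProjectiveSpecialLinearGroup (Fin 2) F

open PSLFacts PSLFacts.FourGroups PSLTwo.ClassSize SL2Tori.Products in
theorem lt_three_mul_psl (hF : Fintype.card F % 8 = 3 ∨ Fintype.card F % 8 = 5)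
    (h5 : 5 ≤ Fintype.card F) {a : PSL2} (ha : orderOf a = 2) :
    Nat.card {j : PSL2 // orderOf j = 2} <
      3 * Nat.card {j : PSL2 // orderOf j = 2 ∧ Odd (orderOf (j * a))} := by
  have hodd : Fintype.card F % 2 = 1 := by omega
  have h2 : (2 : F) ≠ 0 := two_ne_zero_iff.2 (Nat.odd_iff.2 hodd)
  have hL := Lib.Linear.two_mul_card_PSL_two_of_odd (F := F) (Nat.odd_iff.2 hodd)
  have hN := card_involutions_mul h2 ha
  have hsame : ∀ u : PSL2, orderOf u = 2 → partners u = partners a := by
    intro u hu
    refine Nat.eq_of_mul_eq_mul_left (show 0 < 2 by norm_num) ?_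
    rw [partners, partners, two_mul_card_partners h2 hu, two_mul_card_partners h2 ha]
    haveI : Nonempty {w : PSL2 // orderOf w = 2} := ⟨⟨a, ha⟩⟩
    exact Nat.eq_of_mul_eq_mul_left (Nat.card_pos (α := {w : PSL2 // orderOf w = 2}))
      ((card_involutions_mul h2 hu).trans hN.symm)
  have hle : Nat.card (centralizer ({a} : Set PSL2)) ≤ Fintype.card F + 1 := by
    obtain ⟨x, rfl, hx⟩ := Invol.trace_zero_of_involution ha
    have hp := index_mul_card_pre x
    rw [← hL, ← Subgroup.card_mul_index (centralizer {proj x})] at hp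
    have hpre : Nat.card (pre x) = 2 * Nat.card (centralizer ({proj x} : Set PSL2)) := by
      refine Nat.eq_of_mul_eq_mul_left
        (Nat.pos_of_ne_zero (Subgroup.FiniteIndex.index_ne_zero (H := centralizer {proj x}))) ?_
      rw [hp]
      ring
    obtain ⟨h1, h3⟩ := Invol.card_pre h2 hx
    rcases (show Fintype.card F % 4 = 1 ∨ Fintype.card F % 4 = 3 by omega) with h | h
    · have := h1 h; omega
    · have := h3 h; omega
  have hP : 2 * partners a = Nat.card (centralizer ({a} : Set PSL2)) := two_mul_card_partners h2 ha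
  have hb := card_even_le ha hsame
  have hs := card_add (a := a)
  set N := Nat.card {j : PSL2 // orderOf j = 2}
  set m := partners a
  set q := Fintype.card F
  obtain ⟨q', hq'⟩ : ∃ q', q = q' + 1 := ⟨q - 1, by omega⟩
  rw [← hP] at hN hle
  rw [← hN, hq', Nat.add_sub_cancel] at hL
  rw [hq'] at hle
  have hkey : 3 * (m * (m - 1)) < 2 * N := by
    rcases Nat.eq_zero_or_pos m with h0 | h0
    · rw [h0] at hL ⊢
      have : 0 < (q' + 1) * q' * (q' + 1 + 1) := Nat.mul_pos (Nat.mul_pos (by omega) (by omega)) (by omega)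
      omega
    obtain ⟨m', hm'⟩ : ∃ m', m = m' + 1 := ⟨m - 1, by omega⟩
    rw [hm', Nat.add_sub_cancel]
    rw [hm'] at hL hle
    have hq : 4 ≤ q' := by omega
    have hm2 : 2 * m' ≤ q' := by omega
    refine Nat.lt_of_mul_lt_mul_left (a := 2 * (m' + 1)) ?_
    calc 2 * (m' + 1) * (3 * ((m' + 1) * m')) = 6 * ((m' + 1) * (m' + 1)) * m' := by ring
      _ < (q' + 1) * q' * (q' + 1 + 1) := by
        have h1 : (2 * (m' + 1)) * (2 * (m' + 1)) * (2 * m') ≤
            (q' + 2) * (q' + 2) * q' := by
          gcongr
        have h2 : 3 * ((q' + 2) * (q' + 2) * q') < 4 * ((q' + 1) * q' * (q' + 1 + 1)) := by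
          have : 3 * (q' + 2) < 4 * (q' + 1) := by omega
          calc 3 * ((q' + 2) * (q' + 2) * q') = 3 * (q' + 2) * ((q' + 2) * q') := by ring
            _ < 4 * (q' + 1) * ((q' + 2) * q') :=
              Nat.mul_lt_mul_of_pos_right this (by positivity)
            _ = _ := by ring
        nlinarith [h1, h2]
      _ = 2 * (m' + 1) * (2 * N) := by rw [← hL]; ring
  omega

end PSL

/-- More than a third of the involutions have product of odd order with a given one. -/
theorem lt_three_mul (hK : IsOddType L) {a : L} (ha : orderOf a = 2) :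
    Nat.card {j : L // orderOf j = 2} <
      3 * Nat.card {j : L // orderOf j = 2 ∧ Odd (orderOf (j * a))} := by
  obtain ⟨F, _, _, h1, h2, ⟨e⟩⟩ := hK
  haveI : Finite (Matrix.ProjectiveSpecialLinearGroup (Fin 2) F) := Finite.of_equiv L e.toEquiv
  have h := lt_three_mul_psl h1 h2 (a := e a) (by rw [MulEquiv.orderOf_eq, ha])
  rw [Nat.card_congr (e.toEquiv.subtypeEquiv (q := fun j => orderOf j = 2) fun j => by
      rw [show e.toEquiv j = e j from rfl, MulEquiv.orderOf_eq]),
    Nat.card_congr (e.toEquiv.subtypeEquiv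
      (q := fun j => orderOf j = 2 ∧ Odd (orderOf (j * e a))) fun j => by
      rw [show e.toEquiv j = e j from rfl, MulEquiv.orderOf_eq, ← map_mul, MulEquiv.orderOf_eq])]
  exact h

end Cfsg.Agent.Lib.Goldschmidt53.RankTwoBadOne.OddType
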