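import Cfsg.Agent.Lib.Goldschmidt53.RankTwoBadOne.Defs
import Cfsg.Agent.Lib.Goldschmidt53.RankTwoBadOne.OddType
import Cfsg.Agent.Lib.Goldschmidt53.RankTwoKey
import Cfsg.Agent.Lib.Balance.LocalBalance
import Cfsg.Agent.Lib.SolvCentAb12.Lift
import Cfsg.Agent.Lib.Walter.Bar
import Cfsg.Agent.Lib.U3Type59.Closed

/-!
# Rank two, bad involutions: the component

A bad involution `u` has a component `K` in `C(u)` modulo the core which contains the image of `A`
and is `PSL(2, q)`, `q ≡ 3, 5 mod 8`.  Every 2-element of `C(u) ∩ C(A)` is an element of `A` times one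
centralising `K`, that is one commuting with an element of `C(u) ∩ N(A)` which moves `A`.  An
involution centralising `K` is bad.

Owner: helper72.
-/

set_option autoImplicit false
set_option linter.style.haveILetI false
set_option linter.unusedSectionVars false

universe u

namespace Cfsg.Agent.Lib.Goldschmidt53.RankTwoBadOne

open Subgroup
open scoped Pointwise
open Cfsg.Agent.Lib.Walter (CBar liftBar coreC core imageBar proj mem_imageBar proj_eq_one_iff
  proj_surjective)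
open Cfsg.Agent.Lib.Goldschmidt53.RankTwoBad (Setting IsD IsProd)

/-- Pullback of the odd core of a centraliser along an injective map. -/
theorem mem_core_of_map {M N : Type*} [Group M] [Group N] [Finite M] [Finite N] (f : M →* N)
    (hf : Function.Injective f) {t x : M} (h : f x ∈ core (f t)) : x ∈ core t := by
  refine Walter.le_core (D := (core (f t)).comap f) (fun z hz => ?_) (fun z hz => ?_) ?_
    (mem_comap.2 h)
  · refine mem_centralizer_singleton_iff.2 (hf ?_)
    rw [map_mul, map_mul]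
    exact mem_centralizer_singleton_iff.1 (Walter.core_le (f t) hz)
  · have hz' : f z ∈ normalizer ((core (f t) : Subgroup N) : Set N) :=
      Walter.centralizer_le_normalizer_core (f t) (mem_centralizer_singleton_iff.2 (by
        rw [← map_mul, ← map_mul, mem_centralizer_singleton_iff.1 hz]))
    refine mem_normalizer_iff.2 fun d => ?_
    rw [mem_comap, mem_comap, map_mul, map_mul, map_inv]
    exact mem_normalizer_iff.1 hz' (f d)
  · refine (Walter.odd_core (f t)).of_dvd_nat ?_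
    rw [← card_map_of_injective hf]
    exact card_dvd_of_le (map_comap_le _ _)

variable {G : Type u} [Group G] [Finite G] {S : Sylow 2 G} {A : Subgroup G}

section Lift

variable {B : Subgroup G}

/-- A 2-element of the core is trivial. -/
theorem eq_one_of_two {T : Subgroup G} (hT : IsPGroup 2 ↥T) {x : G} (hx : x ∈ T)
    (hc : x ∈ coreC B) : x = 1 := by
  obtain ⟨k, hk⟩ := IsPGroup.iff_orderOf.1 hT ⟨x, hx⟩
  rw [Subgroup.orderOf_mk] at hk
  exact orderOf_eq_one_iff.1 (Nat.eq_one_of_dvd_coprimes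
    ((Nat.coprime_two_left.2 (Walter.odd_coreC B)).pow_left k) (hk ▸ dvd_rfl)
    (Subgroup.orderOf_dvd_natCard _ hc))

/-- The projection is injective on 2-subgroups. -/
theorem proj_inj {T : Subgroup G} (hT : IsPGroup 2 ↥T) {x y : ↥(centralizer (B : Set G))}
    (hx : (x : G) ∈ T) (hy : (y : G) ∈ T) (he : proj B x = proj B y) : (x : G) = y := by
  refine inv_mul_eq_one.1 (eq_one_of_two (B := B) hT (mul_mem (inv_mem hx) hy) ?_)
  refine (proj_eq_one_iff (mul_mem (inv_mem x.2) y.2)).1 ?_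
  show proj B (x⁻¹ * y) = 1
  rw [map_mul, map_inv, he, inv_mul_cancel]

/-- Lifting centralisers of 2-subgroups. -/
theorem exists_lift_centralizer {P : Subgroup G} (hP : IsPGroup 2 ↥P)
    (hPC : P ≤ centralizer (B : Set G)) {y : CBar B}
    (hy : ∀ a (ha : a ∈ P), proj B ⟨a, hPC ha⟩ * y = y * proj B ⟨a, hPC ha⟩) :
    ∃ x : ↥(centralizer (B : Set G)), (x : G) ∈ centralizer (P : Set G) ∧ proj B x = y := by
  haveI : Fact (Nat.Prime 2) := ⟨Nat.prime_two⟩
  obtain ⟨⟨x₀, hx₀⟩, rfl⟩ := proj_surjective B y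
  obtain ⟨j, hj⟩ := IsPGroup.iff_card.1 hP
  have hcop : (Nat.card ↥P).Coprime (Nat.card ↥(coreC B)) := by
    rw [hj]
    exact (Nat.coprime_two_left.2 (Walter.odd_coreC B)).pow_left j
  obtain ⟨n, hn, hnx⟩ := Coprime.exists_fixed_mul (A := P) (N := coreC B)
    (hPC.trans (Walter.centralizer_le_normalizer_coreC B)) hcop
    (Or.inr (OddOrder.FeitThompson.isSolvable_of_odd_card (Walter.odd_coreC B))) (k := x₀)
    fun a ha => by
      refine (proj_eq_one_iff (mul_mem (mul_mem (mul_mem (hPC ha) hx₀) (inv_mem (hPC ha)))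
        (inv_mem hx₀))).1 ?_
      show proj B (⟨a, hPC ha⟩ * ⟨x₀, hx₀⟩ * ⟨a, hPC ha⟩⁻¹ * ⟨x₀, hx₀⟩⁻¹) = 1
      rw [map_mul, map_mul, map_mul, map_inv, map_inv, hy a ha, mul_inv_cancel_right, mul_inv_cancel]
  refine ⟨⟨n, Walter.coreC_le B hn⟩ * ⟨x₀, hx₀⟩, hnx, ?_⟩
  rw [map_mul, (proj_eq_one_iff (Walter.coreC_le B hn)).2 hn, one_mul]

/-- Lifting normalisers of 2-subgroups. -/
theorem exists_lift_normalizer {T : Subgroup G} (hT : IsPGroup 2 ↥T)
    (hTC : T ≤ centralizer (B : Set G)) {y : CBar B}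
    (hy : ∀ t (ht : t ∈ T), y * proj B ⟨t, hTC ht⟩ * y⁻¹ ∈ imageBar B T) :
    ∃ n : ↥(centralizer (B : Set G)), proj B n = y ∧ (n : G) ∈ normalizer (T : Set G) := by
  haveI : Fact (Nat.Prime 2) := ⟨Nat.prime_two⟩
  obtain ⟨⟨g, hg⟩, rfl⟩ := proj_surjective B y
  obtain ⟨j, hj⟩ := IsPGroup.iff_card.1 hT
  have hcop : (Nat.card ↥T).Coprime (Nat.card ↥(coreC B)) := by
    rw [hj]
    exact (Nat.coprime_two_left.2 (Walter.odd_coreC B)).pow_left j
  have hle : MulAut.conj g • T ≤ T ⊔ coreC B := by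
    intro x hx
    rw [Coprime.mem_conj_smul] at hx
    have hxC : x ∈ centralizer (B : Set G) := by
      have := mul_mem (mul_mem hg (hTC hx)) (inv_mem hg)
      simpa [mul_assoc] using this
    obtain ⟨⟨t, htC⟩, ht, he⟩ := hy _ hx
    rw [← map_inv, ← map_mul, ← map_mul,
      show (⟨g, hg⟩ * ⟨g⁻¹ * x * g, hTC hx⟩ * ⟨g, hg⟩⁻¹ : ↥(centralizer (B : Set G))) = ⟨x, hxC⟩
        from Subtype.ext (by show g * (g⁻¹ * x * g) * g⁻¹ = x; group)] at he
    have h1 : t⁻¹ * x ∈ coreC B := by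
      refine (proj_eq_one_iff (mul_mem (inv_mem htC) hxC)).1 ?_
      show proj B (⟨t, htC⟩⁻¹ * ⟨x, hxC⟩) = 1
      rw [map_mul, map_inv, he, inv_mul_cancel]
    have := mul_mem (mem_sup_left (T := coreC B) (mem_subgroupOf.1 ht)) (mem_sup_right (S := T) h1)
    simpa using this
  obtain ⟨c, hc, hco⟩ := Coprime.exists_conj_eq_of_coprime
    (hTC.trans (Walter.centralizer_le_normalizer_coreC B)) hcop
    (Or.inr (OddOrder.FeitThompson.isSolvable_of_odd_card (Walter.odd_coreC B))) hle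
    (Coprime.card_conj_smul _ _)
  refine ⟨⟨c, Walter.coreC_le B hc⟩⁻¹ * ⟨g, hg⟩, ?_, Coprime.mem_normalizer_of_conj_smul_eq ?_⟩
  · rw [map_mul, map_inv, (proj_eq_one_iff (Walter.coreC_le B hc)).2 hc, inv_one, one_mul]
  · show MulAut.conj (c⁻¹ * g) • T = T
    rw [Coprime.conj_smul_mul, ← hco, ← Coprime.conj_smul_mul, inv_mul_cancel, map_one, one_smul]

end Lift

section Setting

variable (h : Setting S A)
include h

theorem closed_of_le {U : Sylow 2 G} (hU : A ≤ (U : Subgroup G)) :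
    Cfsg.IsStronglyClosed A (U : Subgroup G) :=
  Pairs.closed_of_le h.hyp hU

/-- A 2-subgroup containing `A` centralises it. -/
theorem le_centralizer_of_isPGroup {T : Subgroup G} (hT : IsPGroup 2 ↥T) (hAT : A ≤ T) :
    T ≤ centralizer (A : Set G) := by
  intro t ht
  refine mem_centralizer_iff.2 fun a ha => ?_
  by_cases ha1 : a = 1
  · rw [ha1, one_mul, mul_one]
  · exact h.isD_commute (Setting.isD_of_mem ha ha1) hT (hAT ha) ht

/-- A 2-subgroup centralising `A` lies with it in a 2-subgroup. -/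
theorem isPGroup_sup {T : Subgroup G} (hT : IsPGroup 2 ↥T)
    (hTC : T ≤ centralizer (A : Set G)) : IsPGroup 2 ↥(A ⊔ T) :=
  (PGroups.elemAb_isPGroup h.hyp.elem).to_sup_of_normal_left' hT
    (hTC.trans (centralizer_le_normalizer _))

/-- Such a subgroup is moved into `S` by an element of `N(A)`. -/
theorem exists_conj_le {T : Subgroup G} (hT : IsPGroup 2 ↥T)
    (hTC : T ≤ centralizer (A : Set G)) :
    ∃ k ∈ normalizer (A : Set G), ∀ t ∈ T, k * t * k⁻¹ ∈ (S : Subgroup G) := by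
  haveI : Fact (Nat.Prime 2) := ⟨Nat.prime_two⟩
  obtain ⟨U, hU⟩ := (isPGroup_sup h hT hTC).exists_le_sylow
  obtain ⟨k, hk⟩ := MulAction.exists_smul_eq G U S
  have hmem : ∀ t ∈ A ⊔ T, k * t * k⁻¹ ∈ (S : Subgroup G) := fun t ht =>
    ZStar.Elements.smul_mem hk (hU ht)
  refine ⟨k, RankTwoKey.mem_normalizer_of_map_le ?_, fun t ht => hmem t (mem_sup_right ht)⟩
  rintro _ ⟨a, ha, rfl⟩
  exact h.hyp.closed.2 a ha k (hmem a (mem_sup_left ha))

theorem normalizer_le_normalizer_centralizer {n : G} (hn : n ∈ normalizer (A : Set G)) {x : G}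
    (hx : x ∈ centralizer (A : Set G)) : n * x * n⁻¹ ∈ centralizer (A : Set G) := by
  refine mem_centralizer_iff.2 fun a ha => ?_
  have h1 : n⁻¹ * a * n ∈ A := by simpa using h.conj_mem (inv_mem hn) ha
  calc a * (n * x * n⁻¹) = n * ((n⁻¹ * a * n) * x) * n⁻¹ := by group
    _ = n * (x * (n⁻¹ * a * n)) * n⁻¹ := by rw [mem_centralizer_iff.1 hx _ h1]
    _ = n * x * n⁻¹ * a := by group

/-- Fusion of 2-elements of `C(A)` happens in `N(A)`. -/
theorem fusion_of {x : G} (hx : IsPGroup 2 ↥(zpowers x)) (hxA : x ∈ centralizer (A : Set G)) {g : G}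
    (hgx : g * x * g⁻¹ ∈ centralizer (A : Set G)) :
    ∃ n ∈ normalizer (A : Set G), n * x * n⁻¹ = g * x * g⁻¹ := by
  obtain ⟨k, hk, hkS⟩ := exists_conj_le h hx (zpowers_le.2 hxA)
  have hgp : IsPGroup 2 ↥(zpowers (g * x * g⁻¹)) := by
    have := hx.map (MulAut.conj g).toMonoidHom
    rwa [MonoidHom.map_zpowers] at this
  obtain ⟨l, hl, hlS⟩ := exists_conj_le h hgp (zpowers_le.2 hgx)
  have e : l * g * k⁻¹ * (k * x * k⁻¹) * (l * g * k⁻¹)⁻¹ = l * (g * x * g⁻¹) * l⁻¹ := by group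
  obtain ⟨n, hn, hne⟩ := h.hyp.fusion (hkS x (mem_zpowers x)) (g := l * g * k⁻¹)
    (e ▸ hlS _ (mem_zpowers _))
  rw [e] at hne
  refine ⟨l⁻¹ * n * k, mul_mem (mul_mem (inv_mem hl) hn) hk, ?_⟩
  calc l⁻¹ * n * k * x * (l⁻¹ * n * k)⁻¹ = l⁻¹ * (n * (k * x * k⁻¹) * n⁻¹) * l := by group
    _ = g * x * g⁻¹ := by rw [hne]; group

/-- An element of `N(A)` which moves `A` fixes only `1`. -/
theorem eq_one_of_fixed {n a : G} (hn : n ∈ normalizer (A : Set G))
    (hnC : n ∉ centralizer (A : Set G)) (ha : a ∈ A) (he : n * a = a * n) : a = 1 := by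
  by_contra ha1
  exact hnC (h.mem_centralizer_of_fixed hn ha ha1 (mul_inv_eq_iff_eq_mul.2 he))

end Setting

namespace Bad

variable {u : G}

theorem ne_one (hu : Bad A u) : u ≠ 1 := fun e => hu.notMem (e ▸ one_mem A)

theorem orderOf_eq (hu : Bad A u) : orderOf u = 2 := by
  haveI : Fact (Nat.Prime 2) := ⟨Nat.prime_two⟩
  exact orderOf_eq_prime (by rw [pow_two]; exact hu.sq) hu.ne_one

theorem isPGroup_zpowers (hu : Bad A u) : IsPGroup 2 ↥(zpowers u) :=
  IsPGroup.of_card (n := 1) (by rw [Nat.card_zpowers, hu.orderOf_eq, pow_one])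

theorem le_centralizer (hu : Bad A u) : A ≤ centralizer (zpowers u : Set G) := by
  intro a ha
  rw [Walter.centralizer_zpowers, mem_centralizer_singleton_iff]
  exact mem_centralizer_iff.1 hu.cent a ha

variable (h : Setting S A)
include h

/-- Badness is preserved by `N(A)`. -/
theorem conj (hu : Bad A u) {n : G} (hn : n ∈ normalizer (A : Set G)) : Bad A (n * u * n⁻¹) := by
  refine ⟨normalizer_le_normalizer_centralizer h hn hu.cent, fun e => hu.notMem ?_, ?_,
    fun hg => hu.bad fun a ha ha1 y hy => ?_⟩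
  · simpa [mul_assoc] using h.conj_mem (inv_mem hn) e
  · calc n * u * n⁻¹ * (n * u * n⁻¹) = n * (u * u) * n⁻¹ := by group
      _ = 1 := by rw [hu.sq, mul_one, mul_inv_cancel]
  · have h1 : n * y * n⁻¹ ∈ core (n * a * n⁻¹) := by
      rw [Walter.core_conj]
      exact mem_map_of_mem (MulAut.conj n).toMonoidHom hy.1
    have h2 := hg _ (h.conj_mem hn ha) (fun e => ha1 (conj_eq_one_iff.1 e))
      ⟨h1, mem_centralizer_singleton_iff.2 (by
        calc n * y * n⁻¹ * (n * u * n⁻¹) = n * (y * u) * n⁻¹ := by group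
          _ = n * (u * y) * n⁻¹ := by rw [mem_centralizer_singleton_iff.1 hy.2]
          _ = _ := by group)⟩
    rw [Walter.core_conj] at h2
    obtain ⟨z, hz, hze⟩ := h2
    exact (MulAut.conj n).injective hze ▸ hz

/-- The component. -/
theorem exists_badComp (hu : Bad A u) : ∃ K, BadComp A u K := by
  classical
  haveI : Fact (Nat.Prime 2) := ⟨Nat.prime_two⟩
  set B := zpowers u with hB
  have hB1 : B ≠ ⊥ := fun e => hu.ne_one (zpowers_eq_bot.1 e)
  have hAC := hu.le_centralizer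
  have hAp : IsPGroup 2 ↥A := PGroups.elemAb_isPGroup h.hyp.elem
  have hd := h.decomp hB1 hAC
  obtain ⟨a, ha, ha1, y, ⟨hy, hyu⟩, hyn⟩ : ∃ a ∈ A, a ≠ 1 ∧
      ∃ y ∈ core a ⊓ centralizer ({u} : Set G), y ∉ core u := by
    by_contra hcon
    push Not at hcon
    exact hu.bad fun a ha ha1 y hy => hcon a ha ha1 y hy
  have hyC : y ∈ centralizer (B : Set G) := by rw [hB, Walter.centralizer_zpowers]; exact hyu
  set ab : CBar B := proj B ⟨a, hAC ha⟩ with hab
  set yb : CBar B := proj B ⟨y, hyC⟩ with hyb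
  have hinjA : ∀ {x z : G} (hx : x ∈ A) (hz : z ∈ A),
      proj B ⟨x, hAC hx⟩ = proj B ⟨z, hAC hz⟩ → x = z := fun hx hz he => proj_inj hAp hx hz he
  have hab1 : ab ≠ 1 := fun e => ha1 (hinjA ha (one_mem A) (by rw [← hab, e]; exact (map_one _).symm))
  have haO : orderOf ab = 2 := by
    refine orderOf_eq_prime ?_ hab1
    rw [hab, ← map_pow, show (⟨a, hAC ha⟩ : ↥(centralizer (B : Set G))) ^ 2 = 1 from Subtype.ext (by
      rw [SubgroupClass.coe_pow, pow_two, OneMemClass.coe_one]; exact h.sq ha), map_one]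
  have hyb1 : yb ≠ 1 := fun e => hyn (by
    rw [← Walter.coreC_zpowers, ← hB]
    exact (proj_eq_one_iff hyC).1 e)
  set Y := imageBar B (core a) with hY
  have hYodd : Odd (Nat.card ↥Y) := (Walter.odd_core a).of_dvd_nat Walter.card_imageBar_dvd
  have hyY : yb ∈ Y := mem_imageBar hyC hy
  have hlift : ∀ z : CBar B, z * ab = ab * z →
      ∃ c : ↥(centralizer (B : Set G)), (c : G) * a = a * c ∧ proj B c = z := by
    intro z hz
    have h1 := SolvCentAb12.map_centralizer_invol (Cfsg.oddCore ↥(centralizer (B : Set G)))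
      U3Type59.oddCore_odd' (t := (⟨a, hAC ha⟩ : ↥(centralizer (B : Set G))))
      (by rw [Subgroup.orderOf_mk]; exact h.orderOf_eq ha ha1)
    have h2 : z ∈ centralizer ({ab} : Set (CBar B)) := mem_centralizer_singleton_iff.2 hz
    rw [show ab = QuotientGroup.mk (⟨a, hAC ha⟩ : ↥(centralizer (B : Set G))) from rfl, ← h1] at h2
    obtain ⟨c, hc, rfl⟩ := h2
    exact ⟨c, congrArg Subtype.val (mem_centralizer_singleton_iff.1 hc), rfl⟩
  have hYcore : yb ∈ core ab := by
    refine Walter.le_core (D := Y) ?_ (fun z hz => ?_) hYodd hyY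
    · rintro _ ⟨⟨c, hc⟩, hca, rfl⟩
      refine mem_centralizer_singleton_iff.2 ?_
      rw [hab, ← map_mul, ← map_mul]
      exact congrArg _ (Subtype.ext
        (mem_centralizer_singleton_iff.1 (Walter.core_le a (mem_subgroupOf.1 hca))))
    · obtain ⟨c, hca, rfl⟩ := hlift z (mem_centralizer_singleton_iff.1 hz)
      refine RankTwoKey.mem_normalizer_of_map_le ?_
      rintro _ ⟨_, ⟨d, hd, rfl⟩, rfl⟩
      refine ⟨c * d * c⁻¹, mem_subgroupOf.2 ?_, by simp⟩
      exact (mem_normalizer_iff.1 (Walter.centralizer_le_normalizer_core a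
        (mem_centralizer_singleton_iff.2 hca)) _).1 (mem_subgroupOf.1 hd)
  have hbar : Cfsg.pPrimeCore 2 (CBar B) = ⊥ := Walter.barCore B
  -- the component not centralised by `yb`
  obtain ⟨L, hL, hyL⟩ : ∃ L : Subgroup (CBar B), Cfsg.IsComponent L ∧
      yb ∉ centralizer (L : Set (CBar B)) := by
    by_contra hcon
    push Not at hcon
    refine hyb1 (Balance.eq_one_of_centralizes hbar (Balance.coprime_orderOf_core hYcore) ?_ hcon)
    exact (Balance.coreIn_normalizer_le (R := zpowers ab) (IsPGroup.of_card (n := 1)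
      (by rw [Nat.card_zpowers, haO, pow_one])) (Balance.centralizerPPrimeCore_eq_coreIn haO ▸ hYcore)).1
  have hmov : ⁅L, zpowers ab⁆ = L := by
    by_contra hne
    exact hyL (Balance.centralizerPPrimeCore_le_centralizer hbar haO hL hne hYcore)
  have hAL : ¬ imageBar B A ≤ centralizer (L : Set (CBar B)) := fun hle => by
    refine Components.Component.ne_bot hL (hmov.symm.trans ?_)
    rw [commutator_eq_bot_iff_le_centralizer, le_centralizer_iff, zpowers_le]
    exact hle (mem_imageBar (hAC ha) ha)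
  obtain ⟨hAle, hAZ⟩ := h.bar_le_component hd hL hAL
  have habL : ab ∈ L := hAle (mem_imageBar (hAC ha) ha)
  -- it is normal
  haveI hLn : L.Normal := by
    refine ⟨fun l hl g => ?_⟩
    obtain ⟨k, hk, hkg⟩ := hd.frattini g
    have hconj := Components.Component.conj hL (k * g)
    have heq : L.map (MulAut.conj (k * g)).toMonoidHom = L := by
      by_contra hne
      have hle : imageBar B A ≤ L.map (MulAut.conj (k * g)).toMonoidHom := fun x hx =>
        ⟨(k * g)⁻¹ * x * (k * g), hAle (by simpa using (mem_normalizer_iff.1 (inv_mem hkg) x).1 hx),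
          by show k * g * ((k * g)⁻¹ * x * (k * g)) * (k * g)⁻¹ = x; group⟩
      refine hab1 (congrArg Subtype.val (hAZ ⟨ab, habL⟩ (mem_imageBar (hAC ha) ha)
        (mem_center_iff.2 fun z => Subtype.ext ?_)))
      exact mem_centralizer_iff.1 (Components.Component.le_centralizer_of_ne hconj hL hne
        (hle (mem_imageBar (hAC ha) ha))) z z.2
    have hkN : k ∈ normalizer (L : Set (CBar B)) := Components.Layer.layer_le_normalizer hL hk
    have h1 : (k * g) * l * (k * g)⁻¹ ∈ L := heq ▸ mem_map_of_mem (MulAut.conj (k * g)).toMonoidHom hl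
    have h2 := (mem_normalizer_iff.1 (inv_mem hkN) _).1 h1
    rw [show k⁻¹ * (k * g * l * (k * g)⁻¹) * k⁻¹⁻¹ = g * l * g⁻¹ by group] at h2
    exact h2
  obtain ⟨hkn, P, hP⟩ := (hd.cases L hL).resolve_left hAL
  have F := h.facts _ hkn
  haveI := F.simple
  set q := QuotientGroup.mk' (Subgroup.center ↥L) with hq
  set qa := q ⟨ab, habL⟩ with hqa
  have hqa2 : orderOf qa = 2 := by
    refine orderOf_eq_prime ?_ fun e => hab1 (congrArg Subtype.val
      (hAZ ⟨ab, habL⟩ (mem_imageBar (hAC ha) ha) ((QuotientGroup.eq_one_iff _).1 e)))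
    rw [hqa, ← map_pow, show (⟨ab, habL⟩ : ↥L) ^ 2 = 1 from Subtype.ext (by
      rw [SubgroupClass.coe_pow, OneMemClass.coe_one]
      exact (congrArg (ab ^ ·) haO).symm.trans (pow_orderOf_eq_one ab)), map_one]
  -- the core in the simple quotient
  have hcore : core qa ≠ ⊥ := by
    intro hbot
    set H := L ⊔ centralizer ({ab} : Set (CBar B)) with hH
    have hHN : H ≤ normalizer (L : Set (CBar B)) := by rw [normalizer_eq_top]; exact le_top
    set ψ := Balance.conjHom L H hHN with hψ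
    have haH : ab ∈ H := mem_sup_left habL
    have hyH : yb ∈ H := mem_sup_right (Walter.core_le ab hYcore)
    have hker : ψ.rangeRestrict.ker = (centralizer (L : Set (CBar B))).subgroupOf H := by
      rw [MonoidHom.ker_rangeRestrict]
      exact Balance.conjHom_ker hL hHN
    have hw := Balance.map_mem_centralizerPPrimeCore hbar hL haO hYcore le_sup_left hHN
      (fun x hx => Balance.decomp_sup (le_top.trans (normalizer_eq_top (H := L)).ge) hx)
      ψ.rangeRestrict ψ.rangeRestrict_surjective hker haH hyH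
    set w := ψ.rangeRestrict ⟨yb, hyH⟩ with hwdef
    have hZq : Subgroup.center (↥L ⧸ Subgroup.center ↥L) = ⊥ :=
      FTClassSize.center_eq_bot_of_simple F.nonabelian
    let f : (↥L ⧸ Subgroup.center ↥L) →* ↥ψ.range :=
      MonoidHom.codRestrict MulAut.conj ψ.range fun x =>
        Balance.range_conj_le_range_conjHom hHN le_sup_left ⟨x, rfl⟩
    have hf : Function.Injective f := by
      refine (injective_iff_map_eq_one f).2 fun x hx => ?_
      rw [← mem_bot, ← hZq, mem_center_iff]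
      intro z
      have e : x * z * x⁻¹ = z := DFunLike.congr_fun (congrArg Subtype.val hx) z
      exact (mul_inv_eq_iff_eq_mul.1 e).symm
    have hfa : f qa = ψ.rangeRestrict ⟨ab, haH⟩ := by
      refine Subtype.ext (MulEquiv.ext fun x => ?_)
      induction x using QuotientGroup.induction_on with
      | H l => rfl
    set α : MulAut (↥L ⧸ Subgroup.center ↥L) := ψ ⟨yb, hyH⟩ with hα
    have hfix : ∀ x, x * qa = qa * x → α x = x := by
      intro x hx
      have hfe : f (α x * x⁻¹) = w * (f x * w⁻¹ * (f x)⁻¹) := by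
        refine Subtype.ext (MulEquiv.ext fun z => ?_)
        show α x * x⁻¹ * z * (α x * x⁻¹)⁻¹ = α (x * (α.symm (x⁻¹ * z * x)) * x⁻¹)
        rw [map_mul, map_mul, MulEquiv.apply_symm_apply, map_inv]
        group
      have hmem : f (α x * x⁻¹) ∈ core (f qa) := by
        rw [hfe, hfa]
        refine mul_mem hw ((mem_normalizer_iff.1 (Walter.centralizer_le_normalizer_core _ ?_) _).1
          (inv_mem hw))
        rw [← hfa, mem_centralizer_singleton_iff, ← map_mul, ← map_mul, hx]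
      have := mem_core_of_map f hf hmem
      rw [hbot, mem_bot, mul_inv_eq_one] at this
      exact this
    have hα1 : α = 1 := by
      refine F.aut qa hqa2 α ((Odd.of_dvd_nat hYodd ?_)) hfix
      refine (orderOf_map_dvd ψ _).trans ?_
      rw [Subgroup.orderOf_mk]
      exact Subgroup.orderOf_dvd_natCard _ hyY
    refine hyL ?_
    have hm : (⟨yb, hyH⟩ : ↥H) ∈ (centralizer (L : Set (CBar B))).subgroupOf H := by
      rw [← hker, MonoidHom.ker_rangeRestrict]
      exact hα1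
    exact hm
  have hodd := OddType.of_core hkn hqa2 hcore
  have hb := OddType.basic hodd
  -- the centre is trivial
  have hAcard : Nat.card ↥(imageBar B A) = 4 := by
    rw [← h.card]
    refine (Nat.card_eq_of_bijective (fun x : ↥A => (⟨proj B ⟨x, hAC x.2⟩, mem_imageBar _ x.2⟩ :
      ↥(imageBar B A))) ⟨fun x z he => Subtype.ext (hinjA x.2 z.2 (congrArg Subtype.val he)), ?_⟩).symm
    rintro ⟨_, ⟨⟨z, hz⟩, hzA, rfl⟩⟩
    exact ⟨⟨z, mem_subgroupOf.1 hzA⟩, rfl⟩
  set Al := (imageBar B A).subgroupOf L with hAl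
  have hAl4 : Nat.card ↥Al = 4 := by
    rw [Nat.card_congr (subgroupOfEquivOfLe hAle).toEquiv, hAcard]
  have hAlc : ∀ x ∈ Al, ∀ z ∈ Al, x * z = z * x := by
    rintro x ⟨⟨x', hx'⟩, hxA, hxe⟩ z ⟨⟨z', hz'⟩, hzA, hze⟩
    refine Subtype.ext ?_
    show L.subtype x * L.subtype z = L.subtype z * L.subtype x
    rw [← hxe, ← hze, ← map_mul, ← map_mul]
    exact congrArg _ (Subtype.ext (h.comm (mem_subgroupOf.1 hxA) (mem_subgroupOf.1 hzA)))
  obtain ⟨Q, hQ⟩ := (IsPGroup.of_card (p := 2) (n := 2) (hAl4.trans (by norm_num))).exists_le_sylow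
  have hQdec : ∀ x ∈ (Q : Subgroup ↥L), ∃ d ∈ Al, ∃ z ∈ Subgroup.center ↥L, x = d * z := by
    intro x hx
    obtain ⟨R, hR⟩ := (Q.2.map q).exists_le_sylow
    have hAlq : Nat.card ↥(Al.map q) = 4 := by
      rw [← hAl4]
      refine (Nat.card_eq_of_bijective (q.subgroupMap Al)
        ⟨(injective_iff_map_eq_one _).2 fun d hd => ?_, q.subgroupMap_surjective Al⟩).symm
      exact Subtype.ext (hAZ d.1 d.2 ((QuotientGroup.eq_one_iff _).1 (congrArg Subtype.val hd)))
    have he : Al.map q = (R : Subgroup (↥L ⧸ Subgroup.center ↥L)) :=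
      Subgroup.eq_of_le_of_card_ge ((map_mono hQ).trans hR) (by rw [(hb.sylow R).1, hAlq])
    obtain ⟨d, hd, hde⟩ := he.ge (hR (mem_map_of_mem q hx))
    exact ⟨d, hd, d⁻¹ * x, QuotientGroup.eq.1 hde, by group⟩
  have hQc : IsMulCommutative (Q : Subgroup ↥L) := ⟨⟨fun x z => Subtype.ext (by
    obtain ⟨d, hd, c, hc, hxe⟩ := hQdec x x.2
    obtain ⟨d', hd', c', hc', hze⟩ := hQdec z z.2
    show (x : ↥L) * z = z * x
    rw [hxe, hze]
    exact (Commute.mul_left (Commute.mul_right (hAlc d hd d' hd')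
      (Subgroup.mem_center_iff.1 hc' d)) (Subgroup.mem_center_iff.1 hc _).symm).eq)⟩⟩
  have hLz : Subgroup.center ↥L = ⊥ := by
    refine (eq_bot_iff_forall _).2 fun z hz => Walter.Pairs.eq_one_of_center hL.2.1 Q hQc ?_ hz
    refine (IsPGroup.le_sylow_of_normal (p := 2) (fun c => ?_) Q) hz
    have hle : (Subgroup.center ↥L).map L.subtype ≤ Cfsg.fittingSubgroup (CBar B) :=
      Cores.IsSubnormal.le_fittingSubgroup
        ((Subgroup.Normal.isSubnormal inferInstance).trans' hL.1)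
        (Cores.isNilpotent_map L.subtype (open scoped IsMulCommutative in CommGroup.isNilpotent))
    rw [Balance.fitting_eq_pCore hbar] at hle
    obtain ⟨i, hi⟩ := Cores.pCore_isPGroup 2 ⟨((c : ↥L) : CBar B),
      hle (mem_map_of_mem L.subtype c.2)⟩
    exact ⟨i, Subtype.ext (Subtype.ext (by simpa using congrArg Subtype.val hi))⟩
  have hqinj : Function.Injective q := (injective_iff_map_eq_one q).2 fun x hx => by
    rw [← mem_bot, ← hLz]
    exact (QuotientGroup.eq_one_iff x).1 hx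
  let e : ↥L ≃* (↥L ⧸ Subgroup.center ↥L) :=
    MulEquiv.ofBijective q ⟨hqinj, QuotientGroup.mk'_surjective _⟩
  refine ⟨L, hLn, ?_, hAle, a, ha, ha1, ?_⟩
  · obtain ⟨Fq, i1, i2, h1, h2, ⟨e'⟩⟩ := hodd
    exact ⟨Fq, i1, i2, h1, h2, ⟨e.trans e'⟩⟩
  obtain ⟨⟨k₀, hk₀⟩, hk₀1⟩ := Subgroup.ne_bot_iff_exists_ne_one.1 hcore
  obtain ⟨⟨k, hkL⟩, rfl⟩ := QuotientGroup.mk'_surjective _ k₀
  have hka : (k : CBar B) * ab = ab * k := by
    have := hqinj (a₁ := ⟨k, hkL⟩ * ⟨ab, habL⟩) (a₂ := ⟨ab, habL⟩ * ⟨k, hkL⟩) (by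
      rw [map_mul, map_mul]
      exact mem_centralizer_singleton_iff.1 (Walter.core_le qa hk₀))
    exact congrArg Subtype.val this
  refine ⟨k, hkL, mem_centralizer_iff.2 ?_, fun hkA => hk₀1 (Subtype.ext ?_)⟩
  · rintro _ ⟨⟨z, hz⟩, hza, rfl⟩
    obtain ⟨i, rfl⟩ := mem_zpowers_iff.1 (mem_subgroupOf.1 hza)
    show proj B ⟨a ^ i, hz⟩ * k = k * proj B ⟨a ^ i, hz⟩
    rw [show (⟨a ^ i, hz⟩ : ↥(centralizer (B : Set G))) = ⟨a, hAC ha⟩ ^ i from Subtype.ext (by simp),
      map_zpow]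
    exact ((show Commute k ab from hka).zpow_right i).symm.eq
  obtain ⟨b, hbA, hb1, hba⟩ := h.exists_ne (a := a)
  have hbL : proj B ⟨b, hAC hbA⟩ ∈ L := hAle (mem_imageBar _ hbA)
  set qb := q ⟨_, hbL⟩ with hqb
  have hqb2 : orderOf qb = 2 := by
    refine orderOf_eq_prime ?_ fun e => hb1 (hinjA hbA (one_mem A) ?_)
    · rw [hqb, ← map_pow, show (⟨_, hbL⟩ : ↥L) ^ 2 = 1 from Subtype.ext (by
        rw [SubgroupClass.coe_pow, ← map_pow, OneMemClass.coe_one,
          show (⟨b, hAC hbA⟩ : ↥(centralizer (B : Set G))) ^ 2 = 1 from Subtype.ext (by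
            rw [SubgroupClass.coe_pow, pow_two, OneMemClass.coe_one]; exact h.sq hbA), map_one]),
        map_one]
    · have : (⟨_, hbL⟩ : ↥L) = 1 := hqinj (by rw [← hqb, e, map_one])
      exact (congrArg Subtype.val this).trans (map_one _).symm
  have hcab : qa * qb = qb * qa := by
    rw [hqa, hqb, ← map_mul, ← map_mul]
    exact congrArg q (hAlc _ (mem_imageBar _ ha) _ (mem_imageBar _ hbA))
  have hkb : q ⟨k, hkL⟩ * qb = qb * q ⟨k, hkL⟩ := by
    rw [hqb, ← map_mul, ← map_mul]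
    exact congrArg q (Subtype.ext (mem_centralizer_iff.1 hkA _ (mem_imageBar _ hbA)).symm)
  have hsq : q ⟨k, hkL⟩ * q ⟨k, hkL⟩ = 1 := by
    rcases hb.klein qa qb (q ⟨k, hkL⟩) hqa2 hqb2 hcab
      (fun e => hba (hinjA hbA ha (congrArg Subtype.val (hqinj e)).symm))
      (mem_centralizer_singleton_iff.1 (Walter.core_le qa hk₀)) hkb with e | e | e | e <;> rw [e]
    · exact one_mul 1
    · exact Walter.Known.mul_self_of_orderOf hqa2
    · exact Walter.Known.mul_self_of_orderOf hqb2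
    · rw [(show Commute qb qa from hcab.symm).mul_mul_mul_comm qa qb,
        Walter.Known.mul_self_of_orderOf hqa2, Walter.Known.mul_self_of_orderOf hqb2, one_mul]
  exact RankTwoKey.mem_of_sq_mem (H := ⊥) (Walter.odd_core qa) hk₀ (mem_bot.2 hsq)

end Bad

namespace BadComp

variable {u : G} {K : Subgroup (CBar (zpowers u))} (hK : BadComp A u K)
include hK

theorem isKnown : Goldschmidt53.IsKnown ↥K := Or.inl (Or.inr (Or.inl hK.oddType))

theorem center_eq_bot (h : Setting S A) : Subgroup.center ↥K = ⊥ := by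
  haveI := (OddType.basic hK.oddType).simple
  exact FTClassSize.center_eq_bot_of_simple (h.facts _ hK.isKnown).nonabelian

theorem isComponent (h : Setting S A) : Cfsg.IsComponent K := by
  haveI := (OddType.basic hK.oddType).simple
  haveI := hK.normal
  exact ⟨Subgroup.Normal.isSubnormal inferInstance,
    Components.Quasisimple.of_isSimpleGroup (h.facts _ hK.isKnown).nonabelian⟩

/-- The part of `A` centralising `K` is trivial. -/
theorem eq_one_of_mem (h : Setting S A) {a : G} (ha : a ∈ A)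
    (hc : a ∈ liftBar (zpowers u) (centralizer (K : Set (CBar (zpowers u))))) : a = 1 := by
  obtain ⟨haC, hac⟩ := Walter.mem_liftBar.1 hc
  have haK : proj (zpowers u) ⟨a, haC⟩ ∈ K := hK.le (mem_imageBar haC ha)
  have h1 : (⟨_, haK⟩ : ↥K) ∈ Subgroup.center ↥K :=
    mem_center_iff.2 fun y => Subtype.ext (mem_centralizer_iff.1 hac y y.2)
  rw [hK.center_eq_bot h, mem_bot] at h1
  exact proj_inj (PGroups.elemAb_isPGroup h.hyp.elem) (x := ⟨a, haC⟩) (y := 1) ha (one_mem A)
    ((congrArg Subtype.val h1).trans (map_one _).symm)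

/-- The image of `A` is a Sylow subgroup. -/
theorem exists_sylow (h : Setting S A) (hu : Bad A u) : ∃ P : Sylow 2 ↥K,
    (P : Subgroup ↥K) = (imageBar (zpowers u) A).subgroupOf K ∧ Om P = (P : Subgroup ↥K) := by
  haveI : Fact (Nat.Prime 2) := ⟨Nat.prime_two⟩
  have hAp : IsPGroup 2 ↥(imageBar (zpowers u) A) :=
    ((PGroups.elemAb_isPGroup h.hyp.elem).comap_of_injective _ (subtype_injective _)).map _
  obtain ⟨P, hP⟩ := (hAp.comap_of_injective K.subtype K.subtype_injective).exists_le_sylow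
  have hb := OddType.basic hK.oddType
  have hO : Om P = (P : Subgroup ↥K) := Om_eq_of_sq_iff le_rfl fun x hx =>
    iff_of_true ((hb.sylow P).2 x hx) hx
  refine ⟨P, (Subgroup.eq_of_le_of_card_ge hP ?_).symm, hO⟩
  rw [(hb.sylow P).1]
  let f : ↥A → ↥((imageBar (zpowers u) A).subgroupOf K) := fun x =>
    ⟨⟨proj _ ⟨x, hu.le_centralizer x.2⟩, hK.le (mem_imageBar _ x.2)⟩, mem_imageBar _ x.2⟩
  rw [← h.card]
  refine Nat.card_le_card_of_injective f fun x z he => Subtype.ext ?_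
  exact proj_inj (PGroups.elemAb_isPGroup h.hyp.elem) (x := ⟨x, hu.le_centralizer x.2⟩)
    (y := ⟨z, hu.le_centralizer z.2⟩) x.2 z.2
    (congrArg (fun w : ↥((imageBar (zpowers u) A).subgroupOf K) => ((w : ↥K) : CBar (zpowers u))) he)

/-- A 2-element of `C(u) ∩ C(A)` is an element of `A` times one centralising `K`. -/
theorem exists_adjust (h : Setting S A) (hu : Bad A u) {t : G} (ht : IsPGroup 2 ↥(zpowers t))
    (htA : t ∈ centralizer (A : Set G)) (htu : t * u = u * t) :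
    ∃ a ∈ A, t * a ∈ liftBar (zpowers u) (centralizer (K : Set (CBar (zpowers u)))) := by
  haveI : Fact (Nat.Prime 2) := ⟨Nat.prime_two⟩
  haveI := hK.normal
  have htC : t ∈ centralizer (zpowers u : Set G) := by
    rw [Walter.centralizer_zpowers, mem_centralizer_singleton_iff]; exact htu
  set tb := proj (zpowers u) ⟨t, htC⟩ with htb
  obtain ⟨P, hP, hO⟩ := hK.exists_sylow h hu
  obtain ⟨i, hi⟩ := IsPGroup.iff_orderOf.1 ht ⟨t, mem_zpowers t⟩
  rw [Subgroup.orderOf_mk] at hi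
  set φ : CBar (zpowers u) →* MulAut ↥K := MulAut.conjNormal with hφ
  have hord : ∃ j : ℕ, orderOf (φ tb) = 2 ^ j := by
    have : orderOf (φ tb) ∣ 2 ^ i :=
      (orderOf_map_dvd φ tb).trans ((orderOf_map_dvd _ _).trans (by rw [Subgroup.orderOf_mk, hi]))
    obtain ⟨j, -, hj⟩ := (Nat.dvd_prime_pow Nat.prime_two).1 this
    exact ⟨j, hj⟩
  have hfix : ∀ x ∈ (P : Subgroup ↥K), φ tb x = x := by
    intro x hx
    rw [hP] at hx
    obtain ⟨⟨z, hz⟩, hzA, hze⟩ := hx
    refine Subtype.ext ?_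
    rw [hφ, MulAut.conjNormal_apply, mul_inv_eq_iff_eq_mul, ← show proj _ ⟨z, hz⟩ = (x : CBar _) from hze,
      htb, ← map_mul, ← map_mul]
    exact congrArg _ (Subtype.ext (h.mem_centralizer_of_commute htA (mem_subgroupOf.1 hzA)))
  obtain ⟨g, hg, hgα⟩ := (h.facts _ hK.isKnown).split P (φ tb) hord
    (fun x hx => hfix x (Om_le P hx)) fun x hx => by
      rw [hfix x hx, inv_mul_cancel]; exact one_mem _
  rw [hP] at hg
  obtain ⟨⟨z, hz⟩, hzA, hze⟩ := hg
  have hzA' : z ∈ A := mem_subgroupOf.1 hzA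
  refine ⟨z, hzA', Walter.mem_liftBar.2 ⟨mul_mem htC hz, mem_centralizer_iff.2 fun x hx => ?_⟩⟩
  have h1 := congrArg Subtype.val (hgα ⟨x, hx⟩)
  rw [hφ, MulAut.conjNormal_apply] at h1
  simp only [Subgroup.coe_mul, Subgroup.coe_inv] at h1
  rw [← show proj _ ⟨z, hz⟩ = (g : CBar (zpowers u)) from hze] at h1
  have hz2 : proj (zpowers u) ⟨z, hz⟩ * proj (zpowers u) ⟨z, hz⟩ = 1 := by
    rw [← map_mul, show (⟨z, hz⟩ * ⟨z, hz⟩ : ↥(centralizer (zpowers u : Set G))) = 1 from
      Subtype.ext (h.sq hzA'), map_one]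
  have htz : tb * proj (zpowers u) ⟨z, hz⟩ = proj (zpowers u) ⟨z, hz⟩ * tb := by
    rw [htb, ← map_mul, ← map_mul]
    exact congrArg _ (Subtype.ext (h.mem_centralizer_of_commute htA hzA'))
  rw [show (⟨t * z, mul_mem htC hz⟩ : ↥(centralizer (zpowers u : Set G))) = ⟨t, htC⟩ * ⟨z, hz⟩
    from rfl, map_mul, ← htb, htz]
  set zb := proj (zpowers u) ⟨z, hz⟩
  calc x * (zb * tb) = zb * (zb * x * zb⁻¹) * tb := by
        rw [inv_eq_of_mul_eq_one_right hz2, ← mul_assoc zb, ← mul_assoc zb zb, hz2, one_mul, mul_assoc]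
    _ = zb * (tb * x * tb⁻¹) * tb := by rw [h1]
    _ = zb * tb * x := by group

/-- What is mated with `u` centralises `K`. -/
theorem mem_of_mate (h : Setting S A) (hu : Bad A u) {t : G} (ht : IsPGroup 2 ↥(zpowers t))
    (htA : t ∈ centralizer (A : Set G)) (htu : t * u = u * t) (hm : Mate A u t) :
    t ∈ liftBar (zpowers u) (centralizer (K : Set (CBar (zpowers u)))) := by
  haveI := hK.normal
  obtain ⟨n, hn, hnC, hnu, hnt⟩ := hm
  obtain ⟨a, ha, hta⟩ := hK.exists_adjust h hu ht htA htu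
  set M := liftBar (zpowers u) (centralizer (K : Set (CBar (zpowers u)))) with hM
  have hnC' : n ∈ centralizer (zpowers u : Set G) := by
    rw [Walter.centralizer_zpowers, mem_centralizer_singleton_iff]; exact hnu
  have hconj : n * (t * a) * n⁻¹ ∈ M := by
    obtain ⟨hc, hcc⟩ := Walter.mem_liftBar.1 hta
    refine Walter.mem_liftBar.2 ⟨mul_mem (mul_mem hnC' hc) (inv_mem hnC'), ?_⟩
    haveI : (centralizer (K : Set (CBar (zpowers u)))).Normal := Subgroup.normal_centralizer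
    show proj (zpowers u) (⟨n, hnC'⟩ * ⟨t * a, hc⟩ * ⟨n, hnC'⟩⁻¹) ∈ _
    rw [map_mul, map_mul, map_inv]
    exact Subgroup.Normal.conj_mem inferInstance _ hcc _
  have h2 : a * (n * a * n⁻¹) ∈ M := by
    have := mul_mem (inv_mem hta) hconj
    rwa [show (t * a)⁻¹ * (n * (t * a) * n⁻¹) = a * (n * a * n⁻¹) by
      rw [mul_inv_rev, h.inv_eq ha, show n * (t * a) * n⁻¹ = (n * t * n⁻¹) * (n * a * n⁻¹) by group,
        mul_inv_eq_iff_eq_mul.2 hnt]
      group] at this
  have h3 := hK.eq_one_of_mem h (mul_mem ha (h.conj_mem hn ha)) h2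
  have h4 : a = 1 := by
    refine eq_one_of_fixed h hn hnC ha ?_
    have : n * a * n⁻¹ = a := (eq_inv_of_mul_eq_one_right h3).trans (h.inv_eq ha)
    exact mul_inv_eq_iff_eq_mul.1 this
  rwa [h4, mul_one] at hta

end BadComp

namespace Bad

variable {u : G} (h : Setting S A)
include h

/-- At most one of the translates by `A` is mated with `u`. -/
theorem mate_unique (hu : Bad A u) {t : G} (ht : IsPGroup 2 ↥(zpowers t))
    (htA : t ∈ centralizer (A : Set G)) (htu : t * u = u * t) {a : G} (ha : a ∈ A)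
    (h1 : Mate A u t) (h2 : Mate A u (t * a)) : a = 1 := by
  obtain ⟨K, hK⟩ := hu.exists_badComp h
  have e1 := hK.mem_of_mate h hu ht htA htu h1
  have htap : IsPGroup 2 ↥(zpowers (t * a)) :=
    (isPGroup_sup h ht (zpowers_le.2 htA)).to_le
      (zpowers_le.2 (mul_mem (mem_sup_right (mem_zpowers t)) (mem_sup_left ha)))
  have e2 := hK.mem_of_mate h hu htap (mul_mem htA (h.le_centralizer ha)) (by
    rw [mul_assoc, mem_centralizer_iff.1 hu.cent a ha, ← mul_assoc, htu, mul_assoc]) h2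
  refine hK.eq_one_of_mem h ha ?_
  have := mul_mem (inv_mem e1) e2
  rwa [inv_mul_cancel_left] at this

/-- An element of `C(u) ∩ N(A)` moving `A`, normalising `T` and centralising a complement of `A`. -/
theorem exists_rot (hu : Bad A u) {T : Subgroup G} (hT : IsPGroup 2 ↥T) (hAT : A ≤ T)
    (hTu : ∀ t ∈ T, t * u = u * t) :
    ∃ n ∈ normalizer (A : Set G), n ∉ centralizer (A : Set G) ∧ n * u = u * n ∧
      n ∈ normalizer (T : Set G) ∧ ∀ t ∈ T, ∃ a ∈ A, n * (t * a) = t * a * n := by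
  haveI : Fact (Nat.Prime 2) := ⟨Nat.prime_two⟩
  obtain ⟨K, hK⟩ := hu.exists_badComp h
  haveI := hK.normal
  let B := zpowers u
  have hB : B = zpowers u := rfl
  have hTC : T ≤ centralizer (B : Set G) := fun t ht => by
    rw [hB, Walter.centralizer_zpowers, mem_centralizer_singleton_iff]; exact hTu t ht
  have hTA := le_centralizer_of_isPGroup h hT hAT
  obtain ⟨a, ha, ha1, -⟩ := hK.extra
  obtain ⟨b, hb, hb1, hba⟩ := h.exists_ne (a := a)
  obtain ⟨P, hP, hO⟩ := hK.exists_sylow h hu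
  obtain ⟨n0, hn0, -, htr⟩ := (h.facts _ hK.isKnown).torus P
  rw [hO, hP] at htr
  have hne : ∀ {c : G} (hc : c ∈ A), c ≠ 1 →
      (⟨proj B ⟨c, hu.le_centralizer hc⟩, hK.le (mem_imageBar _ hc)⟩ : ↥K) ≠ 1 := fun hc hc1 e =>
    hc1 (proj_inj (PGroups.elemAb_isPGroup h.hyp.elem) (x := ⟨_, hu.le_centralizer hc⟩) (y := 1) hc
      (one_mem A) ((congrArg Subtype.val e).trans (map_one _).symm))
  obtain ⟨i, hi⟩ := htr _ (mem_imageBar (hu.le_centralizer ha) ha) (hne ha ha1)
    _ (mem_imageBar (hu.le_centralizer hb) hb) (hne hb hb1)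
  set m : ↥K := n0 ^ i with hm
  have hmN : ∀ y ∈ imageBar B A, (m : CBar B) * y * (m : CBar B)⁻¹ ∈ imageBar B A := by
    intro y hy
    have h1 : (⟨y, hK.le hy⟩ : ↥K) ∈ (P : Subgroup ↥K) := by rw [hP]; exact hy
    have h2 := (mem_normalizer_iff.1 (pow_mem hn0 i) _).1 h1
    rw [hP] at h2
    exact h2
  have hfixC : ∀ t (ht : t ∈ T), t ∈ liftBar B (centralizer (K : Set (CBar B))) →
      (m : CBar B) * proj B ⟨t, hTC ht⟩ * (m : CBar B)⁻¹ = proj B ⟨t, hTC ht⟩ := by
    intro t ht hc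
    obtain ⟨_, hcc⟩ := Walter.mem_liftBar.1 hc
    exact mul_inv_eq_iff_eq_mul.2 (mem_centralizer_iff.1 hcc m m.2)
  have hadj : ∀ t ∈ T, ∃ c ∈ A, t * c ∈ liftBar B (centralizer (K : Set (CBar B))) := fun t ht =>
    hK.exists_adjust h hu (hT.to_le (zpowers_le.2 ht)) (hTA ht) (hTu t ht)
  obtain ⟨⟨n, hnB⟩, hnm, hnT⟩ := exists_lift_normalizer hT hTC (y := (m : CBar B)) fun t ht => by
    obtain ⟨c, hc, htc⟩ := hadj t ht
    rw [show (⟨t, hTC ht⟩ : ↥(centralizer (B : Set G))) = ⟨t * c, hTC (mul_mem ht (hAT hc))⟩ *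
      ⟨c, hTC (hAT hc)⟩ from Subtype.ext (by
        show t = t * c * c; rw [mul_assoc, h.sq hc, mul_one]), map_mul, ← mul_assoc,
      show (m : CBar B) * proj B ⟨t * c, hTC (mul_mem ht (hAT hc))⟩ * proj B ⟨c, hTC (hAT hc)⟩ *
        (m : CBar B)⁻¹ = ((m : CBar B) * proj B ⟨t * c, hTC (mul_mem ht (hAT hc))⟩ *
          (m : CBar B)⁻¹) * ((m : CBar B) * proj B ⟨c, hTC (hAT hc)⟩ * (m : CBar B)⁻¹) by group,
      hfixC _ (mul_mem ht (hAT hc)) htc]
    obtain ⟨⟨d, hdC⟩, hd, hde⟩ := hmN _ (mem_imageBar (hTC (hAT hc)) hc)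
    rw [← hde]
    refine ⟨⟨t * c, hTC (mul_mem ht (hAT hc))⟩ * ⟨d, hdC⟩,
      mem_subgroupOf.2 (mul_mem (mul_mem ht (hAT hc)) (hAT (mem_subgroupOf.1 hd))), map_mul _ _ _⟩
  have hnu : n * u = u * n := mem_centralizer_singleton_iff.1 (Walter.centralizer_zpowers u ▸ hnB)
  have hconj : ∀ t (ht : t ∈ T), proj B ⟨n * t * n⁻¹, hTC ((mem_normalizer_iff.1 hnT t).1 ht)⟩ =
      (m : CBar B) * proj B ⟨t, hTC ht⟩ * (m : CBar B)⁻¹ := by
    intro t ht
    rw [show (⟨n * t * n⁻¹, hTC ((mem_normalizer_iff.1 hnT t).1 ht)⟩ :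
      ↥(centralizer (B : Set G))) = ⟨n, hnB⟩ * ⟨t, hTC ht⟩ * ⟨n, hnB⟩⁻¹ from rfl,
      map_mul, map_mul, map_inv, hnm]
  have hnA : n ∈ normalizer (A : Set G) := by
    refine RankTwoKey.mem_normalizer_of_map_le ?_
    rintro _ ⟨c, hc, rfl⟩
    obtain ⟨⟨d, hdC⟩, hd, hde⟩ := hmN _ (mem_imageBar (hTC (hAT hc)) hc)
    show n * c * n⁻¹ ∈ A
    have h1 := proj_inj hT (x := ⟨n * c * n⁻¹, hTC ((mem_normalizer_iff.1 hnT c).1 (hAT hc))⟩)
      (y := ⟨d, hdC⟩) ((mem_normalizer_iff.1 hnT c).1 (hAT hc)) (hAT (mem_subgroupOf.1 hd))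
      ((hconj c (hAT hc)).trans hde.symm)
    rw [show n * c * n⁻¹ = d from h1]
    exact mem_subgroupOf.1 hd
  refine ⟨n, hnA, fun hnC => hba ?_, hnu, hnT, fun t ht => ?_⟩
  · have hi' : (m : CBar B) * proj B ⟨a, hTC (hAT ha)⟩ * (m : CBar B)⁻¹ = proj B ⟨b, hTC (hAT hb)⟩ :=
      congrArg Subtype.val hi
    rw [← hconj a (hAT ha)] at hi'
    have h1 := proj_inj hT (x := ⟨n * a * n⁻¹, hTC ((mem_normalizer_iff.1 hnT a).1 (hAT ha))⟩)
      (y := ⟨b, hTC (hAT hb)⟩) ((mem_normalizer_iff.1 hnT a).1 (hAT ha)) (hAT hb) hi'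
    have h2 : n * a * n⁻¹ = a := mul_inv_eq_iff_eq_mul.2 (h.mem_centralizer_of_commute hnC ha)
    exact (h1 : n * a * n⁻¹ = b).symm.trans h2
  · obtain ⟨c, hc, htc⟩ := hadj t ht
    refine ⟨c, hc, mul_inv_eq_iff_eq_mul.1 ?_⟩
    have htcT := mul_mem ht (hAT hc)
    exact proj_inj hT (x := ⟨_, hTC ((mem_normalizer_iff.1 hnT _).1 htcT)⟩)
      (y := ⟨_, hTC htcT⟩) ((mem_normalizer_iff.1 hnT _).1 htcT) htcT
      ((hconj _ htcT).trans (hfixC _ htcT htc))

/-- An involution mated with a bad one is bad. -/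
theorem of_mate (hu : Bad A u) {r : G} (hrA : r ∈ centralizer (A : Set G)) (hrnA : r ∉ A)
    (hr2 : r * r = 1) (hru : r * u = u * r) (hm : Mate A u r) : Bad A r := by
  haveI : Fact (Nat.Prime 2) := ⟨Nat.prime_two⟩
  refine ⟨hrA, hrnA, hr2, fun hgood => ?_⟩
  obtain ⟨K, hK⟩ := hu.exists_badComp h
  let B := zpowers u
  have hB : B = zpowers u := rfl
  have hAC : A ≤ centralizer (B : Set G) := hu.le_centralizer
  have hrC : r ∈ centralizer (B : Set G) := by
    rw [hB, Walter.centralizer_zpowers, mem_centralizer_singleton_iff]; exact hru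
  have hrp : IsPGroup 2 ↥(zpowers r) := IsPGroup.of_card (n := 1) (by
    rw [Nat.card_zpowers, orderOf_eq_prime (p := 2) (by rw [pow_two]; exact hr2)
      (fun e => hrnA (by rw [e]; exact one_mem A)), pow_one])
  obtain ⟨_, hrK⟩ := Walter.mem_liftBar.1 (hK.mem_of_mate h hu hrp hrA hru hm)
  obtain ⟨a, ha, ha1, k, hkK, hka, hkA⟩ := hK.extra
  set E := zpowers a ⊔ zpowers r with hE
  have hEp : IsPGroup 2 ↥E :=
    (isPGroup_sup h hrp (zpowers_le.2 hrA)).to_le (sup_le_sup_right (zpowers_le.2 ha) _)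
  have hEC : E ≤ centralizer (B : Set G) :=
    sup_le (zpowers_le.2 (hAC ha)) (zpowers_le.2 hrC)
  -- lifts of `k`
  obtain ⟨⟨g, hgC⟩, hgE, hgk⟩ := exists_lift_centralizer hEp hEC (y := k) fun x hx => by
    have h1 : E.subgroupOf (centralizer (B : Set G)) ≤ (centralizer ({k} : Set (CBar B))).comap (proj B) := by
      rw [hE, subgroupOf_sup (zpowers_le.2 (hAC ha)) (zpowers_le.2 hrC), sup_le_iff]
      constructor
      · intro z hz
        exact mem_centralizer_singleton_iff.2 (mem_centralizer_iff.1 hka _ (mem_map_of_mem _ hz))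
      · rintro ⟨z, hzC⟩ hz
        obtain ⟨i, rfl⟩ := mem_zpowers_iff.1 (mem_subgroupOf.1 hz)
        refine mem_centralizer_singleton_iff.2 ?_
        rw [show (⟨r ^ i, hzC⟩ : ↥(centralizer (B : Set G))) = ⟨r, hrC⟩ ^ i from Subtype.ext (by simp),
          map_zpow]
        exact ((show Commute (proj B ⟨r, hrC⟩) k from
          (mem_centralizer_iff.1 hrK k hkK).symm).zpow_left i).eq
    exact mem_centralizer_singleton_iff.1 (h1 (show (⟨x, hEC hx⟩ : ↥(centralizer (B : Set G))) ∈ E.subgroupOf _ from hx))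
  have hga : g * a = a * g := (mem_centralizer_iff.1 hgE a (mem_sup_left (mem_zpowers a))).symm
  have hgr : g * r = r * g := (mem_centralizer_iff.1 hgE r (mem_sup_right (mem_zpowers r))).symm
  have hgu : g * u = u * g := mem_centralizer_singleton_iff.1 (Walter.centralizer_zpowers u ▸ hgC)
  have hprod : IsProd A a (⊤ ⊓ centralizer ({u} : Set G) ⊓ centralizer ({r} : Set G)) :=
    h.isProd_inf ha (h.isProd_inf ha (h.core_mul ha ha1) hu.sq hu.cent (mem_top u)) hr2 hrA
      ⟨mem_top r, mem_centralizer_singleton_iff.2 hru⟩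
  obtain ⟨o, ho, c, hc, hoc⟩ := hprod g ⟨mem_centralizer_singleton_iff.2 hga,
    ⟨mem_top g, mem_centralizer_singleton_iff.2 hgu⟩, mem_centralizer_singleton_iff.2 hgr⟩
  set D := core r ⊓ centralizer ({u} : Set G) with hD
  have hoD : o ∈ D := ⟨hgood a ha ha1 ⟨ho.1, ho.2.2⟩, ho.2.1.2⟩
  have hDodd : Odd (Nat.card ↥D) := (Walter.odd_core r).of_dvd_nat (card_dvd_of_le inf_le_left)
  have hKD : K ≤ normalizer (imageBar B D : Set (CBar B)) := by
    intro y hy
    obtain ⟨⟨z, hzC⟩, hzr, rfl⟩ := exists_lift_centralizer hrp (zpowers_le.2 hrC) (y := y) fun x hx => by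
      obtain ⟨i, rfl⟩ := mem_zpowers_iff.1 hx
      rw [show (⟨r ^ i, _⟩ : ↥(centralizer (B : Set G))) = ⟨r, hrC⟩ ^ i from Subtype.ext (by simp),
        map_zpow]
      exact ((show Commute (proj B ⟨r, hrC⟩) y from
        (mem_centralizer_iff.1 hrK y hy).symm).zpow_left i).eq
    refine le_normalizer_map _ (mem_map_of_mem _ ?_)
    rw [mem_normalizer_iff]
    intro x
    simp only [mem_subgroupOf, Subgroup.coe_mul, Subgroup.coe_inv]
    exact mem_normalizer_iff.1 (Walter.inf_centralizer_le_normalizer r u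
      ⟨mem_centralizer_singleton_iff.2 (mem_centralizer_iff.1 hzr r (mem_zpowers r)).symm,
        Walter.centralizer_zpowers u ▸ hzC⟩) x
  have hoC : o ∈ centralizer (B : Set G) := by rw [hB, Walter.centralizer_zpowers]; exact ho.2.1.2
  have hcC : c ∈ centralizer (B : Set G) := by rw [hB, Walter.centralizer_zpowers]; exact hc.2.1.2
  have hoK := Walter.proj_mem_centralizer_component (hK.isComponent h) hDodd hKD hoC hoD
  refine hkA ?_
  rw [← hgk, show (⟨g, hgC⟩ : ↥(centralizer (B : Set G))) = ⟨o, hoC⟩ * ⟨c, hcC⟩ from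
    Subtype.ext hoc.symm, map_mul]
  refine mul_mem (centralizer_le hK.le hoK) (mem_centralizer_iff.2 ?_)
  rintro _ ⟨⟨z, hz⟩, hzA, rfl⟩
  show proj B ⟨z, hz⟩ * proj B ⟨c, hcC⟩ = proj B ⟨c, hcC⟩ * proj B ⟨z, hz⟩
  rw [← map_mul, ← map_mul]
  exact congrArg _ (Subtype.ext (h.mem_centralizer_of_commute hc.1 (mem_subgroupOf.1 hzA)).symm)

end Bad

end Cfsg.Agent.Lib.Goldschmidt53.RankTwoBadOne
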