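import Cfsg.Agent.Lib.Goldschmidt53.RankTwoBadOne.Comp
import Cfsg.Agent.Lib.Goldschmidt53.RankTwoBadDihedral

/-!
# Rank two, bad involutions: the count

For a class `U` of bad involutions every member of `D` gives a member of `D` in `C(u)` through the
central involution of the dihedral group it generates with `u`, and so does every member of a further
class `V`.  Counting gives `|D ∩ C(u)| < |D ∩ C(v)|`, and the same with `u` and `v` exchanged.

Owner: helper72.
-/

set_option autoImplicit false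
set_option linter.style.haveILetI false
set_option linter.unusedSectionVars false
set_option linter.unusedVariables false

universe u

namespace Cfsg.Agent.Lib.Goldschmidt53.RankTwoBadOne

open Subgroup
open Cfsg.Agent.Lib.Walter (CBar proj proj_surjective imageBar mem_imageBar proj_eq_one_iff core)
open Cfsg.Agent.Lib.Goldschmidt53.RankTwoBad (Setting IsD half half_conj half_spec conj_half_mul
  exists_two_group half_of_parts)
open Cfsg.Agent.Lib.Involutions.Basic (invol_mul_self invol_inv invol_iff exists_conj_of_odd)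

/-- All fibres of `f` have equally many elements, so a proportion downstairs is one upstairs. -/
theorem card_proportion {X Y : Type*} [Finite X] [Finite Y] (f : X → Y) (y₀ : Y)
    (hf : ∀ y, Nat.card {x // f x = y} = Nat.card {x // f x = y₀}) (R : Y → Prop) :
    Nat.card {x // R (f x)} * Nat.card Y = Nat.card X * Nat.card {y // R y} := by
  classical
  haveI := Fintype.ofFinite Y
  set n := Nat.card {x // f x = y₀} with hn
  have hX : Nat.card X = Nat.card Y * n := by
    rw [← Nat.card_congr (Equiv.sigmaFiberEquiv f), Nat.card_sigma, Finset.sum_congr rfl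
      (fun y _ => hf y), Finset.sum_const, Finset.card_univ, smul_eq_mul, Nat.card_eq_fintype_card]
  have hR : Nat.card {x // R (f x)} = Nat.card {y // R y} * n := by
    rw [← Nat.card_congr (Equiv.sigmaSubtypeFiberEquivSubtype f (p := fun x => R (f x)) (q := R) (fun _ => Iff.rfl)),
      Nat.card_sigma, Finset.sum_congr rfl (fun y _ => hf y.1), Finset.sum_const, Finset.card_univ,
      smul_eq_mul, Nat.card_eq_fintype_card]
  rw [hX, hR]
  ring

/-- A homomorphism with kernel of odd order keeps the parity of orders. -/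
theorem even_map_iff {M N : Type*} [Group M] [Group N] [Finite M] (f : M →* N)
    (hodd : ¬ 2 ∣ Nat.card ↥f.ker) (x : M) : Even (orderOf (f x)) ↔ Even (orderOf x) := by
  refine ⟨fun h => even_iff_two_dvd.2 ((even_iff_two_dvd.1 h).trans (orderOf_map_dvd f x)),
    fun h => ?_⟩
  by_contra hcon
  rw [even_iff_two_dvd] at h
  have hk : x ^ orderOf (f x) ∈ f.ker := MonoidHom.mem_ker.2 (by rw [map_pow, pow_orderOf_eq_one])
  have h1 : orderOf x ∣ orderOf (f x) * Nat.card ↥f.ker := orderOf_dvd_of_pow_eq_one (by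
    rw [pow_mul]; exact congrArg Subtype.val (pow_card_eq_one' (x := (⟨_, hk⟩ : ↥f.ker))))
  rcases Nat.prime_two.dvd_mul.1 (h.trans h1) with e | e
  · exact hcon (even_iff_two_dvd.2 e)
  · exact hodd e

theorem odd_map_iff {M N : Type*} [Group M] [Group N] [Finite M] (f : M →* N)
    (hodd : ¬ 2 ∣ Nat.card ↥f.ker) (x : M) : Odd (orderOf (f x)) ↔ Odd (orderOf x) := by
  rw [← Nat.not_even_iff_odd, ← Nat.not_even_iff_odd, even_map_iff f hodd]

/-- Such a homomorphism respects `half`. -/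
theorem map_half {M N : Type*} [Group M] [Group N] [Finite M] [Finite N] (f : M →* N)
    (hodd : ¬ 2 ∣ Nat.card ↥f.ker) {x y : M} (h : Even (orderOf (x * y))) :
    f (half x y) = half (f x) (f y) := by
  have he := (even_map_iff f hodd _).2 h
  obtain ⟨k, hk⟩ := orderOf_map_dvd f (x * y)
  obtain ⟨p, hp⟩ := h
  obtain ⟨q, hq⟩ := he
  set o := orderOf (f (x * y)) with ho
  have hk' : p = q * k := by
    have : p + p = (q + q) * k := by rw [← hp, ← hq]; exact hk
    linarith
  have hko : Odd k := by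
    by_contra hcon
    obtain ⟨c, hc⟩ := Nat.not_odd_iff_even.1 hcon
    -- then a power of `x y` of order two lies in the kernel
    have h1 : (x * y) ^ (o * c) ∈ f.ker :=
      MonoidHom.mem_ker.2 (by rw [map_pow, pow_mul, pow_orderOf_eq_one, one_pow])
    have h2 : ((x * y) ^ (o * c)) ^ 2 = 1 := by
      rw [← pow_mul, show o * c * 2 = orderOf (x * y) by rw [hk, hc]; ring, pow_orderOf_eq_one]
    have hcard := pow_card_eq_one' (x := (⟨_, h1⟩ : ↥f.ker))
    obtain ⟨l, hl⟩ := Nat.odd_iff.2 (Nat.two_dvd_ne_zero.1 hodd)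
    have h3 : (x * y) ^ (o * c) = 1 := by
      have h4 : ((x * y) ^ (o * c)) ^ Nat.card ↥f.ker = 1 := congrArg Subtype.val hcard
      rwa [hl, pow_succ, pow_mul, h2, one_pow, one_mul] at h4
    have h5 := Nat.le_of_dvd ?_ (orderOf_dvd_of_pow_eq_one h3)
    · rw [hk, hc] at h5
      have : 0 < o := orderOf_pos _
      have : 0 < c := by
        rcases Nat.eq_zero_or_pos c with e | e
        · exfalso
          have := orderOf_pos (x * y)
          rw [hk, hc, e] at this
          simp at this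
        · exact e
      nlinarith
    · rcases Nat.eq_zero_or_pos (o * c) with e | e
      · exfalso
        have := orderOf_pos (x * y)
        rw [hk, hc, mul_add, e] at this
        omega
      · exact e
  obtain ⟨l, hl⟩ := hko
  unfold half
  rw [map_pow, ← map_mul, ← ho, hp, hq, show (p + p) / 2 = p by omega,
    show (q + q) / 2 = q by omega, hk', hl, show q * (2 * l + 1) = (q + q) * l + q by ring, pow_add,
    pow_mul, ← hq, ho, pow_orderOf_eq_one, one_pow, one_mul]

section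

variable {G : Type u} [Group G] [Finite G] {S : Sylow 2 G} {A : Subgroup G} {u v : G}

theorem Side.orderOf_eq (hu : Side A u) : orderOf u = 2 :=
  orderOf_eq_prime (hp := ⟨Nat.prime_two⟩) (by rw [pow_two, hu.sq])
    fun e => hu.notMem (e ▸ one_mem A)

theorem orderOf_of_isConj {x y : G} (h : IsConj x y) : orderOf y = orderOf x := by
  obtain ⟨g, rfl⟩ := isConj_iff.1 h
  exact Cfsg.Agent.Lib.Involutions.Basic.orderOf_conj_eq g x

/-- Two involutions which are not conjugate have product of even order. -/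
theorem even_of_not_isConj {x y : G} (hx : orderOf x = 2) (hy : orderOf y = 2)
    (hne : ¬ IsConj x y) : Even (orderOf (x * y)) := by
  by_contra h
  obtain ⟨d, -, hd⟩ := exists_conj_of_odd (invol_mul_self hx) (invol_mul_self hy)
    (Nat.not_even_iff_odd.1 h)
  exact hne (isConj_iff.2 ⟨d, hd⟩)

variable (h : Setting S A)
include h

theorem Side.not_isD (hu : Side A u) {x : G} (hx : IsConj u x) : ¬ IsD A x := by
  intro e
  obtain ⟨g, hg⟩ := isConj_iff.1 hx
  have h1 := Setting.isD_conj e g⁻¹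
  rw [← hg, show g⁻¹ * (g * u * g⁻¹) * g⁻¹⁻¹ = u by group] at h1
  exact hu.notMem (h.mem_of_isD_centralizer h1 hu.cent)

theorem Side.even_mul (hu : Side A u) {d : G} (hd : IsD A d) : Even (orderOf (d * u)) :=
  even_of_not_isConj (h.isD_orderOf hd) hu.orderOf_eq fun e => hu.not_isD h e.symm hd

/-- Modulo the core a member of `D` in `C(a)` is one of `A`. -/
theorem exists_proj_eq {a : G} (ha : a ∈ A) (ha1 : a ≠ 1) {d : G} (hd : IsD A d)
    (hdC : d ∈ centralizer (zpowers a : Set G)) :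
    ∃ a' ∈ A, ∃ ha' : a' ∈ centralizer (zpowers a : Set G),
      proj (zpowers a) ⟨d, hdC⟩ = proj (zpowers a) ⟨a', ha'⟩ := by
  haveI : Fact (Nat.Prime 2) := ⟨Nat.prime_two⟩
  have hAC : A ≤ centralizer ({a} : Set G) := h.le_centralizer.trans (h.centralizer_le ha)
  have hdC' : d ∈ centralizer ({a} : Set G) := Walter.centralizer_zpowers a ▸ hdC
  obtain ⟨T, hT⟩ := ((PGroups.elemAb_isPGroup h.hyp.elem).of_equiv
    (subgroupOfEquivOfLe hAC).symm).exists_le_sylow
  have hdp : IsPGroup 2 ↥(zpowers (⟨d, hdC'⟩ : ↥(centralizer ({a} : Set G)))) :=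
    IsPGroup.of_card (n := 1) (by
      rw [Nat.card_zpowers, Subgroup.orderOf_mk, h.isD_orderOf hd, pow_one])
  obtain ⟨T', hT'⟩ := hdp.exists_le_sylow
  obtain ⟨k, hk⟩ := MulAction.exists_smul_eq ↥(centralizer ({a} : Set G)) T' T
  have hTA := le_centralizer_of_isPGroup h (T.2.map (centralizer ({a} : Set G)).subtype)
    (fun x hx => ⟨⟨x, hAC hx⟩, hT (mem_subgroupOf.2 hx), rfl⟩)
  have hkd := hTA (mem_map_of_mem _ (ZStar.Elements.smul_mem hk (hT' (mem_zpowers _))))
  set a' := (k : G) * d * (k : G)⁻¹ with ha'def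
  have ha' : a' ∈ A := h.mem_of_isD_centralizer (Setting.isD_conj hd k) hkd
  have hCa : ∀ {x : G}, x ∈ centralizer ({a} : Set G) → x ∈ centralizer (zpowers a : Set G) :=
    fun hx => by rw [Walter.centralizer_zpowers]; exact hx
  refine ⟨a', ha', hCa (hAC ha'), ?_⟩
  obtain ⟨o, ho, c, hc, hoc⟩ := h.core_mul ha ha1 (k : G) ⟨k.2, mem_top _⟩
  have hoC : o ∈ centralizer (zpowers a : Set G) := hCa (Walter.core_le a ho.1)
  have hcC : c ∈ centralizer (zpowers a : Set G) := hCa (h.centralizer_le ha hc.1)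
  have ho1 : proj (zpowers a) ⟨o, hoC⟩ = 1 :=
    (proj_eq_one_iff hoC).2 (Walter.coreC_zpowers a ▸ ho.1)
  have e1 : (⟨a', hCa (hAC ha')⟩ : ↥(centralizer (zpowers a : Set G))) =
      ⟨o, hoC⟩ * (⟨c, hcC⟩ * ⟨d, hdC⟩ * ⟨c, hcC⟩⁻¹) * ⟨o, hoC⟩⁻¹ := Subtype.ext (by
    show (k : G) * d * (k : G)⁻¹ = o * (c * d * c⁻¹) * o⁻¹
    rw [← hoc]; group)
  have e2 : proj (zpowers a) ⟨c, hcC⟩ * proj (zpowers a) ⟨a', hCa (hAC ha')⟩ =
      proj (zpowers a) ⟨a', hCa (hAC ha')⟩ * proj (zpowers a) ⟨c, hcC⟩ := by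
    rw [← map_mul, ← map_mul]
    exact congrArg _ (Subtype.ext (h.mem_centralizer_of_commute hc.1 ha'))
  rw [e1] at e2 ⊢
  simp only [map_mul, map_inv, ho1, one_mul, inv_one, mul_one] at e2 ⊢
  set cb := proj (zpowers a) ⟨c, hcC⟩
  set db := proj (zpowers a) ⟨d, hdC⟩
  calc db = cb⁻¹ * (cb * db * cb⁻¹ * cb) := by group
    _ = cb⁻¹ * (cb * (cb * db * cb⁻¹)) := by rw [← e2]
    _ = cb * db * cb⁻¹ := by group

/-- `u` and a member of `D` never have their central involution in `D`. -/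
theorem Side.not_isD_half (hu : Side A u) {d : G} (hd : IsD A d) : ¬ IsD A (half d u) := by
  intro hz
  obtain ⟨a, ha, ha1, -⟩ := h.exists_ne (a := (1 : G))
  obtain ⟨g, hg⟩ := h.isD_exists hz ha ha1
  have hg' : g⁻¹ * half d u * g⁻¹⁻¹ = a := by rw [← hg]; group
  obtain ⟨hz2, hzd, hzu⟩ := half_spec (h.isD_orderOf hd) hu.orderOf_eq (hu.even_mul h hd)
  -- move `u` back
  obtain ⟨k, hka, hku⟩ := hu.orbit a ha ha1 (g⁻¹ * u * g⁻¹⁻¹) (isConj_iff.2 ⟨g⁻¹, rfl⟩) (by
    rw [← hg', show g⁻¹ * u * g⁻¹⁻¹ * (g⁻¹ * half d u * g⁻¹⁻¹) = g⁻¹ * (u * half d u) * g⁻¹⁻¹ by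
      group, ← hzu.eq]
    group)
  set m := k⁻¹ * g⁻¹ with hm
  have hmu : m * u * m⁻¹ = u := by
    rw [hm, show k⁻¹ * g⁻¹ * u * (k⁻¹ * g⁻¹)⁻¹ = k⁻¹ * (g⁻¹ * u * g⁻¹⁻¹) * k by group, ← hku]
    group
  have hma : half (m * d * m⁻¹) u = a := by
    nth_rw 1 [← hmu]
    rw [← half_conj, hm, show k⁻¹ * g⁻¹ * half d u * (k⁻¹ * g⁻¹)⁻¹ =
      k⁻¹ * (g⁻¹ * half d u * g⁻¹⁻¹) * k by group, hg', mul_assoc, ← hka, inv_mul_cancel_left]
  have he := Setting.isD_conj hd m
  set e := m * d * m⁻¹ with hedef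
  obtain ⟨-, hze, -⟩ := half_spec (h.isD_orderOf he) hu.orderOf_eq (hu.even_mul h he)
  rw [hma] at hze
  have hCa : ∀ {x : G}, x * a = a * x → x ∈ centralizer (zpowers a : Set G) := fun hx => by
    rw [Walter.centralizer_zpowers, mem_centralizer_singleton_iff]; exact hx
  have heC := hCa hze.symm.eq
  have huC := hCa (h.mem_centralizer_of_commute hu.cent ha)
  obtain ⟨a', ha', ha'C, hproj⟩ := exists_proj_eq h ha ha1 he heC
  let π := proj (zpowers a)
  have h1 : π ⟨a, hCa rfl⟩ = half (π ⟨e, heC⟩) (π ⟨u, huC⟩) := by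
    rw [← map_half π (Walter.proj_ker_odd _) (x := ⟨e, heC⟩) (y := ⟨u, huC⟩)
      (by rw [← Subgroup.orderOf_coe]; exact hu.even_mul h he)]
    refine congrArg π (Subtype.ext ?_)
    refine Eq.trans hma.symm ?_
    rw [half, half, SubmonoidClass.coe_pow, ← Subgroup.orderOf_coe]
    rfl
  have hev : Even (orderOf (π (⟨e, heC⟩ * ⟨u, huC⟩))) :=
    (even_map_iff π (Walter.proj_ker_odd _) _).2
      (by rw [← Subgroup.orderOf_coe]; exact hu.even_mul h he)
  have hsq : (⟨a', ha'C⟩ * ⟨u, huC⟩ : ↥(centralizer (zpowers a : Set G))) ^ 2 = 1 :=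
    Subtype.ext (by
      show (a' * u) ^ 2 = 1
      rw [(show Commute a' u from (h.mem_centralizer_of_commute hu.cent ha').symm).mul_pow, pow_two,
        pow_two, h.sq ha', hu.sq, mul_one])
  have h2 : orderOf (π ⟨e, heC⟩ * π ⟨u, huC⟩) = 2 := by
    rw [← map_mul]
    have h3 : orderOf (π (⟨e, heC⟩ * ⟨u, huC⟩)) ∣ 2 := by
      rw [map_mul, hproj, ← map_mul]
      exact orderOf_dvd_of_pow_eq_one (by rw [← map_pow, hsq, map_one])
    rcases (Nat.dvd_prime Nat.prime_two).1 h3 with h4 | h4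
    · rw [h4] at hev; exact absurd hev (by decide)
    · exact h4
  unfold half at h1
  rw [h2, show 2 / 2 = 1 from rfl, pow_one, hproj, ← map_mul] at h1
  refine hu.notMem ?_
  have h5 : (⟨a', ha'C⟩ * ⟨u, huC⟩ : ↥(centralizer (zpowers a : Set G))) =
      ⟨a, hCa rfl⟩ := by
    have h6 : π ((⟨a', ha'C⟩ * ⟨u, huC⟩) * ⟨a, hCa rfl⟩⁻¹) = 1 := by
      rw [map_mul, map_inv, ← h1, mul_inv_cancel]
    have h7 := (proj_eq_one_iff (mul_mem (mul_mem ha'C huC) (inv_mem (hCa rfl)))).1 h6
    refine Subtype.ext (mul_inv_eq_one.1 (?_ : a' * u * a⁻¹ = 1))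
    have hx : a' * u * a⁻¹ ∈ centralizer (A : Set G) :=
      mul_mem (mul_mem (h.le_centralizer ha') hu.cent) (inv_mem (h.le_centralizer ha))
    have hxx : a' * u * a⁻¹ * (a' * u * a⁻¹) = 1 := by
      rw [h.inv_eq ha, mul_assoc (a' * u) a, ← mul_assoc a (a' * u) a,
        ← h.mem_centralizer_of_commute (mul_mem (h.le_centralizer ha') hu.cent) ha,
        mul_assoc (a' * u) a a, h.sq ha, mul_one, ← pow_two]
      exact congrArg Subtype.val hsq
    obtain ⟨l, hl⟩ := Walter.odd_coreC (zpowers a)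
    have h9 : (a' * u * a⁻¹) ^ Nat.card ↥(Walter.coreC (zpowers a)) = 1 :=
      congrArg Subtype.val (pow_card_eq_one'
        (x := (⟨a' * u * a⁻¹, h7⟩ : ↥(Walter.coreC (zpowers a)))))
    rwa [hl, pow_succ, pow_mul, pow_two, hxx, one_pow, one_mul] at h9
  have h8 : a' * u = a := congrArg Subtype.val h5
  rw [show u = a'⁻¹ * a by rw [← h8, inv_mul_cancel_left]]
  exact mul_mem (inv_mem ha') ha

/-- The member of `D` in `C(u)` which a member of `D` gives. -/
theorem Side.proj_D (hu : Side A u) {d : G} (hd : IsD A d) :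
    IsD A (half d u * u) ∧ half d u * u * u = u * (half d u * u) ∧
      Odd (orderOf (d * (half d u * u))) ∧ Commute d (half d u) := by
  have h4 : orderOf (d * u) % 4 = 2 := by
    by_contra hne
    obtain ⟨k, hk⟩ := hu.even_mul h hd
    have h4 : 4 ∣ orderOf (u * d) := by
      rw [← orderOf_inv, mul_inv_rev, invol_inv hu.orderOf_eq, invol_inv (h.isD_orderOf hd)]
      omega
    obtain ⟨P, hP, -, hdP, w, hwP, -, hne'⟩ :=
      exists_two_group hu.orderOf_eq (h.isD_orderOf hd) h4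
    exact hne' (h.isD_commute hd hP hdP hwP).symm
  obtain ⟨-, hodd, g, -, hg⟩ := conj_half_mul (h.isD_orderOf hd) hu.orderOf_eq h4
  obtain ⟨-, hzd, hzu⟩ := half_spec (h.isD_orderOf hd) hu.orderOf_eq (hu.even_mul h hd)
  exact ⟨hg ▸ Setting.isD_conj hd g, (hzu.mul_left (Commute.refl u)).eq, hodd, hzd.symm⟩

/-- The members of `D` in `C(u)`. -/
def DC (A : Subgroup G) (u : G) : Type u := {d : G // IsD A d ∧ d * u = u * d}

instance (A : Subgroup G) (u : G) : Finite (DC A u) := Subtype.finite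

omit h in
/-- Conjugation as a bijection of subtypes. -/
noncomputable def conjEquiv {p q : G → Prop} (g : G) (hg : ∀ x, p x ↔ q (g * x * g⁻¹)) :
    {x // p x} ≃ {x // q x} :=
  (MulAut.conj g).toEquiv.subtypeEquiv hg

omit h in
theorem Setting.isD_conj_iff {x g : G} : IsD A (g * x * g⁻¹) ↔ IsD A x :=
  ⟨fun e => by simpa [mul_assoc] using Setting.isD_conj e g⁻¹, fun e => Setting.isD_conj e g⟩

omit h in
theorem commute_conj_iff {x y g : G} (hy : g * y * g⁻¹ = y) :
    g * x * g⁻¹ * y = y * (g * x * g⁻¹) ↔ x * y = y * x := by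
  nth_rw 1 2 [← hy]
  exact (SemiconjBy.conj_iff (a := x) (x := y) (y := y))

/-- `|D| = |D ∩ C(u)| c` with `c` counting the members of `D ∩ C(u)` of odd product with `a`. -/
theorem Side.card_D (hu : Side A u) {a : G} (ha : a ∈ A) (ha1 : a ≠ 1) :
    Nat.card {d : G // IsD A d} = Nat.card (DC A u) *
      Nat.card {d : G // (IsD A d ∧ d * u = u * d) ∧ Odd (orderOf (d * a))} := by
  classical
  haveI : Fintype (DC A u) := Fintype.ofFinite _
  let f : {d : G // IsD A d} → DC A u := fun d =>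
    ⟨half d.1 u * u, (hu.proj_D h d.2).1, (hu.proj_D h d.2).2.1⟩
  have hfib : ∀ e : DC A u, Nat.card {d // f d = e} =
      Nat.card {d : G // (IsD A d ∧ d * u = u * d) ∧ Odd (orderOf (d * a))} := by
    rintro ⟨e, he, heu⟩
    obtain ⟨g, hgu, hga⟩ := hu.orbitD a ha ha1 e he heu
    obtain ⟨t, htA, htu⟩ := hu.translate a ha
    have hta : t * a * t⁻¹ = a := mul_inv_eq_iff_eq_mul.2 (h.mem_centralizer_of_commute htA ha)
    have hgu' : g * u * g⁻¹ = u := mul_inv_eq_iff_eq_mul.2 hgu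
    set q := g * t with hq
    have hqu : q * u * q⁻¹ = e * u := by
      rw [hq, show g * t * u * (g * t)⁻¹ = g * (t * u * t⁻¹) * g⁻¹ by group, htu,
        show g * (u * a) * g⁻¹ = g * u * g⁻¹ * (g * a * g⁻¹) by group, hgu', hga, ← heu]
    have hqa : q * a * q⁻¹ = e := by
      rw [hq, show g * t * a * (g * t)⁻¹ = g * (t * a * t⁻¹) * g⁻¹ by group, hta, hga]
    have hiff : ∀ x : G, ((IsD A x ∧ x * u = u * x) ∧ Odd (orderOf (x * a))) ↔
        (IsD A (q * x * q⁻¹) ∧ half (q * x * q⁻¹) u * u = e) := by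
      intro x
      have ho : orderOf (q * x * q⁻¹ * e) = orderOf (x * a) := by
        rw [← hqa, show q * x * q⁻¹ * (q * a * q⁻¹) = q * (x * a) * q⁻¹ by group,
          Cfsg.Agent.Lib.Involutions.Basic.orderOf_conj_eq]
      constructor
      · rintro ⟨⟨hx, hxu⟩, hodd⟩
        refine ⟨Setting.isD_conj hx q, ?_⟩
        have heu2 : orderOf (e * u) = 2 := by
          rw [← hqu, Cfsg.Agent.Lib.Involutions.Basic.orderOf_conj_eq, hu.orderOf_eq]
        have h1 := (half_of_parts (v := q * x * q⁻¹) (h.isD_orderOf he) heu2 heu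
          (show q * x * q⁻¹ * (e * u) = e * u * (q * x * q⁻¹) by
            rw [← hqu, show q * x * q⁻¹ * (q * u * q⁻¹) = q * (x * u) * q⁻¹ by group, hxu]
            group) (ho ▸ hodd)).2
        rw [h1, mul_assoc, hu.sq, mul_one]
      · rintro ⟨hx, hxe⟩
        have h1 := hu.proj_D h hx
        rw [hxe] at h1
        refine ⟨⟨Setting.isD_conj_iff.1 hx, ?_⟩, ho ▸ h1.2.2.1⟩
        have h2 : q * x * q⁻¹ * (e * u) = e * u * (q * x * q⁻¹) := by
          rw [← hxe, mul_assoc (half _ u) u u, hu.sq, mul_one]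
          exact h1.2.2.2.eq
        rw [← hqu, show q * x * q⁻¹ * (q * u * q⁻¹) = q * (x * u) * q⁻¹ by group,
          show q * u * q⁻¹ * (q * x * q⁻¹) = q * (u * x) * q⁻¹ by group] at h2
        exact mul_left_cancel (mul_right_cancel h2)
    refine (Nat.card_congr ?_).symm
    refine (conjEquiv (p := fun x => (IsD A x ∧ x * u = u * x) ∧ Odd (orderOf (x * a)))
      (q := fun x => IsD A x ∧ half x u * u = e) q hiff).trans ?_
    exact
      { toFun := fun x => ⟨⟨x.1, x.2.1⟩, Subtype.ext x.2.2⟩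
        invFun := fun x => ⟨x.1.1, x.1.2, congrArg Subtype.val x.2⟩
        left_inv := fun _ => rfl
        right_inv := fun _ => rfl }
  rw [← Nat.card_congr (Equiv.sigmaFiberEquiv f), Nat.card_sigma,
    Finset.sum_congr rfl (fun e _ => hfib e), Finset.sum_const, Finset.card_univ, smul_eq_mul,
    Nat.card_eq_fintype_card (α := DC A u)]

/-- The central involution of `u` and an involution of a further class lies in `D`. -/
theorem Side.isD_half (hu : Side A u) (hv : Side A v) (huv : ¬ IsConj u v) {w : G}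
    (hw : IsConj v w) : IsD A (half w u) ∧ half w u * u = u * half w u := by
  have hw2 : orderOf w = 2 := (orderOf_of_isConj hw).trans hv.orderOf_eq
  obtain ⟨hz2, hzw, hzu⟩ := half_spec hw2 hu.orderOf_eq
    (even_of_not_isConj hw2 hu.orderOf_eq fun e => huv (hw.trans e).symm)
  refine ⟨?_, hzu.eq⟩
  obtain ⟨g, hg⟩ := isConj_iff.1 hw
  rcases hu.invol _ hz2 hzu.eq with e | e
  · exact e
  · rcases hv.invol (g⁻¹ * half w u * g⁻¹⁻¹)
      (by rw [Cfsg.Agent.Lib.Involutions.Basic.orderOf_conj_eq, hz2]) (by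
        rw [show v = g⁻¹ * w * g⁻¹⁻¹ by rw [← hg]; group,
          show g⁻¹ * half w u * g⁻¹⁻¹ * (g⁻¹ * w * g⁻¹⁻¹) = g⁻¹ * (half w u * w) * g⁻¹⁻¹ by group,
          hzw.eq]
        group) with e' | e'
    · exact Setting.isD_conj_iff.1 e'
    · exact absurd ((e.trans (isConj_iff.2 ⟨g⁻¹, rfl⟩)).trans e'.symm) huv

/-- `|V| = |D ∩ C(u)| x` with `x` counting the `w` with central involution `a`. -/
theorem Side.card_V (hu : Side A u) (hv : Side A v) (huv : ¬ IsConj u v) {a : G} (ha : a ∈ A)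
    (ha1 : a ≠ 1) : Nat.card {w : G // IsConj v w} =
      Nat.card (DC A u) * Nat.card {w : G // IsConj v w ∧ half w u = a} := by
  classical
  haveI : Fintype (DC A u) := Fintype.ofFinite _
  let f : {w : G // IsConj v w} → DC A u := fun w => ⟨half w.1 u, hu.isD_half h hv huv w.2⟩
  have hfib : ∀ e : DC A u, Nat.card {w // f w = e} =
      Nat.card {w : G // IsConj v w ∧ half w u = a} := by
    rintro ⟨e, he, heu⟩
    obtain ⟨g, hgu, hga⟩ := hu.orbitD a ha ha1 e he heu
    have hgu' : g * u * g⁻¹ = u := mul_inv_eq_iff_eq_mul.2 hgu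
    have hiff : ∀ x : G, (IsConj v x ∧ half x u = a) ↔
        (IsConj v (g * x * g⁻¹) ∧ half (g * x * g⁻¹) u = e) := by
      intro x
      have hc : IsConj x (g * x * g⁻¹) := isConj_iff.2 ⟨g, rfl⟩
      have hh : g * half x u * g⁻¹ = half (g * x * g⁻¹) u := by rw [half_conj, hgu']
      rw [← hh, ← hga]
      exact and_congr ⟨fun e => e.trans hc, fun e => e.trans hc.symm⟩
        ⟨fun e => by rw [e], fun e => mul_left_cancel (mul_right_cancel e)⟩
    refine (Nat.card_congr ?_).symm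
    refine (conjEquiv (p := fun x => IsConj v x ∧ half x u = a)
      (q := fun x => IsConj v x ∧ half x u = e) g hiff).trans ?_
    exact
      { toFun := fun x => ⟨⟨x.1, x.2.1⟩, Subtype.ext x.2.2⟩
        invFun := fun x => ⟨x.1.1, x.1.2, congrArg Subtype.val x.2⟩
        left_inv := fun _ => rfl
        right_inv := fun _ => rfl }
  rw [← Nat.card_congr (Equiv.sigmaFiberEquiv f), Nat.card_sigma,
    Finset.sum_congr rfl (fun e _ => hfib e), Finset.sum_const, Finset.card_univ, smul_eq_mul,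
    Nat.card_eq_fintype_card (α := DC A u)]

/-- Commuting pairs in `D` and a class, counted from both ends. -/
theorem Side.double_count (hv : Side A v) {a : G} (ha : a ∈ A) (ha1 : a ≠ 1) :
    Nat.card {d : G // IsD A d} * Nat.card {w : G // IsConj v w ∧ w * a = a * w} =
      Nat.card {w : G // IsConj v w} * Nat.card (DC A v) := by
  classical
  haveI := Fintype.ofFinite {d : G // IsD A d}
  haveI := Fintype.ofFinite {w : G // IsConj v w}
  let T := {p : {d : G // IsD A d} × {w : G // IsConj v w} // p.1.1 * p.2.1 = p.2.1 * p.1.1}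
  have h1 : Nat.card T =
      Nat.card {d : G // IsD A d} * Nat.card {w : G // IsConj v w ∧ w * a = a * w} := by
    rw [← Nat.card_congr (Equiv.sigmaFiberEquiv (fun p : T => p.1.1)), Nat.card_sigma]
    rw [Finset.sum_congr rfl (fun d _ => ?_), Finset.sum_const, Finset.card_univ, smul_eq_mul,
      Nat.card_eq_fintype_card (α := {d : G // IsD A d})]
    obtain ⟨g, hg⟩ := h.isD_exists d.2 ha ha1
    refine (Nat.card_congr ?_).symm
    refine (conjEquiv (p := fun x => IsConj v x ∧ x * a = a * x)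
      (q := fun x => IsConj v x ∧ d.1 * x = x * d.1) g fun x => ?_).trans ?_
    · have hc : IsConj x (g * x * g⁻¹) := isConj_iff.2 ⟨g, rfl⟩
      rw [← hg, show g * a * g⁻¹ * (g * x * g⁻¹) = g * (a * x) * g⁻¹ by group,
        show g * x * g⁻¹ * (g * a * g⁻¹) = g * (x * a) * g⁻¹ by group]
      exact and_congr ⟨fun e => e.trans hc, fun e => e.trans hc.symm⟩
        ⟨fun e => by rw [e], fun e => (mul_left_cancel (mul_right_cancel e)).symm⟩
    · exact
        { toFun := fun x => ⟨⟨(d, ⟨x.1, x.2.1⟩), x.2.2⟩, rfl⟩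
          invFun := fun p => ⟨p.1.1.2.1, p.1.1.2.2, by
            have := p.1.2; rwa [show p.1.1.1 = d from p.2] at this⟩
          left_inv := fun _ => rfl
          right_inv := fun p => by obtain ⟨⟨⟨d', w'⟩, hp⟩, rfl⟩ := p; rfl }
  have h2 : Nat.card T = Nat.card {w : G // IsConj v w} * Nat.card (DC A v) := by
    rw [← Nat.card_congr (Equiv.sigmaFiberEquiv (fun p : T => p.1.2)), Nat.card_sigma]
    rw [Finset.sum_congr rfl (fun w _ => ?_), Finset.sum_const, Finset.card_univ, smul_eq_mul,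
      Nat.card_eq_fintype_card (α := {w : G // IsConj v w})]
    obtain ⟨g, hg⟩ := isConj_iff.1 w.2
    refine (Nat.card_congr ?_).symm
    refine (conjEquiv (p := fun x => IsD A x ∧ x * v = v * x)
      (q := fun x => IsD A x ∧ x * w.1 = w.1 * x) g fun x => ?_).trans ?_
    · rw [← hg, show g * x * g⁻¹ * (g * v * g⁻¹) = g * (x * v) * g⁻¹ by group,
        show g * v * g⁻¹ * (g * x * g⁻¹) = g * (v * x) * g⁻¹ by group]
      exact and_congr Setting.isD_conj_iff.symm
        ⟨fun e => by rw [e], fun e => mul_left_cancel (mul_right_cancel e)⟩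
    · exact
        { toFun := fun x => ⟨⟨(⟨x.1, x.2.1⟩, w), x.2.2⟩, rfl⟩
          invFun := fun p => ⟨p.1.1.1.1, p.1.1.1.2, by
            have := p.1.2; rwa [show p.1.1.2 = w from p.2] at this⟩
          left_inv := fun _ => rfl
          right_inv := fun p => by obtain ⟨⟨⟨d', w'⟩, hp⟩, rfl⟩ := p; rfl }
  exact h1.symm.trans h2

/-- An element of `C(u) ∩ N(A)` with prescribed action on `A`. -/
theorem Side.exists_rot (hu : Side A u) {a b : G} (ha : a ∈ A) (ha1 : a ≠ 1) (hb : b ∈ A)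
    (hb1 : b ≠ 1) : ∃ n ∈ normalizer (A : Set G), n * u * n⁻¹ = u ∧ n * a * n⁻¹ = b := by
  obtain ⟨m, hm, hmab⟩ := h.trans ha ha1 hb hb1
  obtain ⟨c, hc, hcu⟩ := hu.orbitA (m * u * m⁻¹)
    (normalizer_le_normalizer_centralizer h hm hu.cent) (isConj_iff.2 ⟨m, rfl⟩)
  refine ⟨c⁻¹ * m, mul_mem (inv_mem (centralizer_le_normalizer _ hc)) hm, ?_, ?_⟩
  · rw [show c⁻¹ * m * u * (c⁻¹ * m)⁻¹ = c⁻¹ * (m * u * m⁻¹) * c by group, ← hcu]; group
  · rw [show c⁻¹ * m * a * (c⁻¹ * m)⁻¹ = c⁻¹ * (m * a * m⁻¹) * c by group, hmab, mul_assoc,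
      ← h.mem_centralizer_of_commute hc hb, inv_mul_cancel_left]

/-- A third of the members of a further class in `C(a)` have central involution `a` with `u`. -/
theorem Side.card_third (hu : Side A u) (hv : Side A v) (huv : ¬ IsConj u v) {a : G} (ha : a ∈ A)
    (ha1 : a ≠ 1) : 3 * Nat.card {w : G // IsConj v w ∧ half w u = a} =
      Nat.card {w : G // IsConj v w ∧ w * a = a * w} := by
  classical
  haveI : Fact (Nat.Prime 2) := ⟨Nat.prime_two⟩
  let π := proj (zpowers a)
  have hCa : ∀ {x : G}, x * a = a * x → x ∈ centralizer (zpowers a : Set G) := fun hx => by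
    rw [Walter.centralizer_zpowers, mem_centralizer_singleton_iff]; exact hx
  have hCa' : ∀ {x : G}, x ∈ centralizer (zpowers a : Set G) → x * a = a * x := fun hx => by
    rw [Walter.centralizer_zpowers] at hx; exact mem_centralizer_singleton_iff.1 hx
  have hAa : ∀ {x : G}, x ∈ centralizer (A : Set G) → x ∈ centralizer (zpowers a : Set G) :=
    fun hx => hCa (h.mem_centralizer_of_commute hx ha)
  have hev : ∀ {w : G}, IsConj v w → Even (orderOf (w * u)) := fun hw =>
    even_of_not_isConj ((orderOf_of_isConj hw).trans hv.orderOf_eq) hu.orderOf_eq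
      fun e => huv (hw.trans e).symm
  let X := {w : G // IsConj v w ∧ w * a = a * w}
  let X' := {w : G // IsConj v w ∧ w ∈ centralizer (A : Set G)}
  let Y := {y : CBar (zpowers a) // IsConj (π ⟨v, hAa hv.cent⟩) y}
  let f : X → Y := fun w => ⟨π ⟨w.1, hCa w.2.2⟩, by
    obtain ⟨g, hg, hge⟩ := hv.orbit a ha ha1 w.1 w.2.1 w.2.2
    refine isConj_iff.2 ⟨π ⟨g, hCa hg⟩, ?_⟩
    rw [← map_mul, ← map_inv, ← map_mul]
    exact congrArg π (Subtype.ext hge)⟩
  let f' : X' → Y := fun w => ⟨π ⟨w.1, hAa w.2.2⟩,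
    (f ⟨w.1, w.2.1, h.mem_centralizer_of_commute w.2.2 ha⟩).2⟩
  let y₀ : Y := ⟨π ⟨v, hAa hv.cent⟩, IsConj.refl _⟩
  have hlift : ∀ y : Y, ∃ g, ∃ hg : g ∈ centralizer (A : Set G),
      π ⟨g, hAa hg⟩ * π ⟨v, hAa hv.cent⟩ * (π ⟨g, hAa hg⟩)⁻¹ = y.1 := by
    rintro ⟨y, hy⟩
    obtain ⟨c, hc⟩ := isConj_iff.1 hy
    obtain ⟨⟨g, hg⟩, rfl⟩ := proj_surjective (zpowers a) c
    obtain ⟨o, ho, k, hk, hok⟩ := h.core_mul ha ha1 g
      ⟨by rw [← Walter.centralizer_zpowers]; exact hg, mem_top _⟩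
    refine ⟨k, hk.1, ?_⟩
    have hoC : o ∈ centralizer (zpowers a : Set G) := by
      rw [Walter.centralizer_zpowers]; exact Walter.core_le a ho.1
    rw [show π ⟨k, hAa hk.1⟩ = proj (zpowers a) ⟨g, hg⟩ by
      rw [show (⟨g, hg⟩ : ↥(centralizer (zpowers a : Set G))) = ⟨o, hoC⟩ * ⟨k, hAa hk.1⟩ from
        Subtype.ext hok.symm, map_mul, (proj_eq_one_iff hoC).2 (Walter.coreC_zpowers a ▸ ho.1),
        one_mul]]
    exact hc
  have hfib : ∀ y, Nat.card {w // f w = y} = Nat.card {w // f w = y₀} := by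
    intro y
    obtain ⟨g, hg, hgy⟩ := hlift y
    refine (Nat.card_congr ?_).symm
    have hga : g * a * g⁻¹ = a := mul_inv_eq_iff_eq_mul.2 (h.mem_centralizer_of_commute hg ha)
    refine Equiv.subtypeEquiv (conjEquiv (p := fun x => IsConj v x ∧ x * a = a * x)
      (q := fun x => IsConj v x ∧ x * a = a * x) g fun x =>
        and_congr ⟨fun e => e.trans (isConj_iff.2 ⟨g, rfl⟩),
          fun e => e.trans (isConj_iff.2 ⟨g, rfl⟩).symm⟩ (commute_conj_iff hga).symm) fun w => ?_
    have e : (f (conjEquiv (p := fun x => IsConj v x ∧ x * a = a * x)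
        (q := fun x => IsConj v x ∧ x * a = a * x) g (fun x =>
        and_congr ⟨fun e => e.trans (isConj_iff.2 ⟨g, rfl⟩),
          fun e => e.trans (isConj_iff.2 ⟨g, rfl⟩).symm⟩ (commute_conj_iff hga).symm) w)).1 =
        π ⟨g, hAa hg⟩ * (f w).1 * (π ⟨g, hAa hg⟩)⁻¹ := by
      rw [← map_inv, ← map_mul, ← map_mul]; rfl
    rw [Subtype.ext_iff, Subtype.ext_iff, e, ← hgy]
    exact ⟨fun e => by rw [e], fun e => mul_left_cancel (mul_right_cancel e)⟩
  have hfib' : ∀ y, Nat.card {w // f' w = y} = Nat.card {w // f' w = y₀} := by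
    intro y
    obtain ⟨g, hg, hgy⟩ := hlift y
    refine (Nat.card_congr ?_).symm
    refine Equiv.subtypeEquiv (conjEquiv (p := fun x => IsConj v x ∧ x ∈ centralizer (A : Set G))
      (q := fun x => IsConj v x ∧ x ∈ centralizer (A : Set G)) g fun x =>
        and_congr ⟨fun e => e.trans (isConj_iff.2 ⟨g, rfl⟩),
          fun e => e.trans (isConj_iff.2 ⟨g, rfl⟩).symm⟩
          ⟨fun e => mul_mem (mul_mem hg e) (inv_mem hg), fun e => by
            simpa [mul_assoc] using mul_mem (mul_mem (inv_mem hg) e) hg⟩) fun w => ?_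
    rw [Subtype.ext_iff, Subtype.ext_iff, ← hgy]
    show π ⟨w.1, hAa w.2.2⟩ = π ⟨v, hAa hv.cent⟩ ↔ π (⟨g, hAa hg⟩ * ⟨w.1, hAa w.2.2⟩ * ⟨g, hAa hg⟩⁻¹)
      = π ⟨g, hAa hg⟩ * π ⟨v, hAa hv.cent⟩ * (π ⟨g, hAa hg⟩)⁻¹
    rw [map_mul, map_mul, map_inv]
    exact ⟨fun e => by rw [e], fun e => mul_left_cancel (mul_right_cancel e)⟩
  let R : Y → Prop := fun y => half y.1 (π ⟨u, hAa hu.cent⟩) = π ⟨a, hCa rfl⟩
  -- `R` detects the central involution `a`
  have hR : ∀ (w : G) (hw : IsConj v w) (hwC : w ∈ centralizer (zpowers a : Set G)),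
      half w u = a ↔ half (π ⟨w, hwC⟩) (π ⟨u, hAa hu.cent⟩) = π ⟨a, hCa rfl⟩ := by
    intro w hw hwC
    rw [← map_half π (Walter.proj_ker_odd _) (x := ⟨w, hwC⟩) (y := ⟨u, hAa hu.cent⟩)
      (by rw [← Subgroup.orderOf_coe]; exact hev hw)]
    set z := half (⟨w, hwC⟩ : ↥(centralizer (zpowers a : Set G))) ⟨u, hAa hu.cent⟩ with hz
    have hzval : (z : G) = half w u := by
      rw [hz, half, half, SubmonoidClass.coe_pow, ← Subgroup.orderOf_coe]; rfl
    refine ⟨fun e => congrArg π (Subtype.ext (hzval.trans e)), fun e => ?_⟩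
    have h6 : π (z * ⟨a, hCa rfl⟩⁻¹) = 1 := by rw [map_mul, map_inv, e, mul_inv_cancel]
    have h7 := (proj_eq_one_iff (mul_mem z.2 (inv_mem (hCa rfl)))).1 h6
    obtain ⟨l, hl⟩ := Walter.odd_coreC (zpowers a)
    have h9 : ((z : G) * a⁻¹) ^ Nat.card ↥(Walter.coreC (zpowers a)) = 1 :=
      congrArg Subtype.val (pow_card_eq_one'
        (x := (⟨(z : G) * a⁻¹, h7⟩ : ↥(Walter.coreC (zpowers a)))))
    have hzz : (z : G) * z = 1 := by
      rw [hzval]
      exact invol_mul_self (h.isD_orderOf (hu.isD_half h hv huv hw).1)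
    have hxx : (z : G) * a⁻¹ * ((z : G) * a⁻¹) = 1 := by
      rw [h.inv_eq ha, mul_assoc (z : G) a, ← mul_assoc a (z : G) a, ← hCa' z.2,
        mul_assoc (z : G) a a, h.sq ha, mul_one, hzz]
    rw [hl, pow_succ, pow_mul, pow_two, hxx, one_pow, one_mul] at h9
    exact hzval ▸ mul_inv_eq_one.1 h9
  have hX := card_proportion f y₀ hfib R
  have hX' := card_proportion f' y₀ hfib' R
  have e1 : Nat.card {w // R (f w)} = Nat.card {w : G // IsConj v w ∧ half w u = a} := by
    refine Nat.card_congr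
      { toFun := fun w => ⟨w.1.1, w.1.2.1, (hR _ w.1.2.1 _).2 w.2⟩
        invFun := fun w => ⟨⟨w.1, w.2.1, ?_⟩, ?_⟩
        left_inv := fun _ => rfl
        right_inv := fun _ => rfl }
    · have h1 := (half_spec ((orderOf_of_isConj w.2.1).trans hv.orderOf_eq) hu.orderOf_eq
        (hev w.2.1)).2.1
      rw [w.2.2] at h1
      exact h1.symm.eq
    · exact (hR _ w.2.1 _).1 w.2.2
  have e2 : Nat.card {w // R (f' w)} =
      Nat.card {w : G // (IsConj v w ∧ w ∈ centralizer (A : Set G)) ∧ half w u = a} :=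
    Nat.card_congr
      { toFun := fun w => ⟨w.1.1, w.1.2, (hR _ w.1.2.1 _).2 w.2⟩
        invFun := fun w => ⟨⟨w.1, w.2.1⟩, (hR _ w.2.1.1 _).1 w.2.2⟩
        left_inv := fun _ => rfl
        right_inv := fun _ => rfl }
  -- in `C(A)` the three central involutions are equally frequent
  obtain ⟨b, hb, hb1, hba⟩ := h.exists_ne (a := a)
  have habA := mul_mem ha hb
  have hab1 : a * b ≠ 1 := fun e =>
    hba ((eq_inv_of_mul_eq_one_right e).trans (h.inv_eq ha))
  have hkey : 3 * Nat.card {w : G // (IsConj v w ∧ w ∈ centralizer (A : Set G)) ∧ half w u = a} =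
      Nat.card X' := by
    have hsame : ∀ c ∈ A, c ≠ 1 →
        Nat.card {w : G // (IsConj v w ∧ w ∈ centralizer (A : Set G)) ∧ half w u = c} =
        Nat.card {w : G // (IsConj v w ∧ w ∈ centralizer (A : Set G)) ∧ half w u = a} := by
      intro c hc hc1
      obtain ⟨n, hn, hnu, hnc⟩ := hu.exists_rot h ha ha1 hc hc1
      refine (Nat.card_congr (conjEquiv n fun x => ?_)).symm
      have hh : n * half x u * n⁻¹ = half (n * x * n⁻¹) u := by rw [half_conj, hnu]
      rw [← hh, ← hnc]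
      refine and_congr (and_congr ⟨fun e => e.trans (isConj_iff.2 ⟨n, rfl⟩),
        fun e => e.trans (isConj_iff.2 ⟨n, rfl⟩).symm⟩
          ⟨fun e => normalizer_le_normalizer_centralizer h hn e, fun e => ?_⟩)
        ⟨fun e => by rw [e], fun e => mul_left_cancel (mul_right_cancel e)⟩
      simpa [mul_assoc] using normalizer_le_normalizer_centralizer h (inv_mem hn) e
    let g : X' → {c : G // c = a ∨ c = b ∨ c = a * b} := fun w => ⟨half w.1 u, by
      have hd := hu.isD_half h hv huv w.2.1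
      have hm := h.mem_of_isD_centralizer hd.1 (RankTwoBad.half_mem w.2.2 hu.cent)
      rcases h.cases ha ha1 hb hb1 (Ne.symm hba) hm with e | e | e | e
      · exfalso
        have h1 := h.isD_orderOf hd.1
        rw [e, orderOf_one] at h1
        omega
      · exact Or.inl e
      · exact Or.inr (Or.inl e)
      · exact Or.inr (Or.inr e)⟩
    haveI : Fintype {c : G // c = a ∨ c = b ∨ c = a * b} := Fintype.ofFinite _
    have hA3 : Nat.card {c : G // c = a ∨ c = b ∨ c = a * b} = 3 := by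
      rw [show {c : G // c = a ∨ c = b ∨ c = a * b} = ↥({a, b, a * b} : Set G) from rfl,
        Nat.card_coe_set_eq, Set.ncard_eq_three]
      exact ⟨a, b, a * b, Ne.symm hba, fun e => hb1 (mul_eq_left.1 e.symm),
        fun e => ha1 (mul_eq_right.1 e.symm), rfl⟩
    rw [← Nat.card_congr (Equiv.sigmaFiberEquiv g), Nat.card_sigma]
    rw [Finset.sum_congr rfl (fun c _ => ?_), Finset.sum_const, Finset.card_univ, smul_eq_mul,
      ← Nat.card_eq_fintype_card, hA3]
    refine Eq.trans (Nat.card_congr ?_) (hsame c.1 ?_ ?_)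
    · exact
        { toFun := fun w => ⟨w.1.1, w.1.2, congrArg Subtype.val w.2⟩
          invFun := fun w => ⟨⟨w.1, w.2.1⟩, Subtype.ext w.2.2⟩
          left_inv := fun _ => rfl
          right_inv := fun _ => rfl }
    · rcases c.2 with e | e | e <;> rw [e]
      exacts [ha, hb, habA]
    · rcases c.2 with e | e | e <;> rw [e]
      exacts [ha1, hb1, hab1]
  rw [e1] at hX
  rw [e2] at hX'
  haveI : Nonempty Y := ⟨y₀⟩
  haveI : Nonempty X' := ⟨⟨v, IsConj.refl v, hv.cent⟩⟩
  have hY : 0 < Nat.card Y := Nat.card_pos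
  have hX'pos : 0 < Nat.card X' := Nat.card_pos
  have h3 : 3 * Nat.card {y // R y} = Nat.card Y := by
    refine Nat.eq_of_mul_eq_mul_left hX'pos ?_
    rw [mul_left_comm, ← hX', ← mul_assoc, hkey]
  refine Nat.eq_of_mul_eq_mul_right hY ?_
  rw [mul_assoc, hX, mul_left_comm, h3]

/-- `c N = l |D ∩ C(u)|` inside the component, and `N < 3 l`. -/
theorem Side.exists_bound (hu : Side A u) {a : G} (ha : a ∈ A) (ha1 : a ≠ 1) :
    ∃ N l : ℕ, N < 3 * l ∧
      Nat.card {d : G // (IsD A d ∧ d * u = u * d) ∧ Odd (orderOf (d * a))} * N =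
        Nat.card (DC A u) * l := by
  classical
  haveI : Fact (Nat.Prime 2) := ⟨Nat.prime_two⟩
  obtain ⟨K, hK⟩ := hu.comp
  haveI := hK.normal
  let π := proj (zpowers u)
  have hCu : ∀ {x : G}, x * u = u * x → x ∈ centralizer (zpowers u : Set G) := fun hx => by
    rw [Walter.centralizer_zpowers, mem_centralizer_singleton_iff]; exact hx
  have hCu' : ∀ {x : G}, x ∈ centralizer (zpowers u : Set G) → x * u = u * x := fun hx => by
    rw [Walter.centralizer_zpowers] at hx; exact mem_centralizer_singleton_iff.1 hx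
  have hau : a * u = u * a := (h.mem_centralizer_of_commute hu.cent ha).symm
  have haC := hCu hau
  set ā : ↥K := ⟨π ⟨a, haC⟩, hK.le (mem_imageBar haC ha)⟩ with hādef
  have hāo : orderOf ā = 2 := by
    rw [← Subgroup.orderOf_coe]
    refine orderOf_eq_prime (by
      show π ⟨a, haC⟩ ^ 2 = 1
      rw [← map_pow, show (⟨a, haC⟩ : ↥(centralizer (zpowers u : Set G))) ^ 2 = 1 from
        Subtype.ext (by
          show a ^ 2 = 1
          rw [pow_two, h.sq ha]), map_one]) ?_
    exact fun e => ha1 (proj_inj (PGroups.elemAb_isPGroup h.hyp.elem) (x := ⟨a, haC⟩) (y := 1) ha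
      (one_mem A) (e.trans (map_one _).symm))
  let Y := {j : ↥K // orderOf j = 2}
  have hconjK : ∀ (g : G) (hg : g ∈ centralizer (zpowers u : Set G)) (x : ↥K),
      π ⟨g, hg⟩ * (x : CBar (zpowers u)) * (π ⟨g, hg⟩)⁻¹ ∈ K :=
    fun g hg x => hK.normal.conj_mem _ x.2 _
  have horb : ∀ d : DC A u, ∃ g, ∃ hg : g ∈ centralizer (zpowers u : Set G),
      π ⟨g, hg⟩ * π ⟨a, haC⟩ * (π ⟨g, hg⟩)⁻¹ = π ⟨d.1, hCu d.2.2⟩ := by
    intro d
    obtain ⟨g, hg, hge⟩ := hu.orbitD a ha ha1 d.1 d.2.1 d.2.2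
    refine ⟨g, hCu hg, ?_⟩
    rw [← map_inv, ← map_mul, ← map_mul]
    exact congrArg π (Subtype.ext hge)
  let f : DC A u → Y := fun d => ⟨⟨π ⟨d.1, hCu d.2.2⟩, by
      obtain ⟨g, hg, hge⟩ := horb d
      rw [← hge]
      exact hconjK g hg ā⟩, by
    obtain ⟨g, hg, hge⟩ := horb d
    rw [← Subgroup.orderOf_coe]
    show orderOf (π ⟨d.1, hCu d.2.2⟩) = 2
    rw [← hge, Cfsg.Agent.Lib.Involutions.Basic.orderOf_conj_eq]
    exact (Subgroup.orderOf_coe ā).trans hāo⟩
  let y₀ : Y := ⟨ā, hāo⟩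
  have hfib : ∀ y, Nat.card {d // f d = y} = Nat.card {d // f d = y₀} := by
    intro y
    obtain ⟨k, hk⟩ := isConj_iff.1 (OddType.conj hK.oddType ā y.1 hāo y.2)
    obtain ⟨⟨g, hg⟩, hgk⟩ := proj_surjective (zpowers u) (k : CBar (zpowers u))
    have hgu : g * u * g⁻¹ = u := mul_inv_eq_iff_eq_mul.2 (hCu' hg)
    refine (Nat.card_congr ?_).symm
    let E : DC A u ≃ DC A u := conjEquiv (p := fun x => IsD A x ∧ x * u = u * x)
      (q := fun x => IsD A x ∧ x * u = u * x) g fun x =>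
        and_congr Setting.isD_conj_iff.symm (commute_conj_iff hgu).symm
    refine Equiv.subtypeEquiv E fun d => ?_
    rw [Subtype.ext_iff, Subtype.ext_iff, Subtype.ext_iff, Subtype.ext_iff]
    have hk' : (k : CBar (zpowers u)) * π ⟨a, haC⟩ * (k : CBar (zpowers u))⁻¹ = (y.1 : CBar (zpowers u)) :=
      congrArg Subtype.val hk
    rw [← hk', ← hgk]
    show π ⟨d.1, hCu d.2.2⟩ = π ⟨a, haC⟩ ↔
      π (⟨g, hg⟩ * ⟨d.1, hCu d.2.2⟩ * ⟨g, hg⟩⁻¹) = π ⟨g, hg⟩ * π ⟨a, haC⟩ * (π ⟨g, hg⟩)⁻¹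
    rw [map_mul, map_mul, map_inv]
    exact ⟨fun e => by rw [e], fun e => mul_left_cancel (mul_right_cancel e)⟩
  have h1 := card_proportion f y₀ hfib fun j => Odd (orderOf (j.1 * ā))
  have hiff : ∀ d : DC A u, Odd (orderOf (d.1 * a)) ↔ Odd (orderOf ((f d).1 * ā)) := by
    intro d
    rw [← Subgroup.orderOf_coe ((f d).1 * ā)]
    show _ ↔ Odd (orderOf (π ⟨d.1, hCu d.2.2⟩ * π ⟨a, haC⟩))
    rw [← map_mul, odd_map_iff π (Walter.proj_ker_odd _), ← Subgroup.orderOf_coe]
    rfl
  have e1 : Nat.card {d : G // (IsD A d ∧ d * u = u * d) ∧ Odd (orderOf (d * a))} =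
      Nat.card {d // Odd (orderOf ((f d).1 * ā))} := Nat.card_congr
    { toFun := fun d => ⟨⟨d.1, d.2.1⟩, (hiff ⟨d.1, d.2.1⟩).1 d.2.2⟩
      invFun := fun d => ⟨d.1.1, d.1.2, (hiff d.1).2 d.2⟩
      left_inv := fun _ => rfl
      right_inv := fun _ => rfl }
  have e2 : Nat.card {j : Y // Odd (orderOf (j.1 * ā))} =
      Nat.card {j : ↥K // orderOf j = 2 ∧ Odd (orderOf (j * ā))} :=
    Nat.card_congr (Equiv.subtypeSubtypeEquivSubtypeInter (fun j : ↥K => orderOf j = 2)
      (fun j => Odd (orderOf (j * ā))))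
  refine ⟨Nat.card Y, _, OddType.lt_three_mul hK.oddType hāo, ?_⟩
  rw [e1, h1, e2]

/-- `|D ∩ C(u)| < |D ∩ C(v)|`. -/
theorem Side.card_lt (hu : Side A u) (hv : Side A v) (huv : ¬ IsConj u v) :
    Nat.card (DC A u) < Nat.card (DC A v) := by
  obtain ⟨a, ha, ha1, -⟩ := h.exists_ne (a := (1 : G))
  obtain ⟨N, l, hNl, hcN⟩ := hu.exists_bound h ha ha1
  have h1 := hu.card_D h ha ha1
  have h2 := hu.card_V h hv huv ha ha1
  have h3 := hu.card_third h hv huv ha ha1
  have h4 := hv.double_count h ha ha1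
  haveI : Nonempty (DC A u) :=
    ⟨⟨a, Setting.isD_of_mem ha ha1, (h.mem_centralizer_of_commute hu.cent ha).symm⟩⟩
  have hp : 0 < Nat.card (DC A u) := Nat.card_pos
  set p := Nat.card (DC A u)
  set q := Nat.card (DC A v)
  set c := Nat.card {d : G // (IsD A d ∧ d * u = u * d) ∧ Odd (orderOf (d * a))}
  set x := Nat.card {w : G // IsConj v w ∧ half w u = a}
  have hV : 0 < p * x := by
    rw [← h2]
    haveI : Nonempty {w : G // IsConj v w} := ⟨⟨v, IsConj.refl v⟩⟩
    exact Nat.card_pos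
  rw [h1, h2, ← h3] at h4
  have h5 : 3 * c = q := Nat.eq_of_mul_eq_mul_left hV (by linarith [h4] : p * x * (3 * c) = p * x * q)
  have h6 : q * N = p * (3 * l) := by rw [← h5]; linarith [hcN]
  by_contra hle
  push Not at hle
  have h7 : q * N ≤ p * N := Nat.mul_le_mul_right N hle
  have h8 : p * N < p * (3 * l) := Nat.mul_lt_mul_of_pos_left hNl hp
  omega

/-- Two classes of bad involutions are too many. -/
theorem count_false {u v : G} (hu : Side A u) (hv : Side A v) (huv : ¬ IsConj u v) : False := by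
  have h1 := hu.card_lt h hv huv
  have h2 := hv.card_lt h hu fun e => huv e.symm
  omega

end

end Cfsg.Agent.Lib.Goldschmidt53.RankTwoBadOne
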