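import Cfsg.Agent.Lib.Goldschmidt53.RankTwoBadBase

/-!
# Rank two, bad involutions: definitions

Owner: helper72.  An involution `u` outside `A` centralising it is bad if it is not good.  Modulo the
core `C(u)` then has a component `K ≅ PSL(2, q)`, `q ≡ 3, 5 mod 8`, containing the image of `A`.
`Mate u t` says that `t` centralises this component; it is symmetric in the two elements.  A `Side` is
what the count of Thompson's order formula type uses about one class of bad involutions.
-/

set_option autoImplicit false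

universe u

namespace Cfsg.Agent.Lib.Goldschmidt53.RankTwoBadOne

open Subgroup
open Cfsg.Agent.Lib.Walter (CBar imageBar)
open Cfsg.Agent.Lib.Goldschmidt53.RankTwoBad (IsD)

variable {G : Type u} [Group G]

/-- A bad involution. -/
structure Bad (A : Subgroup G) (u : G) : Prop where
  cent : u ∈ centralizer (A : Set G)
  notMem : u ∉ A
  sq : u * u = 1
  bad : ¬ GoodInv A u

/-- Some element of `N(A)` moving `A` commutes with `u` and `t`. -/
def Mate (A : Subgroup G) (u t : G) : Prop :=
  ∃ n ∈ normalizer (A : Set G), n ∉ centralizer (A : Set G) ∧ n * u = u * n ∧ n * t = t * n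

/-- The component of `C(u)` modulo the core which contains the image of `A`. -/
structure BadComp (A : Subgroup G) (u : G) (K : Subgroup (CBar (zpowers u))) : Prop where
  normal : K.Normal
  oddType : Walter.IsOddType ↥K
  le : imageBar (zpowers u) A ≤ K
  /-- Some element of `K` centralises a non-trivial element of `A` without centralising all of `A`. -/
  extra : ∃ a ∈ A, a ≠ 1 ∧ ∃ k ∈ K,
    k ∈ centralizer (imageBar (zpowers u) (zpowers a) : Set (CBar (zpowers u))) ∧
      k ∉ centralizer (imageBar (zpowers u) A : Set (CBar (zpowers u)))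

/-- An elementary group of order 16 through `A` of bad involutions, a Sylow 2-subgroup of their
centralisers. -/
structure Block (A T : Subgroup G) : Prop where
  le : A ≤ T
  cent : T ≤ centralizer (A : Set G)
  card : Nat.card ↥T = 16
  sq : ∀ x ∈ T, x * x = 1
  bad : ∀ x ∈ T, x ∉ A → Bad A x
  maximal : ∀ x ∈ T, x ∉ A → ∀ U : Subgroup G, IsPGroup 2 ↥U → T ≤ U →
    (∀ y ∈ U, y * x = x * y) → U = T
  rot : ∀ x ∈ T, x ∉ A → ∀ a ∈ A, a ≠ 1 → ∀ b ∈ A, b ≠ 1 →
    ∃ n ∈ normalizer (A : Set G), n ∈ normalizer (T : Set G) ∧ n * x = x * n ∧ n * a * n⁻¹ = b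

/-- Two blocks in a group of order 64. -/
structure Double (A T T₂ P : Subgroup G) : Prop where
  left : Block A T
  right : Block A T₂
  le_left : T ≤ P
  le_right : T₂ ≤ P
  inf : T ⊓ T₂ = A
  isPGroup : IsPGroup 2 ↥P
  card : Nat.card ↥P = 64
  normal_left : P ≤ normalizer (T : Set G)
  normal_right : P ≤ normalizer (T₂ : Set G)
  invol : ∀ g ∈ P, g * g = 1 → g ∈ T ∨ g ∈ T₂
  commA : ∀ x ∈ T, ∀ y ∈ T₂, x * y * x⁻¹ * y⁻¹ ∈ A
  translate_left : ∀ x ∈ T, x ∉ A → ∀ a ∈ A, ∃ g ∈ P, g * x * g⁻¹ = x * a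
  translate_right : ∀ x ∈ T₂, x ∉ A → ∀ a ∈ A, ∃ g ∈ P, g * x * g⁻¹ = x * a
  max_left : ∀ U : Subgroup G, IsPGroup 2 ↥U → U ≤ normalizer (T : Set G) →
    U ≤ centralizer (A : Set G) → Nat.card ↥U ≤ 64
  max_right : ∀ U : Subgroup G, IsPGroup 2 ↥U → U ≤ normalizer (T₂ : Set G) →
    U ≤ centralizer (A : Set G) → Nat.card ↥U ≤ 64

/-- What the count uses about a class of bad involutions. -/
structure Side (A : Subgroup G) (u : G) : Prop where
  cent : u ∈ centralizer (A : Set G)
  notMem : u ∉ A
  sq : u * u = 1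
  /-- An involution commuting with `u` is conjugate to one of `A` or to `u`. -/
  invol : ∀ z : G, orderOf z = 2 → z * u = u * z → IsD A z ∨ IsConj u z
  /-- `C(u)` is transitive on the conjugates of `A#` in it. -/
  orbitD : ∀ a ∈ A, a ≠ 1 → ∀ d : G, IsD A d → d * u = u * d →
    ∃ g : G, g * u = u * g ∧ g * a * g⁻¹ = d
  /-- The translates of `u` by `A` are conjugate under `C(A)`. -/
  translate : ∀ a ∈ A, ∃ g ∈ centralizer (A : Set G), g * u * g⁻¹ = u * a
  /-- `C(a)` is transitive on the conjugates of `u` in it. -/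
  orbit : ∀ a ∈ A, a ≠ 1 → ∀ x : G, IsConj u x → x * a = a * x →
    ∃ g : G, g * a = a * g ∧ g * u * g⁻¹ = x
  /-- `C(A)` is transitive on the conjugates of `u` in it. -/
  orbitA : ∀ x ∈ centralizer (A : Set G), IsConj u x →
    ∃ g ∈ centralizer (A : Set G), g * u * g⁻¹ = x
  comp : ∃ K : Subgroup (CBar (zpowers u)), BadComp A u K

end Cfsg.Agent.Lib.Goldschmidt53.RankTwoBadOne
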