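import Cfsg.Agent.Lib.Goldschmidt53.RankTwoBadOne.Rich
import Cfsg.Agent.Lib.ZStar.Elements
import Cfsg.Agent.S0111

/-!
# Rank two, bad involutions: the two classes

Two blocks in a group `P` of order 64: an element of a 2-group above `P` which normalises it would swap
them and could be chosen an involution conjugate into no smaller subgroup, against Thompson's transfer;
so `P` is a Sylow 2-subgroup of `G`, the blocks are not conjugate and each gives one class of
involutions as the count wants it.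

Owner: helper72.
-/

set_option autoImplicit false
set_option linter.style.haveILetI false
set_option linter.unusedSectionVars false

universe u

namespace Cfsg.Agent.Lib.Goldschmidt53.RankTwoBadOne

open Subgroup
open Cfsg.Agent.Lib.Goldschmidt53.RankTwoBad (Setting IsD)

variable {G : Type u} [Group G]

/-- The elements of `C(A)` moving `y` within `y A`. -/
def shifts (A : Subgroup G) (y : G) : Subgroup G where
  carrier := {k | k ∈ centralizer (A : Set G) ∧ k * y * k⁻¹ * y⁻¹ ∈ A}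
  one_mem' := ⟨one_mem _, by simp [one_mem]⟩
  mul_mem' := fun {k l} hk hl => ⟨mul_mem hk.1 hl.1, by
    have e1 : k * l * y * (k * l)⁻¹ * y⁻¹ =
        k * (l * y * l⁻¹ * y⁻¹) * k⁻¹ * (k * y * k⁻¹ * y⁻¹) := by group
    rw [e1, mul_inv_eq_iff_eq_mul.2 (mem_centralizer_iff.1 hk.1 _ hl.2).symm]
    exact mul_mem hl.2 hk.2⟩
  inv_mem' := fun {k} hk => ⟨inv_mem hk.1, by
    have e1 : k⁻¹ * y * k⁻¹⁻¹ * y⁻¹ = k⁻¹ * (k * y * k⁻¹ * y⁻¹)⁻¹ * k := by group
    rw [e1, mul_assoc, mem_centralizer_iff.1 hk.1 _ (inv_mem hk.2), inv_mul_cancel_left]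
    exact inv_mem hk.2⟩

theorem mem_shifts {A : Subgroup G} {y k : G} : k ∈ shifts A y ↔
    k ∈ centralizer (A : Set G) ∧ k * y * k⁻¹ * y⁻¹ ∈ A := Iff.rfl

variable [Finite G]

/-- A 2-subgroup of `H` is moved into a maximal one. -/
theorem exists_conj_into {H P F : Subgroup G} (hP : IsPGroup 2 ↥P) (hPH : P ≤ H)
    (hmax : ∀ U : Subgroup G, IsPGroup 2 ↥U → P ≤ U → U ≤ H → U = P)
    (hF : IsPGroup 2 ↥F) (hFH : F ≤ H) : ∃ c ∈ H, ∀ x ∈ F, c * x * c⁻¹ ∈ P := by
  haveI : Fact (Nat.Prime 2) := ⟨Nat.prime_two⟩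
  obtain ⟨Q₁, hQ₁⟩ := (hP.of_equiv (subgroupOfEquivOfLe hPH).symm).exists_le_sylow
  obtain ⟨Q₂, hQ₂⟩ := (hF.of_equiv (subgroupOfEquivOfLe hFH).symm).exists_le_sylow
  have hQP : (Q₁ : Subgroup ↥H).map H.subtype = P :=
    hmax _ (Q₁.2.map _) (fun x hx => ⟨⟨x, hPH hx⟩, hQ₁ (mem_subgroupOf.2 hx), rfl⟩)
      (map_subtype_le _)
  obtain ⟨c, hc⟩ := MulAction.exists_smul_eq ↥H Q₂ Q₁
  refine ⟨c, c.2, fun x hx => ?_⟩
  rw [← hQP]
  exact ⟨c * ⟨x, hFH hx⟩ * c⁻¹, ZStar.Elements.smul_mem hc (hQ₂ (mem_subgroupOf.2 hx)), rfl⟩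

variable {S : Sylow 2 G} {A T T₂ P : Subgroup G}

/-- A block is a Sylow subgroup of the centraliser of each of its further elements. -/
theorem Block.exists_conj_mem (hB : Block A T) {y : G} (hy : y ∈ T) (hyA : y ∉ A) {F : Subgroup G}
    (hF : IsPGroup 2 ↥F) (hFy : ∀ z ∈ F, z * y = y * z) :
    ∃ c : G, c * y = y * c ∧ ∀ z ∈ F, c * z * c⁻¹ ∈ T := by
  obtain ⟨c, hc, hcF⟩ := exists_conj_into hB.isPGroup (H := centralizer ({y} : Set G))
    (fun t ht => mem_centralizer_singleton_iff.2 (hB.comm t ht y hy))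
    (fun U hU hTU hUy => hB.maximal y hy hyA U hU hTU fun z hz =>
      mem_centralizer_singleton_iff.1 (hUy hz))
    hF (fun z hz => mem_centralizer_singleton_iff.2 (hFy z hz))
  exact ⟨c, mem_centralizer_singleton_iff.1 hc, hcF⟩

theorem Double.swap (hD : Double A T T₂ P) : Double A T₂ T P where
  left := hD.right
  right := hD.left
  le_left := hD.le_right
  le_right := hD.le_left
  inf := (inf_comm T₂ T).trans hD.inf
  isPGroup := hD.isPGroup
  card := hD.card
  normal_left := hD.normal_right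
  normal_right := hD.normal_left
  invol := fun g hg h2 => (hD.invol g hg h2).symm
  commA := fun x hx y hy => by
    have h1 := inv_mem (hD.commA y hy x hx)
    rwa [show (y * x * y⁻¹ * x⁻¹)⁻¹ = x * y * x⁻¹ * y⁻¹ by group] at h1
  translate_left := hD.translate_right
  translate_right := hD.translate_left
  max_left := hD.max_right
  max_right := hD.max_left

variable (hD : Double A T T₂ P)
include hD

theorem Double.mem_inf {g : G} (h1 : g ∈ T) (h2 : g ∈ T₂) : g ∈ A := hD.inf.le ⟨h1, h2⟩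

theorem Double.ne (h : Setting S A) : T ≠ T₂ := fun e => by
  have h1 := hD.inf
  rw [← e, inf_idem] at h1
  have h2 := hD.left.card
  rw [h1, h.card] at h2
  omega

/-- `P = T T₂`. -/
theorem Double.mul_decomp (h : Setting S A) {g : G} (hg : g ∈ P) :
    ∃ x ∈ T, ∃ y ∈ T₂, x * y = g := by
  have h1 : T₂.relIndex T = 4 := by
    have e1 := relIndex_mul_relIndex ⊥ A T bot_le hD.left.le
    rw [relIndex_bot_left, relIndex_bot_left, h.card, hD.left.card] at e1
    rw [← inf_relIndex_left, hD.inf]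
    omega
  have h2 : T₂.relIndex T ≤ T₂.relIndex (T ⊔ T₂) :=
    relIndex_le_of_le_right le_sup_left index_ne_zero_of_finite
  have e2 := relIndex_mul_relIndex ⊥ T₂ (T ⊔ T₂) bot_le le_sup_right
  rw [relIndex_bot_left, relIndex_bot_left, hD.right.card] at e2
  have h3 : T ⊔ T₂ = P := eq_of_le_of_card_ge (sup_le hD.le_left hD.le_right) (by
    rw [hD.card, ← e2]
    omega)
  have h4 : g ∈ ((T ⊔ T₂ : Subgroup G) : Set G) := h3.ge hg
  rw [coe_mul_of_left_le_normalizer_right T T₂ (hD.le_left.trans hD.normal_right)] at h4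
  exact h4

omit hD in
/-- An involution of the block outside `A` exists, and one of a further coset. -/
theorem Block.exists_two (h : Setting S A) (hB : Block A T) :
    ∃ x ∈ T, ∃ y ∈ T, x ∉ A ∧ y ∉ A ∧ y * x ∉ A := by
  classical
  obtain ⟨x, hx, hxA⟩ : ∃ x ∈ T, x ∉ A := by
    by_contra hcon
    push Not at hcon
    have h1 := card_le_of_le (show T ≤ A from hcon)
    rw [hB.card, h.card] at h1
    omega
  obtain ⟨y, hy, hyA, hyx⟩ : ∃ y ∈ T, y ∉ A ∧ y * x ∉ A := by
    by_contra hcon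
    push Not at hcon
    have hsub : (T : Set G) ⊆ (A : Set G) ∪ (fun a => a * x) '' (A : Set G) := fun y hy => by
      by_cases hyA : y ∈ A
      · exact Or.inl hyA
      · exact Or.inr ⟨y * x, hcon y hy hyA, by
          show y * x * x = y
          rw [mul_assoc, hB.sq x hx, mul_one]⟩
    have h1 := (Set.ncard_le_ncard hsub).trans ((Set.ncard_union_le _ _).trans
      (Nat.add_le_add_left (Set.ncard_image_le) _))
    rw [← Nat.card_coe_set_eq, ← Nat.card_coe_set_eq] at h1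
    have h2 : Nat.card ↥(T : Set G) = 16 := hB.card
    have h3 : Nat.card ↥(A : Set G) = 4 := h.card
    omega
  exact ⟨x, hx, y, hy, hxA, hyA, hyx⟩

/-- The elementary subgroups of `P` of order 16. -/
theorem Double.eq_or_eq {F : Subgroup G} (hFP : F ≤ P) (hF : Nat.card ↥F = 16)
    (h2 : ∀ x ∈ F, x * x = 1) : F = T ∨ F = T₂ := by
  rcases SubgroupClass.subset_union.1
    (show (F : Set G) ⊆ (T : Set G) ∪ (T₂ : Set G) from fun g hg => hD.invol g (hFP hg) (h2 g hg))
    with e | e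
  · exact Or.inl (eq_of_le_of_card_ge e (by rw [hD.left.card, hF]))
  · exact Or.inr (eq_of_le_of_card_ge e (by rw [hD.right.card, hF]))

omit hD in
/-- The image of a block under conjugation. -/
theorem Block.map_conj (hB : Block A T) (g : G) :
    Nat.card ↥(T.map (MulAut.conj g).toMonoidHom) = 16 ∧
      ∀ x ∈ T.map (MulAut.conj g).toMonoidHom, x * x = 1 := by
  refine ⟨(card_map_of_injective (MulAut.conj g).injective).trans hB.card, ?_⟩
  rintro _ ⟨x, hx, rfl⟩
  show g * x * g⁻¹ * (g * x * g⁻¹) = 1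
  rw [show g * x * g⁻¹ * (g * x * g⁻¹) = g * (x * x) * g⁻¹ by group, hB.sq x hx, mul_one,
    mul_inv_cancel]

/-! ### `P` is a Sylow subgroup -/

/-- A further 2-element normalising `P` and exchanging the blocks. -/
structure Swap (A T T₂ P : Subgroup G) (Q : Sylow 2 G) (s : G) : Prop where
  le : P ≤ (Q : Subgroup G)
  mem : s ∈ (Q : Subgroup G)
  notMem : s ∉ P
  left : ∀ x ∈ T, s * x * s⁻¹ ∈ T₂
  right : ∀ x ∈ T₂, s * x * s⁻¹ ∈ T

/-- A 2-element normalising `P` outside it exchanges the blocks. -/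
theorem Double.swap_of_normalizes (h : Setting S A) {Q : Sylow 2 G} (hPQ : P ≤ (Q : Subgroup G))
    {g : G} (hgQ : g ∈ (Q : Subgroup G)) (hgP : g ∉ P)
    (hgN : ∀ x ∈ P, g * x * g⁻¹ ∈ P) : Swap A T T₂ P Q g := by
  haveI : Fact (Nat.Prime 2) := ⟨Nat.prime_two⟩
  have hAQ : A ≤ (Q : Subgroup G) := hD.left.le.trans (hD.le_left.trans hPQ)
  have hgA : g ∈ centralizer (A : Set G) := le_centralizer_of_isPGroup h Q.2 hAQ hgQ
  have hfix : ∀ {B : Subgroup G}, P ≤ normalizer (B : Set G) →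
      (∀ U : Subgroup G, IsPGroup 2 ↥U → U ≤ normalizer (B : Set G) →
        U ≤ centralizer (A : Set G) → Nat.card ↥U ≤ 64) →
      B.map (MulAut.conj g).toMonoidHom ≠ B := fun hN hmax e => hgP <| by
    have h1 : P ⊔ zpowers g ≤ (Q : Subgroup G) := sup_le hPQ (zpowers_le.2 hgQ)
    have h2 := hmax _ (Q.2.to_le h1) (sup_le hN (zpowers_le.2
      (mem_normalizer_iff_map_conj_eq.2 e)))
      (sup_le (le_centralizer_of_isPGroup h hD.isPGroup (hD.left.le.trans hD.le_left))
        (zpowers_le.2 hgA))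
    exact (eq_of_le_of_card_ge (le_sup_left (b := zpowers g)) (h2.trans hD.card.ge)).ge
      (mem_sup_right (mem_zpowers g))
  have hTP : ∀ {B : Subgroup G}, B ≤ P → B.map (MulAut.conj g).toMonoidHom ≤ P := fun hB => by
    rintro _ ⟨x, hx, rfl⟩; exact hgN x (hB hx)
  have h1 := hD.eq_or_eq (hTP hD.le_left) (hD.left.map_conj g).1 (hD.left.map_conj g).2
  have h2 := hD.eq_or_eq (hTP hD.le_right) (hD.right.map_conj g).1 (hD.right.map_conj g).2
  refine ⟨hPQ, hgQ, hgP, fun x hx => ?_, fun x hx => ?_⟩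
  · rw [← h1.resolve_left (hfix hD.normal_left hD.max_left)]
    exact mem_map_of_mem (MulAut.conj g).toMonoidHom hx
  · rw [← h2.resolve_right (hfix hD.normal_right hD.max_right)]
    exact mem_map_of_mem (MulAut.conj g).toMonoidHom hx

omit hD in
theorem Swap.normalizes {Q : Sylow 2 G} {s : G} (hs : Swap A T T₂ P Q s) (h : Setting S A)
    (hD : Double A T T₂ P) {x : G} (hx : x ∈ P) : s * x * s⁻¹ ∈ P := by
  obtain ⟨a, ha, b, hb, rfl⟩ := hD.mul_decomp h hx
  rw [show s * (a * b) * s⁻¹ = s * a * s⁻¹ * (s * b * s⁻¹) by group]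
  exact mul_mem (hD.le_right (hs.left a ha)) (hD.le_left (hs.right b hb))

/-- The 2-group above `P` is `P ∪ s P`. -/
theorem Double.inv_mul_mem (h : Setting S A) {Q : Sylow 2 G} {s : G} (hs : Swap A T T₂ P Q s)
    {g : G} (hgQ : g ∈ (Q : Subgroup G)) (hgP : g ∉ P) (hgN : ∀ x ∈ P, g * x * g⁻¹ ∈ P) :
    s⁻¹ * g ∈ P := by
  have hg := hD.swap_of_normalizes h hs.le hgQ hgP hgN
  have hsP : ∀ x ∈ P, s * x * s⁻¹ ∈ P := fun x hx => hs.normalizes h hD hx
  have hsN : s ∈ normalizer (P : Set G) := RankTwoKey.mem_normalizer_of_map_le (by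
    rintro _ ⟨x, hx, rfl⟩; exact hsP x hx)
  by_contra hcon
  have hgN' : g ∈ normalizer (P : Set G) := RankTwoKey.mem_normalizer_of_map_le (by
    rintro _ ⟨x, hx, rfl⟩; exact hgN x hx)
  have h1 := hD.swap_of_normalizes h hs.le (mul_mem (inv_mem hs.mem) hgQ) hcon fun x hx =>
    (mem_normalizer_iff.1 (mul_mem (inv_mem hsN) hgN') x).1 hx
  obtain ⟨x, hx, -, -, hxA, -, -⟩ := hD.left.exists_two h
  refine hxA (hD.mem_inf hx ?_)
  -- `s⁻¹ g x` would lie in both blocks
  have e1 := hg.left x hx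
  have e2 := h1.left x hx
  have e3 := hs.right _ e2
  rw [show s * (s⁻¹ * g * x * (s⁻¹ * g)⁻¹) * s⁻¹ = g * x * g⁻¹ by group] at e3
  have e4 := hD.mem_inf e3 e1
  have e5 : g * x * g⁻¹ = x := by
    have hgA : g ∈ centralizer (A : Set G) :=
      le_centralizer_of_isPGroup h Q.2 (hD.left.le.trans (hD.le_left.trans hs.le)) hgQ
    have h6 := mem_centralizer_iff.1 hgA _ e4
    have h7 : g * (g * x * g⁻¹) * g⁻¹ = g * x * g⁻¹ := by rw [← h6, mul_inv_cancel_right]
    exact (MulAut.conj g).injective (show g * (g * x * g⁻¹) * g⁻¹ = g * x * g⁻¹ from h7)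
  rw [e5] at e1
  exact e1

/-- An elementary subgroup of order 16 normalising `P` in the 2-group above lies in `P`. -/
theorem Double.elem_le (h : Setting S A) {Q : Sylow 2 G} (hPQ : P ≤ (Q : Subgroup G))
    {F : Subgroup G} (hF : Nat.card ↥F = 16) (hF2 : ∀ x ∈ F, x * x = 1)
    (hFQ : F ≤ (Q : Subgroup G)) (hFP : F ≤ normalizer (P : Set G)) : F ≤ P := by
  by_contra hnot
  obtain ⟨f, hfF, hfP⟩ := SetLike.not_le_iff_exists.1 hnot
  have hsw := hD.swap_of_normalizes h hPQ (hFQ hfF) hfP fun x hx =>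
    (mem_normalizer_iff.1 (hFP hfF) x).1 hx
  have hcomm : ∀ z ∈ F, f * z * f⁻¹ = z := fun z hz => by
    rw [Walter.Known.comm_of_exp_two hF2 f hfF z hz, mul_inv_cancel_right]
  -- what lies in `P` lies in both blocks
  have hPA : ∀ z ∈ F, z ∈ P → z ∈ A := by
    intro z hz hzP
    rcases hD.invol z hzP (hF2 z hz) with e | e
    · exact hD.mem_inf e (hcomm z hz ▸ hsw.left z e)
    · exact hD.mem_inf (hcomm z hz ▸ hsw.right z e) e
  have hsub : (F : Set G) ⊆ (A : Set G) ∪ (fun a => f * a) '' (A : Set G) := by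
    intro z hz
    by_cases hzP : z ∈ P
    · exact Or.inl (hPA z hz hzP)
    · have h1 := hD.inv_mul_mem h hsw (hFQ hz) hzP fun x hx =>
        (mem_normalizer_iff.1 (hFP hz) x).1 hx
      exact Or.inr ⟨f⁻¹ * z, hPA _ (mul_mem (inv_mem hfF) hz) h1, mul_inv_cancel_left _ _⟩
  have h1 := (Set.ncard_le_ncard hsub).trans ((Set.ncard_union_le _ _).trans
    (Nat.add_le_add_left (Set.ncard_image_le) _))
  rw [← Nat.card_coe_set_eq, ← Nat.card_coe_set_eq] at h1
  have h2 : Nat.card ↥(F : Set G) = 16 := hF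
  have h3 : Nat.card ↥(A : Set G) = 4 := h.card
  omega

/-- A swap makes its 2-group normalise `P`. -/
theorem Double.normalizes_of_swap (h : Setting S A) {Q : Sylow 2 G} {s : G}
    (hs : Swap A T T₂ P Q s) {g : G} (hgQ : g ∈ (Q : Subgroup G)) : ∀ x ∈ P, g * x * g⁻¹ ∈ P := by
  haveI : Fact (Nat.Prime 2) := ⟨Nat.prime_two⟩
  set R := normalizer (P : Set G) ⊓ (Q : Subgroup G) with hR
  suffices hRQ : R = (Q : Subgroup G) by
    exact fun x hx => (mem_normalizer_iff.1 (hRQ.ge hgQ).1 x).1 hx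
  by_contra hne
  haveI : Group.IsNilpotent ↥(Q : Subgroup G) := Q.2.isNilpotent
  have hlt : R.subgroupOf (Q : Subgroup G) < ⊤ :=
    lt_top_iff_ne_top.2 fun e => hne (le_antisymm inf_le_right (subgroupOf_eq_top.1 e))
  obtain ⟨⟨k, hkQ⟩, hkN, hkR⟩ := SetLike.exists_of_lt
    ((Group.normalizerCondition_of_isNilpotent (G := ↥(Q : Subgroup G))) _ hlt)
  have hkR' : ∀ x ∈ R, k * x * k⁻¹ ∈ R := fun x hx =>
    mem_subgroupOf.1 ((mem_normalizer_iff.1 hkN ⟨x, hx.2⟩).1 (mem_subgroupOf.2 hx))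
  have hPR : P ≤ R := le_inf le_normalizer hs.le
  -- both blocks are moved into `P`
  have hmove : ∀ {B : Subgroup G}, Block A B → B ≤ P → B.map (MulAut.conj k).toMonoidHom ≤ P := by
    intro B hB hBP
    have hBR : B.map (MulAut.conj k).toMonoidHom ≤ R := by
      rintro _ ⟨y, hy, rfl⟩
      exact hkR' y (hPR (hBP hy))
    exact hD.elem_le h hs.le (hB.map_conj k).1 (hB.map_conj k).2 (hBR.trans inf_le_right)
      (hBR.trans inf_le_left)
  refine hkR (mem_subgroupOf.2 ⟨RankTwoKey.mem_normalizer_of_map_le ?_, hkQ⟩)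
  rintro _ ⟨x, hx, rfl⟩
  obtain ⟨a, ha, b, hb, rfl⟩ := hD.mul_decomp h hx
  rw [map_mul]
  exact mul_mem (hmove hD.left hD.le_left (mem_map_of_mem _ ha))
    (hmove hD.right hD.le_right (mem_map_of_mem _ hb))

/-- The 2-group above `P` is `P ∪ s P`. -/
theorem Double.coset (h : Setting S A) {Q : Sylow 2 G} {s : G} (hs : Swap A T T₂ P Q s) {g : G}
    (hgQ : g ∈ (Q : Subgroup G)) (hgP : g ∉ P) : s⁻¹ * g ∈ P :=
  hD.inv_mul_mem h hs hgQ hgP (hD.normalizes_of_swap h hs hgQ)

/-- An element outside `P` has a square in `A` for some choice. -/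
theorem Double.exists_sq_mem (h : Setting S A) {Q : Sylow 2 G} {s : G}
    (hs : Swap A T T₂ P Q s) : ∃ t, Swap A T T₂ P Q t ∧ t * t ∈ A := by
  haveI : Fact (Nat.Prime 2) := ⟨Nat.prime_two⟩
  have hsP : s * s ∈ P := by
    by_contra e
    exact hs.notMem (by simpa using hD.coset h hs (mul_mem hs.mem hs.mem) e)
  obtain ⟨x, hx, z, hz, hxz⟩ := hD.mul_decomp h hsP
  set y := s * x * s⁻¹ with hy
  set x₁ := s * z * s⁻¹ with hx₁
  have hyT := hs.left x hx
  have hxT := hs.right z hz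
  -- `s` fixes `x z`
  have e1 : y * x₁ = x * z := by
    rw [hxz, hy, hx₁, show s * x * s⁻¹ * (s * z * s⁻¹) = s * (x * z) * s⁻¹ by group, hxz]
    group
  have hβ : z * y⁻¹ ∈ A := by
    refine hD.mem_inf ?_ (mul_mem hz (inv_mem hyT))
    rw [show z * y⁻¹ = x⁻¹ * (y * x₁ * y⁻¹) by rw [e1]; group]
    exact mul_mem (inv_mem hx)
      ((mem_normalizer_iff.1 (hD.normal_left (hD.le_right hyT)) x₁).1 hxT)
  have htQ : s * x ∈ (Q : Subgroup G) := mul_mem hs.mem (hs.le (hD.le_left hx))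
  have htP : s * x ∉ P := fun e => hs.notMem (by
    simpa using mul_mem e (inv_mem (hD.le_left hx)))
  refine ⟨s * x, hD.swap_of_normalizes h hs.le htQ htP (hD.normalizes_of_swap h hs htQ), ?_⟩
  have hc := hD.commA x hx z hz
  have hxi : x⁻¹ = x := inv_eq_of_mul_eq_one_right (hD.left.sq x hx)
  have hyy : y * y = 1 := hD.right.sq y hyT
  rw [show s * x * (s * x) = y * (s * s) * x by rw [hy]; group, ← hxz,
    show y * (x * z) * x = y * (x * z * x⁻¹ * z⁻¹ * ((z * y⁻¹) * y)) by rw [hxi]; group,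
    ← mul_assoc (x * z * x⁻¹ * z⁻¹), ← mul_assoc,
    ← h.mem_centralizer_of_commute (hD.right.cent hyT) (mul_mem hc hβ) |>.symm, mul_assoc, hyy,
    mul_one]
  exact mul_mem hc hβ

/-- All these squares are equal. -/
theorem Double.sq_eq (h : Setting S A) {Q : Sylow 2 G} {s : G}
    (hs : Swap A T T₂ P Q s) (hsA : s * s ∈ A) {g : G} (hgQ : g ∈ (Q : Subgroup G)) (hgP : g ∉ P)
    (hgA : g * g ∈ A) : g * g = s * s := by
  obtain ⟨x, hx, y, hy, hxy⟩ := hD.mul_decomp h (hD.coset h hs hgQ hgP)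
  set a₀ := s * s with ha₀
  set x₁ := s * y * s⁻¹ with hx₁
  set y₁ := s * x * s⁻¹ with hy₁
  have hxT := hs.right y hy
  have hyT := hs.left x hx
  have hg : g = s * (x * y) := by rw [hxy, mul_inv_cancel_left]
  have hP : ∀ {p : G}, p ∈ P → a₀ * p = p * a₀ := fun hp => (h.mem_centralizer_of_commute
    (le_centralizer_of_isPGroup h hD.isPGroup (hD.left.le.trans hD.le_left) hp) hsA).symm
  have e1 : g * g = y₁ * (x₁ * x) * y * a₀ := by
    calc g * g = y₁ * x₁ * (a₀ * (x * y)) := by rw [hg, hy₁, hx₁, ha₀]; group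
      _ = _ := by rw [hP (mul_mem (hD.le_left hx) (hD.le_right hy))]; group
  set β := x₁ * x with hβ
  have hβA : β ∈ A := by
    refine hD.mem_inf (mul_mem hxT hx) ?_
    rw [show β = y₁⁻¹ * (g * g * a₀⁻¹) * y⁻¹ by rw [e1]; group]
    exact mul_mem (mul_mem (inv_mem hyT) (hD.right.le (mul_mem hgA (inv_mem hsA)))) (inv_mem hy)
  have e2 : g * g * a₀⁻¹ = β * (y₁ * y) := by
    rw [e1, h.mem_centralizer_of_commute (hD.right.cent hyT) hβA, mul_inv_cancel_right, mul_assoc]
  set γ := y₁ * y with hγ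
  have hγA : γ ∈ A := by
    rw [show γ = β⁻¹ * (g * g * a₀⁻¹) by rw [e2, inv_mul_cancel_left]]
    exact mul_mem (inv_mem hβA) (mul_mem hgA (inv_mem hsA))
  -- the two defects agree
  have hsA' : s ∈ centralizer (A : Set G) :=
    le_centralizer_of_isPGroup h Q.2 (hD.left.le.trans (hD.le_left.trans hs.le)) hs.mem
  have e3 : x₁ = x * γ := by
    have h1 : y = y₁ * γ := by rw [hγ, ← mul_assoc, hD.right.sq y₁ hyT, one_mul]
    calc x₁ = s * y₁ * s⁻¹ * (s * γ * s⁻¹) := by rw [hx₁, h1]; group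
      _ = s * y₁ * s⁻¹ * γ := by
        rw [mul_inv_eq_iff_eq_mul.2 (h.mem_centralizer_of_commute hsA' hγA)]
      _ = a₀ * x * a₀⁻¹ * γ := by rw [hy₁, ha₀]; group
      _ = x * γ := by rw [hP (hD.le_left hx), mul_inv_cancel_right]
  have e4 : β = γ := by
    rw [hβ, e3, mul_assoc, ← h.mem_centralizer_of_commute (hD.left.cent hx) hγA, ← mul_assoc,
      hD.left.sq x hx, one_mul]
  have e5 := e2
  rw [e4, h.sq hγA, mul_inv_eq_one] at e5
  exact e5

omit hD in
/-- An element of `N(A)` moving `A` normalises a 2-group above it. -/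
theorem exists_normalizing_sylow (h : Setting S A) {Q : Sylow 2 G} (hAQ : A ≤ (Q : Subgroup G)) :
    ∃ n ∈ normalizer (A : Set G), n ∉ centralizer (A : Set G) ∧
      ∀ x ∈ (Q : Subgroup G), n * x * n⁻¹ ∈ (Q : Subgroup G) := by
  haveI : Fact (Nat.Prime 2) := ⟨Nat.prime_two⟩
  obtain ⟨a, ha, ha1, -⟩ := h.exists_ne (a := (1 : G))
  obtain ⟨b, hb, hb1, hba⟩ := h.exists_ne (a := a)
  obtain ⟨m, hm, hmab⟩ := h.trans ha ha1 hb hb1
  have hQC := le_centralizer_of_isPGroup h Q.2 hAQ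
  obtain ⟨c, hc, hcQ⟩ := exists_conj_into Q.2 hQC (fun U hU hle _ => Q.3 hU hle)
    (Q.2.map (MulAut.conj m).toMonoidHom) (by
      rintro _ ⟨x, hx, rfl⟩
      exact normalizer_le_normalizer_centralizer h hm (hQC hx))
  refine ⟨c * m, mul_mem (centralizer_le_normalizer _ hc) hm, fun e => hba ?_, fun x hx => ?_⟩
  · have hmC : m ∈ centralizer (A : Set G) := by
      simpa using mul_mem (inv_mem hc) e
    rw [← hmab, mul_inv_eq_iff_eq_mul.2 (h.mem_centralizer_of_commute hmC ha)]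
  · rw [show c * m * x * (c * m)⁻¹ = c * (m * x * m⁻¹) * c⁻¹ by group]
    exact hcQ _ (mem_map_of_mem (MulAut.conj m).toMonoidHom hx)

/-- A swap is chosen an involution. -/
theorem Double.exists_involution (h : Setting S A) {Q : Sylow 2 G} {s₀ : G}
    (hs₀ : Swap A T T₂ P Q s₀) : ∃ s, Swap A T T₂ P Q s ∧ s * s = 1 := by
  obtain ⟨s, hs, hsA⟩ := hD.exists_sq_mem h hs₀
  refine ⟨s, hs, ?_⟩
  obtain ⟨n, hn, hnC, hnQ⟩ :=
    exists_normalizing_sylow h (hD.left.le.trans (hD.le_left.trans hs.le))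
  have hblock : ∀ {B : Subgroup G}, Block A B → B ≤ P → B.map (MulAut.conj n).toMonoidHom ≤ P := by
    intro B hB hBP
    have hBQ : B.map (MulAut.conj n).toMonoidHom ≤ (Q : Subgroup G) := by
      rintro _ ⟨y, hy, rfl⟩
      exact hnQ y (hs.le (hBP hy))
    exact hD.elem_le h hs.le (hB.map_conj n).1 (hB.map_conj n).2 hBQ fun z hz =>
      RankTwoKey.mem_normalizer_of_map_le (by
        rintro _ ⟨x, hx, rfl⟩
        exact hD.normalizes_of_swap h hs (hBQ hz) x hx)
  have hnP : n ∈ normalizer (P : Set G) := RankTwoKey.mem_normalizer_of_map_le (by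
    rintro _ ⟨x, hx, rfl⟩
    obtain ⟨a, ha, b, hb, rfl⟩ := hD.mul_decomp h hx
    rw [map_mul]
    exact mul_mem (hblock hD.left hD.le_left (mem_map_of_mem _ ha))
      (hblock hD.right hD.le_right (mem_map_of_mem _ hb)))
  have e : n * s * n⁻¹ * (n * s * n⁻¹) = n * (s * s) * n⁻¹ := by group
  have h1 := hD.sq_eq h hs hsA (hnQ s hs.mem)
    (fun e' => hs.notMem ((mem_normalizer_iff.1 hnP s).2 e')) (e ▸ h.conj_mem hn hsA)
  rw [e, mul_inv_eq_iff_eq_mul] at h1
  exact eq_one_of_fixed h hn hnC hsA h1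

/-- Some involution outside `P` is conjugate to no element of `P`. -/
theorem Double.not_conj (h : Setting S A) {Q : Sylow 2 G} {s : G}
    (hs : Swap A T T₂ P Q s) (hs2 : s * s = 1) (g : G) : g * s * g⁻¹ ∉ P := by
  haveI : Fact (Nat.Prime 2) := ⟨Nat.prime_two⟩
  intro hgs
  have hAQ : A ≤ (Q : Subgroup G) := hD.left.le.trans (hD.le_left.trans hs.le)
  have hsC : s ∈ centralizer (A : Set G) := le_centralizer_of_isPGroup h Q.2 hAQ hs.mem
  have hPC : P ≤ centralizer (A : Set G) :=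
    le_centralizer_of_isPGroup h hD.isPGroup (hD.left.le.trans hD.le_left)
  obtain ⟨n, hn, hny⟩ := fusion_of h (isPGroup_zpowers_of_sq hs2) hsC (hPC hgs)
  set y := g * s * g⁻¹ with hy
  have hy2 : y * y = 1 := by
    rw [hy, show g * s * g⁻¹ * (g * s * g⁻¹) = g * (s * s) * g⁻¹ by group, hs2]; group
  have hyA : y ∉ A := fun e => hs.notMem (hD.le_left (hD.left.le (by
    rw [← hny] at e
    simpa [mul_assoc] using h.conj_mem (inv_mem hn) e)))
  -- it may be assumed in the first block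
  suffices hside : ∀ {B B₂ : Subgroup G}, Double A B B₂ P → y ∈ B → False by
    rcases hD.invol y hgs hy2 with e | e
    · exact hside hD e
    · exact hside hD.swap e
  intro B B₂ hB hyB
  have hmax : ∀ U : Subgroup G, IsPGroup 2 ↥U → P ≤ U → U ≤ shifts A y → U = P := by
    intro U hU hPU hUM
    refine (eq_of_le_of_card_ge hPU ?_).symm
    let ψ : ↥U →* ↥A :=
      { toFun := fun k => ⟨_, (mem_shifts.1 (hUM k.2)).2⟩
        map_one' := Subtype.ext (by simp)
        map_mul' := fun k l => Subtype.ext (by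
          show (k : G) * l * y * ((k : G) * l)⁻¹ * y⁻¹ =
            k * y * (k : G)⁻¹ * y⁻¹ * (l * y * (l : G)⁻¹ * y⁻¹)
          have hl := (mem_shifts.1 (hUM l.2)).2
          have hk := (mem_shifts.1 (hUM k.2))
          have e1 : (k : G) * l * y * ((k : G) * l)⁻¹ * y⁻¹ =
              k * (l * y * (l : G)⁻¹ * y⁻¹) * (k : G)⁻¹ * (k * y * (k : G)⁻¹ * y⁻¹) := by group
          rw [e1, mul_inv_eq_iff_eq_mul.2 (h.mem_centralizer_of_commute hk.1 hl), h.comm hl hk.2]) }
    have h1 := Subgroup.card_mul_index ψ.ker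
    rw [Subgroup.index_ker] at h1
    have h2 : Nat.card ↥ψ.range ≤ 4 :=
      h.card ▸ Nat.card_le_card_of_injective _ ψ.range.subtype_injective
    have h3 : Nat.card ↥ψ.ker ≤ 16 := by
      obtain ⟨c, -, hcT⟩ := hB.left.exists_conj_mem hyB hyA
        ((hU.to_subgroup ψ.ker).map U.subtype) (by
          rintro _ ⟨k, hk, rfl⟩
          exact mul_inv_eq_iff_eq_mul.1
            (mul_inv_eq_one.1 (congrArg Subtype.val (MonoidHom.mem_ker.1 hk))))
      rw [← hB.left.card]
      refine Nat.card_le_card_of_injective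
        (fun k => ⟨_, hcT _ (mem_map_of_mem U.subtype k.2)⟩) fun k l e => ?_
      have e' : c * U.subtype k * c⁻¹ = c * U.subtype l * c⁻¹ := congrArg Subtype.val e
      exact Subtype.ext (U.subtype_injective ((MulAut.conj c).injective e'))
    rw [hD.card, ← h1]
    exact Nat.mul_le_mul h3 h2
  have hPM : P ≤ shifts A y := fun k hk => mem_shifts.2 ⟨hPC hk,
    hB.left.translates h (hD.isPGroup.to_le (zpowers_le.2 hk)) (hB.normal_left hk) (hPC hk) hyB⟩
  obtain ⟨m, hm, hmF⟩ := exists_conj_into hD.isPGroup hPM hmax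
    ((Q.2.to_le (inf_le_left (b := shifts A s))).map (MulAut.conj n).toMonoidHom) (by
      rintro _ ⟨k, ⟨hkQ, hk⟩, rfl⟩
      obtain ⟨hkC, hkA⟩ := mem_shifts.1 hk
      refine mem_shifts.2 ⟨normalizer_le_normalizer_centralizer h hn hkC, ?_⟩
      show n * k * n⁻¹ * y * (n * k * n⁻¹)⁻¹ * y⁻¹ ∈ A
      rw [← hny, show n * k * n⁻¹ * (n * s * n⁻¹) * (n * k * n⁻¹)⁻¹ * (n * s * n⁻¹)⁻¹ =
        n * (k * s * k⁻¹ * s⁻¹) * n⁻¹ by group]
      exact h.conj_mem hn hkA)
  -- three involutions `s x (s x s⁻¹)` of distinct cosets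
  have hss : s⁻¹ = s := inv_eq_of_mul_eq_one_right hs2
  have helt : ∀ x ∈ T, s * (x * (s * x * s⁻¹)) * (s * (x * (s * x * s⁻¹))) = 1 := by
    intro x hx
    rw [show s * (x * (s * x * s⁻¹)) * (s * (x * (s * x * s⁻¹))) =
      (s * x * s⁻¹) * (s * s * x * (s * s)⁻¹) * ((s * s) * x) * (s * x * s⁻¹) by group, hs2]
    rw [inv_one, one_mul, mul_one, mul_assoc _ x x, hD.left.sq x hx, mul_one]
    exact hD.right.sq _ (hs.left x hx)
  have himg : ∀ x ∈ T, m * (n * (s * (x * (s * x * s⁻¹))) * n⁻¹) * m⁻¹ ∈ T ∨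
      m * (n * (s * (x * (s * x * s⁻¹))) * n⁻¹) * m⁻¹ ∈ T₂ := by
    intro x hx
    have hxP := hD.le_left hx
    have hzP := hD.le_right (hs.left x hx)
    refine hD.invol _ (hmF _ (mem_map_of_mem (MulAut.conj n).toMonoidHom
      ⟨mul_mem hs.mem (hs.le (mul_mem hxP hzP)), mem_shifts.2 ⟨mul_mem hsC (hPC (mul_mem hxP hzP)),
        ?_⟩⟩)) ?_
    · set z := s * x * s⁻¹ with hz
      have e1 : s * (x * z) * s * (s * (x * z))⁻¹ * s⁻¹ =
          (s * x * s⁻¹) * (s * z * s⁻¹) * (s * s) * (z⁻¹ * x⁻¹) * (s * s)⁻¹ := by group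
      have e2 : s * z * s⁻¹ = x := by
        rw [hz, show s * (s * x * s⁻¹) * s⁻¹ = s * s * x * (s * s)⁻¹ by group, hs2]; group
      rw [e1, e2, hs2, inv_one, mul_one, mul_one, ← hz, ← mul_assoc]
      exact hD.swap.commA z (hs.left x hx) x hx
    · calc _ = m * (n * (s * (x * (s * x * s⁻¹)) * (s * (x * (s * x * s⁻¹)))) * n⁻¹) * m⁻¹ := by
            group
        _ = 1 := by rw [helt x hx]; group
  have hdist : ∀ x ∈ T, ∀ x' ∈ T, x * x' ∉ A → ∀ {B : Subgroup G}, Block A B →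
      m * (n * (s * (x * (s * x * s⁻¹))) * n⁻¹) * m⁻¹ ∈ B →
      m * (n * (s * (x' * (s * x' * s⁻¹))) * n⁻¹) * m⁻¹ ∈ B → False := by
    intro x hx x' hx' hne B hB e e'
    set f := s * (x * (s * x * s⁻¹)) with hf
    set f' := s * (x' * (s * x' * s⁻¹)) with hf'
    set z := s * x * s⁻¹ with hz
    set z' := s * x' * s⁻¹ with hz'
    have hzT := hs.left x hx
    have hzT' := hs.left x' hx'
    have hcomm : f * f' = f' * f := by
      have h1 := hB.comm _ e _ e'
      refine (MulAut.conj (m * n)).injective ?_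
      show m * n * (f * f') * (m * n)⁻¹ = m * n * (f' * f) * (m * n)⁻¹
      rw [show m * n * (f * f') * (m * n)⁻¹ =
        m * (n * f * n⁻¹) * m⁻¹ * (m * (n * f' * n⁻¹) * m⁻¹) by group, h1]
      group
    have hp2 : f * f' * (f * f') = 1 := by
      rw [mul_assoc, ← mul_assoc f' f f', ← hcomm, mul_assoc f, helt x' hx', mul_one]
      exact helt x hx
    have hp : f * f' = z * (x * x') * z' := by
      rw [hf, hf', show s * (x * z) * (s * (x' * z')) =
        (s * x * s⁻¹) * (s * z * s⁻¹) * (s * s) * x' * z' by group, hs2, mul_one,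
        show s * z * s⁻¹ = s * s * x * (s * s)⁻¹ by rw [hz]; group, hs2, ← hz]
      group
    have hpP : z * (x * x') * z' ∈ P :=
      mul_mem (mul_mem (hD.le_right hzT) (hD.le_left (mul_mem hx hx'))) (hD.le_right hzT')
    rw [hp] at hp2
    rcases hD.invol _ hpP hp2 with e2 | e2
    · refine hne (hD.mem_inf (mul_mem hx hx') ?_)
      have h1 : z * z' ∈ T := by
        have := mul_mem (inv_mem ((mem_normalizer_iff.1 (hD.normal_left (hD.le_right hzT))
          (x * x')).1 (mul_mem hx hx'))) e2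
        rwa [show (z * (x * x') * z⁻¹)⁻¹ * (z * (x * x') * z') = z * z' by group] at this
      have h2 : s * (x * x') * s⁻¹ ∈ A := by
        refine hD.mem_inf ?_ (hs.left _ (mul_mem hx hx'))
        rwa [show s * (x * x') * s⁻¹ = z * z' by rw [hz, hz']; group]
      rw [mul_inv_eq_iff_eq_mul.2 (show s * (x * x') = x * x' * s from by
        have h3 := mem_centralizer_iff.1 hsC _ h2
        have h4 : s * (s * (x * x') * s⁻¹) * s⁻¹ = s * (x * x') * s⁻¹ := by
          rw [← h3, mul_inv_cancel_right]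
        exact mul_inv_eq_iff_eq_mul.1
          ((MulAut.conj s).injective (show s * (s * (x * x') * s⁻¹) * s⁻¹ = s * (x * x') * s⁻¹
            from h4)))] at h2
      exact hD.right.le h2
    · refine hne (hD.mem_inf (mul_mem hx hx') ?_)
      have := mul_mem (mul_mem (inv_mem hzT) e2) (inv_mem hzT')
      rwa [show z⁻¹ * (z * (x * x') * z') * z'⁻¹ = x * x' by group] at this
  obtain ⟨x, hx, x', hx', hxA, hx'A, hxx⟩ := hD.left.exists_two h
  have h1x : 1 * x ∉ A := by rwa [one_mul]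
  have h1x' : 1 * x' ∉ A := by rwa [one_mul]
  rcases himg 1 (one_mem T) with e | e <;> rcases himg x hx with e' | e' <;>
    rcases himg x' hx' with e'' | e''
  all_goals first
    | exact hdist 1 (one_mem T) x hx h1x hD.left e e'
    | exact hdist 1 (one_mem T) x hx h1x hD.right e e'
    | exact hdist 1 (one_mem T) x' hx' h1x' hD.left e e''
    | exact hdist 1 (one_mem T) x' hx' h1x' hD.right e e''
    | exact hdist x' hx' x hx hxx hD.left e'' e'
    | exact hdist x' hx' x hx hxx hD.right e'' e'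

/-- `P` is a Sylow 2-subgroup of `G`. -/
theorem Double.exists_sylow_eq (h : Setting S A) : ∃ Q : Sylow 2 G, (Q : Subgroup G) = P := by
  haveI : Fact (Nat.Prime 2) := ⟨Nat.prime_two⟩
  haveI := h.hyp.simple
  obtain ⟨Q, hPQ⟩ := hD.isPGroup.exists_le_sylow
  refine ⟨Q, ?_⟩
  by_contra hne
  haveI : Group.IsNilpotent ↥(Q : Subgroup G) := Q.2.isNilpotent
  have hlt : P.subgroupOf (Q : Subgroup G) < ⊤ :=
    lt_top_iff_ne_top.2 fun e => hne (le_antisymm (subgroupOf_eq_top.1 e) hPQ)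
  obtain ⟨⟨s₀, hs₀Q⟩, hs₀N, hs₀P⟩ := SetLike.exists_of_lt
    ((Group.normalizerCondition_of_isNilpotent (G := ↥(Q : Subgroup G))) _ hlt)
  have hs₀ := hD.swap_of_normalizes h hPQ hs₀Q (fun e => hs₀P (mem_subgroupOf.2 e)) fun x hx =>
    mem_subgroupOf.1 ((mem_normalizer_iff.1 hs₀N ⟨x, hPQ hx⟩).1 (mem_subgroupOf.2 hx))
  obtain ⟨s, hs, hs2⟩ := hD.exists_involution h hs₀
  have hrel : P.relIndex (Q : Subgroup G) = 2 := by
    refine relIndex_eq_two_iff.2 ⟨s, hs.mem, fun b hb => ?_⟩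
    by_cases hbP : b ∈ P
    · exact Or.inr ⟨hbP, fun e => hs.notMem ((mul_mem_cancel_left hbP).1 e)⟩
    · refine Or.inl ⟨?_, hbP⟩
      have h1 := hD.coset h hs (inv_mem hb) fun e => hbP (by simpa using inv_mem e)
      simpa using inv_mem h1
  have hs1 : orderOf s = 2 :=
    orderOf_eq_prime (by rw [pow_two]; exact hs2) fun e => hs.notMem (e ▸ one_mem P)
  rcases Cfsg.Agent.S0111.result Q P hPQ hrel s hs1 hs.mem hs.notMem with
    ⟨N, hN, hNi, hsN⟩ | ⟨g, hg⟩
  · rcases IsSimpleGroup.eq_bot_or_eq_top_of_normal N hN with e | e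
    · subst e
      rw [Subgroup.index_bot] at hNi
      have h4 := Subgroup.card_le_of_le (le_top (a := A))
      rw [h.card, Subgroup.card_top] at h4
      omega
    · exact hsN (e ▸ mem_top s)
  · exact hD.not_conj h hs hs2 g hg

/-! ### The classes -/

/-- A 2-subgroup containing `P` is `P`. -/
theorem Double.maximal (h : Setting S A) {U : Subgroup G} (hU : IsPGroup 2 ↥U) (hPU : P ≤ U) :
    U = P := by
  obtain ⟨Q, hQ⟩ := hD.exists_sylow_eq h
  exact (Q.3 hU (hQ ▸ hPU)).trans hQ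

/-- The blocks are not conjugate. -/
theorem Double.map_ne (h : Setting S A) (g : G) : T.map (MulAut.conj g).toMonoidHom ≠ T₂ := by
  haveI : Fact (Nat.Prime 2) := ⟨Nat.prime_two⟩
  intro e
  obtain ⟨c, hc, hcP⟩ := exists_conj_into hD.isPGroup hD.normal_right
    (fun U hU hle _ => hD.maximal h hU hle) (hD.isPGroup.map (MulAut.conj g).toMonoidHom) (by
      rintro _ ⟨x, hx, rfl⟩
      rw [← e]
      refine mem_normalizer_iff.2 fun y => ?_
      constructor
      · rintro ⟨t, ht, rfl⟩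
        refine ⟨x * t * x⁻¹, (mem_normalizer_iff.1 (hD.normal_left hx) t).1 ht, ?_⟩
        simp [mul_assoc]
      · rintro ⟨t, ht, hte⟩
        refine ⟨x⁻¹ * t * x, ?_, ?_⟩
        · simpa using (mem_normalizer_iff.1 (inv_mem (hD.normal_left hx)) t).1 ht
        · have hte' : g * t * g⁻¹ = g * x * g⁻¹ * y * (g * x * g⁻¹)⁻¹ := hte
          show g * (x⁻¹ * t * x) * g⁻¹ = y
          calc g * (x⁻¹ * t * x) * g⁻¹
              = (g * x * g⁻¹)⁻¹ * (g * t * g⁻¹) * (g * x * g⁻¹) := by group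
            _ = y := by rw [hte']; group)
  set q := c * g with hq
  have hqP : q ∈ normalizer (P : Set G) := RankTwoKey.mem_normalizer_of_map_le (by
    rintro _ ⟨x, hx, rfl⟩
    show q * x * q⁻¹ ∈ P
    rw [show q * x * q⁻¹ = c * (g * x * g⁻¹) * c⁻¹ by rw [hq]; group]
    exact hcP _ (mem_map_of_mem (MulAut.conj g).toMonoidHom hx))
  have hmap : ∀ a b : G, ∀ B : Subgroup G, B.map (MulAut.conj (a * b)).toMonoidHom =
      (B.map (MulAut.conj b).toMonoidHom).map (MulAut.conj a).toMonoidHom := fun a b B => by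
    rw [Subgroup.map_map]
    congr 1
    ext x
    show a * b * x * (a * b)⁻¹ = a * (b * x * b⁻¹) * a⁻¹
    group
  have hq1 : T.map (MulAut.conj q).toMonoidHom = T₂ := by
    rw [hq, hmap, e]
    exact mem_normalizer_iff_map_conj_eq.1 hc
  have hq2 : T₂.map (MulAut.conj q).toMonoidHom = T := by
    refine (hD.eq_or_eq ?_ (hD.right.map_conj q).1 (hD.right.map_conj q).2).resolve_right
      fun e2 => hD.ne h ?_
    · rintro _ ⟨x, hx, rfl⟩
      exact (mem_normalizer_iff.1 hqP x).1 (hD.le_right hx)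
    · exact Subgroup.map_injective (f := (MulAut.conj q).toMonoidHom) (MulAut.conj q).injective
        (hq1.trans e2.symm)
  have hsq : T.map (MulAut.conj (q * q)).toMonoidHom = T := by rw [hmap, hq1, hq2]
  -- the 2-part of `q` would exchange them inside `P`
  obtain ⟨i, m, hm, hord⟩ := Nat.exists_eq_two_pow_mul_odd (orderOf_pos q).ne'
  obtain ⟨k, rfl⟩ := hm
  have hrP : q ^ (2 * k + 1) ∈ P := by
    have hp : IsPGroup 2 ↥(zpowers (q ^ (2 * k + 1))) := IsPGroup.of_card (n := i) (by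
      rw [Nat.card_zpowers, orderOf_pow_of_dvd (by omega) ⟨2 ^ i, by rw [hord, mul_comm]⟩, hord,
        Nat.mul_div_cancel _ (by omega)])
    exact (hD.maximal h (hD.isPGroup.to_sup_of_normal_left' hp
      (zpowers_le.2 (pow_mem hqP _))) le_sup_left).le (mem_sup_right (mem_zpowers _))
  have hkT : (q * q) ^ k ∈ normalizer (T : Set G) :=
    pow_mem (mem_normalizer_iff_map_conj_eq.2 hsq) k
  have hqT : q ∈ normalizer (T : Set G) := by
    have h1 := mul_mem (inv_mem hkT) (hD.normal_left hrP)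
    rwa [pow_succ, pow_mul, pow_two, inv_mul_cancel_left] at h1
  exact hD.ne h ((mem_normalizer_iff_map_conj_eq.1 hqT).symm.trans hq1)

/-- Involutions of different blocks are not conjugate. -/
theorem Double.not_isConj (h : Setting S A) {x y : G} (hx : x ∈ T) (hy : y ∈ T₂) (hyA : y ∉ A) :
    ¬ IsConj x y := by
  intro hc
  obtain ⟨g, hg⟩ := isConj_iff.1 hc
  obtain ⟨c, hcy, hcT⟩ := hD.right.exists_conj_mem hy hyA
    (hD.left.isPGroup.map (MulAut.conj g).toMonoidHom) (by
      rintro _ ⟨t, ht, rfl⟩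
      show g * t * g⁻¹ * y = y * (g * t * g⁻¹)
      rw [← hg, show g * t * g⁻¹ * (g * x * g⁻¹) = g * (t * x) * g⁻¹ by group,
        hD.left.comm t ht x hx]
      group)
  refine hD.map_ne h (c * g) (eq_of_le_of_card_ge ?_ (by
    rw [(hD.left.map_conj (c * g)).1, hD.right.card]))
  rintro _ ⟨t, ht, rfl⟩
  show c * g * t * (c * g)⁻¹ ∈ T₂
  rw [show c * g * t * (c * g)⁻¹ = c * (g * t * g⁻¹) * c⁻¹ by group]
  exact hcT _ (mem_map_of_mem (MulAut.conj g).toMonoidHom ht)

/-- An element outside `A` centralising it is not conjugate into `A`. -/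
theorem Double.not_isD (h : Setting S A) {u : G} (hu : u ∈ T) (huA : u ∉ A) : ¬ IsD A u :=
  fun e => huA (h.mem_of_isD_centralizer e (hD.left.cent hu))

/-- The involutions of a block outside `A` are conjugate. -/
theorem Double.isConj_left (h : Setting S A) {u w : G} (hu : u ∈ T) (huA : u ∉ A) (hw : w ∈ T)
    (hwA : w ∉ A) : IsConj u w := by
  haveI : Fact (Nat.Prime 2) := ⟨Nat.prime_two⟩
  haveI := h.hyp.simple
  by_contra hno
  obtain ⟨Q, hQ⟩ := hD.exists_sylow_eq h
  have hwi : w⁻¹ = w := inv_eq_of_mul_eq_one_right (hD.left.sq w hw)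
  -- nothing in the coset of `w` is conjugate to `u`
  have hno' : ∀ z ∈ T, z * w ∈ A → ¬ IsConj u z := by
    intro z hz hzw hc
    obtain ⟨g, hg, hge⟩ := hD.translate_left w hw hwA (z * w) hzw
    refine hno (hc.trans (isConj_iff.2 ⟨g⁻¹, ?_⟩))
    rw [show z = w * (z * w) by
      rw [← mul_assoc, hD.left.comm w hw z hz, mul_assoc, hD.left.sq w hw, mul_one], ← hge]
    group
  have huw : u * w ∉ A := fun e => hno' u hu e (IsConj.refl u)
  let W : Subgroup G := (A ⊔ zpowers w) ⊔ T₂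
  have hW₀T : A ⊔ zpowers w ≤ T := sup_le hD.left.le (zpowers_le.2 hw)
  have hW₀ : ∀ z : G, z ∈ A ⊔ zpowers w ↔ z ∈ T ∧ (z ∈ A ∨ z * w ∈ A) := by
    intro z
    refine ⟨fun hz => ⟨hW₀T hz, ?_⟩, fun hz => ?_⟩
    · have h1 : z ∈ ((A ⊔ zpowers w : Subgroup G) : Set G) := hz
      rw [coe_mul_of_right_le_normalizer_left A (zpowers w) (zpowers_le.2 (centralizer_le_normalizer _
        (hD.left.cent hw)))] at h1
      obtain ⟨a, ha, b, ⟨i, rfl⟩, rfl⟩ := h1
      obtain ⟨j, rfl | rfl⟩ := Int.even_or_odd' i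
      · left
        show a * w ^ (2 * j) ∈ A
        rw [zpow_mul, zpow_two, hD.left.sq w hw, one_zpow, mul_one]
        exact ha
      · right
        show a * w ^ (2 * j + 1) * w ∈ A
        rw [zpow_add_one, zpow_mul, zpow_two, hD.left.sq w hw, one_zpow, one_mul, mul_assoc,
          hD.left.sq w hw, mul_one]
        exact ha
    · rcases hz.2 with e | e
      · exact mem_sup_left e
      · rw [show z = z * w * w by rw [mul_assoc, hD.left.sq w hw, mul_one]]
        exact mul_mem (mem_sup_left e) (mem_sup_right (mem_zpowers w))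
  have hWmem : ∀ z ∈ W, ∃ a ∈ A ⊔ zpowers w, ∃ b ∈ T₂, a * b = z := by
    intro z hz
    have h1 : z ∈ ((A ⊔ zpowers w ⊔ T₂ : Subgroup G) : Set G) := hz
    rw [coe_mul_of_left_le_normalizer_right _ T₂
      (hW₀T.trans (hD.le_left.trans hD.normal_right))] at h1
    exact h1
  have hWT : ∀ z ∈ T, z ∈ W → z ∈ A ⊔ zpowers w := by
    intro z hz hzW
    obtain ⟨a, ha, b, hb, rfl⟩ := hWmem z hzW
    have h1 : b ∈ A := hD.mem_inf (by simpa using mul_mem (inv_mem (hW₀T ha)) hz) hb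
    exact mul_mem ha (mem_sup_left h1)
  have huW : u ∉ W := fun e => by
    rcases ((hW₀ u).1 (hWT u hu e)).2 with e' | e'
    · exact huA e'
    · exact huw e'
  have hWP : W ≤ P := sup_le (hW₀T.trans hD.le_left) hD.le_right
  have hrel : W.relIndex (Q : Subgroup G) = 2 := by
    rw [hQ]
    refine relIndex_eq_two_iff.2 ⟨u, hD.le_left hu, fun g hg => ?_⟩
    by_cases hgW : g ∈ W
    · exact Or.inr ⟨hgW, fun e => huW ((mul_mem_cancel_left hgW).1 e)⟩
    · refine Or.inl ⟨?_, hgW⟩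
      obtain ⟨x, hx, y, hy, rfl⟩ := hD.mul_decomp h hg
      have hyW : y ∈ W := mem_sup_right hy
      have hxA : x ∉ A := fun e => hgW (mul_mem (mem_sup_left (mem_sup_left e)) hyW)
      have hxw : x * w ∉ A := fun e =>
        hgW (mul_mem (mem_sup_left ((hW₀ x).2 ⟨hx, Or.inr e⟩)) hyW)
      have hxu : x * u ∈ W := by
        refine mem_sup_left ((hW₀ _).2 ⟨mul_mem hx hu, ?_⟩)
        rcases coset_cases hD.left.card hD.left.sq hD.left.le h.card hw hu hx hwA huA huw with
          e | e | e | e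
        · exact absurd e hxA
        · exact absurd e hxw
        · exact Or.inl e
        · exact Or.inr (by rwa [mul_assoc])
      rw [show x * y * u = x * u * (u⁻¹ * y * u) by group]
      refine mul_mem hxu (mem_sup_right ?_)
      simpa using (mem_normalizer_iff.1 (hD.normal_right (inv_mem (hD.le_left hu))) y).1 hy
  have hu2 : orderOf u = 2 :=
    orderOf_eq_prime (by rw [pow_two]; exact hD.left.sq u hu) fun e => huA (e ▸ one_mem A)
  rcases Cfsg.Agent.S0111.result Q W (hQ ▸ hWP) hrel u hu2 (hQ ▸ hD.le_left hu) huW with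
    ⟨N, hN, hNi, huN⟩ | ⟨g, hg⟩
  · rcases IsSimpleGroup.eq_bot_or_eq_top_of_normal N hN with e | e
    · subst e
      rw [Subgroup.index_bot] at hNi
      have h4 := Subgroup.card_le_of_le (le_top (a := A))
      rw [h.card, Subgroup.card_top] at h4
      omega
    · exact huN (e ▸ mem_top u)
  · set z := g * u * g⁻¹ with hz
    have hcz : IsConj u z := isConj_iff.2 ⟨g, rfl⟩
    have hnA : z ∉ A := fun e => hD.not_isD h hu huA ⟨g⁻¹, z, e, fun e1 =>
      huA ((conj_eq_one_iff.1 e1).symm ▸ one_mem A), by rw [hz]; group⟩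
    have hz2 : z * z = 1 := by
      rw [hz, show g * u * g⁻¹ * (g * u * g⁻¹) = g * (u * u) * g⁻¹ by group, hD.left.sq u hu]
      group
    rcases hD.invol z (hWP hg) hz2 with e | e
    · rcases ((hW₀ z).1 (hWT z e hg)).2 with e' | e'
      · exact hnA e'
      · exact hno' z e e' hcz
    · exact hD.not_isConj h hu e hnA hcz

/-- One block gives a side. -/
theorem Double.side (h : Setting S A) {u : G} (hu : u ∈ T) (huA : u ∉ A) : Side A u := by
  haveI : Fact (Nat.Prime 2) := ⟨Nat.prime_two⟩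
  have hB := hD.left
  have hbad := hB.bad u hu huA
  have hPC : P ≤ centralizer (A : Set G) :=
    le_centralizer_of_isPGroup h hD.isPGroup (hB.le.trans hD.le_left)
  -- 2-elements of `C(u)` are moved into the block
  have hinto : ∀ z : G, z * z = 1 → z * u = u * z →
      ∃ c : G, c * u = u * c ∧ c * z * c⁻¹ ∈ T := by
    intro z hz hzu
    obtain ⟨c, hc, hcT⟩ := hB.exists_conj_mem hu huA (isPGroup_zpowers_of_sq hz) fun t ht => by
      obtain ⟨i, rfl⟩ := ht
      exact ((show Commute z u from hzu).zpow_left i).eq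
    exact ⟨c, hc, hcT z (mem_zpowers z)⟩
  -- the class of `u` in `C(A)`
  have horbA : ∀ z ∈ centralizer (A : Set G), IsConj u z →
      ∀ a ∈ A, a ≠ 1 → ∃ g ∈ centralizer (A : Set G), g * u * g⁻¹ = z := by
    intro z hz hc a ha ha1
    obtain ⟨g, hg⟩ := isConj_iff.1 hc
    obtain ⟨n, hn, hnu⟩ := fusion_of h hbad.isPGroup_zpowers hbad.cent (g := g) (hg ▸ hz)
    rw [hg] at hnu
    have ha' : n⁻¹ * a * n ∈ A := by simpa using h.conj_mem (inv_mem hn) ha
    have ha'1 : n⁻¹ * a * n ≠ 1 := fun e => ha1 (by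
      calc a = n * (n⁻¹ * a * n) * n⁻¹ := by group
        _ = 1 := by rw [e]; group)
    obtain ⟨m, hm, -, hmu, hma⟩ := hB.rot u hu huA a ha ha1 _ ha' ha'1
    refine ⟨n * m, h.mem_centralizer_of_fixed (mul_mem hn hm) ha ha1 ?_, ?_⟩
    · rw [show n * m * a * (n * m)⁻¹ = n * (m * a * m⁻¹) * n⁻¹ by group, hma]; group
    · rw [show n * m * u * (n * m)⁻¹ = n * (m * u) * m⁻¹ * n⁻¹ by group, hmu,
        show n * (u * m) * m⁻¹ * n⁻¹ = n * u * n⁻¹ by group, hnu]
  refine ⟨hbad.cent, huA, hbad.sq, fun z hz hzu => ?_, fun a ha ha1 d hd hdu => ?_, fun a ha => ?_,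
    fun a ha ha1 x hx hxa => ?_, fun x hx hc => ?_, hbad.exists_badComp h⟩
  · have hzz : z * z = 1 := by rw [← pow_two, ← hz]; exact pow_orderOf_eq_one z
    obtain ⟨c, -, hcT⟩ := hinto z hzz hzu
    by_cases hcA : c * z * c⁻¹ ∈ A
    · refine Or.inl ⟨c⁻¹, _, hcA, fun e => ?_, by group⟩
      rw [conj_eq_one_iff] at e
      rw [e, orderOf_one] at hz
      omega
    · exact Or.inr ((hD.isConj_left h hu huA hcT hcA).trans (isConj_iff.2 ⟨c⁻¹, by group⟩))
  · have hdd : d * d = 1 := by rw [← pow_two, ← h.isD_orderOf hd]; exact pow_orderOf_eq_one d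
    obtain ⟨c, hc, hcT⟩ := hinto d hdd hdu
    have hdc := Setting.isD_conj hd c
    obtain ⟨m, -, -, hmu, hma⟩ := hB.rot u hu huA a ha ha1 _
      (h.mem_of_isD_centralizer hdc (hB.cent hcT)) (fun e => by
        have := h.isD_orderOf hdc
        rw [e, orderOf_one] at this
        omega)
    refine ⟨c⁻¹ * m, ((show Commute c u from hc).inv_left.mul_left hmu).eq, ?_⟩
    rw [show c⁻¹ * m * a * (c⁻¹ * m)⁻¹ = c⁻¹ * (m * a * m⁻¹) * c by group, hma]
    group
  · obtain ⟨g, hg, hge⟩ := hD.translate_left u hu huA a ha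
    exact ⟨g, hPC hg, hge⟩
  · obtain ⟨g, hg⟩ := isConj_iff.1 hx
    have hxx : x * x = 1 := by
      rw [← hg, show g * u * g⁻¹ * (g * u * g⁻¹) = g * (u * u) * g⁻¹ by group, hbad.sq]; group
    obtain ⟨c, hc, hcP⟩ := exists_conj_into hD.isPGroup (hPC.trans (h.centralizer_le ha))
      (fun U hU hle _ => hD.maximal h hU hle) (isPGroup_zpowers_of_sq hxx)
      (zpowers_le.2 (mem_centralizer_singleton_iff.2 hxa))
    set z := c * x * c⁻¹ with hzdef
    have hzP : z ∈ P := hcP x (mem_zpowers x)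
    have hcz : IsConj u z := hx.trans (isConj_iff.2 ⟨c, rfl⟩)
    obtain ⟨m, hm, hme⟩ := horbA z (hPC hzP) hcz a ha ha1
    refine ⟨c⁻¹ * m, ?_, ?_⟩
    · exact ((show Commute c a from mem_centralizer_singleton_iff.1 hc).inv_left.mul_left
        (h.mem_centralizer_of_commute hm ha)).eq
    · rw [show c⁻¹ * m * u * (c⁻¹ * m)⁻¹ = c⁻¹ * (m * u * m⁻¹) * c by group, hme, hzdef]
      group
  · obtain ⟨a, ha, ha1, -⟩ := h.exists_ne (a := (1 : G))
    exact horbA x hx hc a ha ha1

omit hD in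
/-- Two blocks give two sides. -/
theorem exists_sides (h : Setting S A) {T T₂ P : Subgroup G} (hD : Double A T T₂ P) :
    ∃ u v, Side A u ∧ Side A v ∧ ¬ IsConj u v := by
  obtain ⟨u, hu, -, -, huA, -, -⟩ := hD.left.exists_two h
  obtain ⟨v, hv, -, -, hvA, -, -⟩ := hD.right.exists_two h
  exact ⟨u, v, hD.side h hu huA, hD.swap.side h hv hvA, hD.not_isConj h hu hv hvA⟩

end Cfsg.Agent.Lib.Goldschmidt53.RankTwoBadOne
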