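import Cfsg.Agent.Lib.Goldschmidt53.RankTwoBadOne.Rich
import Cfsg.Agent.Lib.Goldschmidt53.RankTwoBadOne.Sylow
import Cfsg.Agent.Lib.Goldschmidt53.RankTwoBadOne.Count
import Cfsg.Agent.Lib.Goldschmidt53.RankTwoBadEnd

/-!
# Rank two: some translate class consists of good involutions

Owner: helper72.  Case (a) of section R: `PropGoodExists`.
-/

set_option autoImplicit false
set_option linter.style.haveILetI false
set_option linter.unusedSectionVars false

universe u

namespace Cfsg.Agent.Lib.Goldschmidt53.RankTwoBadOne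

open Subgroup
open Cfsg.Agent.Lib.Goldschmidt53.RankTwoBad (Setting)

variable {G : Type u} [Group G] [Finite G] {S : Sylow 2 G} {A : Subgroup G}

/-- If no translate class in `S` is good, none in `C(A)` is. -/
theorem exists_bad_translate (h : Setting S A)
    (hno : ¬ ∃ x ∈ (S : Subgroup G), orderOf x = 2 ∧ x ∉ A ∧ ∀ b ∈ A, GoodInv A (x * b))
    {x : G} (hxC : x ∈ centralizer (A : Set G)) (hxA : x ∉ A) (hx2 : x * x = 1) :
    ∃ b ∈ A, Bad A (x * b) := by
  haveI : Fact (Nat.Prime 2) := ⟨Nat.prime_two⟩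
  have hxp : IsPGroup 2 ↥(zpowers x) := isPGroup_zpowers_of_sq hx2
  obtain ⟨k, hk, hkS⟩ := exists_conj_le h hxp (zpowers_le.2 hxC)
  have hyS := hkS x (mem_zpowers x)
  have hyA : k * x * k⁻¹ ∉ A := fun e => hxA (by
    simpa [mul_assoc] using h.conj_mem (inv_mem hk) e)
  have hyy : k * x * k⁻¹ * (k * x * k⁻¹) = 1 := by
    calc k * x * k⁻¹ * (k * x * k⁻¹) = k * (x * x) * k⁻¹ := by group
      _ = 1 := by rw [hx2, mul_one, mul_inv_cancel]
  have hy2 : orderOf (k * x * k⁻¹) = 2 :=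
    orderOf_eq_prime (by rw [pow_two]; exact hyy) fun e => hyA (e ▸ one_mem A)
  push Not at hno
  obtain ⟨b, hb, hbad⟩ := hno _ hyS hy2 hyA
  have hyb : Bad A (k * x * k⁻¹ * b) := by
    refine ⟨mul_mem (h.sylow_le hyS) (h.le_centralizer hb), fun e => hyA ?_, ?_, hbad⟩
    · simpa [mul_assoc, h.sq hb] using mul_mem e hb
    · calc k * x * k⁻¹ * b * (k * x * k⁻¹ * b) = k * x * k⁻¹ * (b * (k * x * k⁻¹)) * b := by group
        _ = k * x * k⁻¹ * (k * x * k⁻¹) * (b * b) := by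
          rw [← h.mem_centralizer_of_commute (h.sylow_le hyS) hb]; group
        _ = 1 := by rw [hyy, h.sq hb, mul_one]
  refine ⟨k⁻¹ * b * k, by simpa using h.conj_mem (inv_mem hk) hb, ?_⟩
  have h1 := Bad.conj h hyb (inv_mem hk)
  rwa [show k⁻¹ * (k * x * k⁻¹ * b) * k⁻¹⁻¹ = x * (k⁻¹ * b * k) by group] at h1

/-- Case (a) of section R. -/
theorem goodExists
    (hL : PropFacts.{u}) (hX : PropLocal.{u}) : PropGoodExists.{u} := by
  intro G _ _ S A hh h4 hA' hcA hex
  by_contra hno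
  haveI : Fact (Nat.Prime 2) := ⟨Nat.prime_two⟩
  have h : Setting S A := ⟨hh, h4, hcA, hA', hX, hL⟩
  obtain ⟨v, hvS, hv2, hvA, s, hsS, hsv, hsA, hsvA⟩ :=
    RankTwoBadEnd.exists_large hh h4 hA' hcA hex
  have hvv : v * v = 1 := by rw [← pow_two, ← hv2]; exact pow_orderOf_eq_one v
  obtain ⟨T, T₂, P, hD⟩ := exists_double h (fun x => exists_bad_translate h hno) hvS hvA hvv hsS hsv
    hsA hsvA
  obtain ⟨u, w, hu, hw, huw⟩ := exists_sides h hD
  exact count_false h hu hw huw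

end Cfsg.Agent.Lib.Goldschmidt53.RankTwoBadOne
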