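import Cfsg.Agent.Lib.Goldschmidt53.RankTwoBadOne.Comp
import Cfsg.Agent.Lib.Goldschmidt53.RankTwoBadEnd

/-!
# Rank two, bad involutions: two blocks

A bad involution `u` is rich if a Sylow 2-subgroup `T` of `C(u)` through `A` has an involution
outside `A⟨u⟩`.  For `T` as large as possible it is elementary of order 16 and its elements outside
`A` are bad; the 2-elements normalising it act by translations, giving a group of order 64, and the
involutions there outside `T` lie in a second such group.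

Owner: helper72.
-/

set_option autoImplicit false
set_option linter.style.haveILetI false
set_option linter.unusedSectionVars false

universe u

namespace Cfsg.Agent.Lib.Goldschmidt53.RankTwoBadOne

open Subgroup
open scoped commutatorElement
open Cfsg.Agent.Lib.Goldschmidt53.RankTwoBad (Setting)

variable {G : Type u} [Group G]

/-- A bad involution with a Sylow subgroup of its centraliser having a further involution. -/
structure Rich (A : Subgroup G) (u : G) (T : Subgroup G) : Prop where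
  bad : Bad A u
  le : A ≤ T
  isPGroup : IsPGroup 2 ↥T
  comm : ∀ t ∈ T, t * u = u * t
  maximal : ∀ U : Subgroup G, IsPGroup 2 ↥U → T ≤ U → (∀ t ∈ U, t * u = u * t) → U = T
  second : ∃ r ∈ T, r * r = 1 ∧ r ∉ A ∧ r * u ∉ A

/-- A rich pair with the largest possible subgroup. -/
structure IsMax (A : Subgroup G) (u : G) (T : Subgroup G) : Prop where
  rich : Rich A u T
  max : ∀ (v : G) (U : Subgroup G), Rich A v U → Nat.card ↥U ≤ Nat.card ↥T

/-- Some 2-element of `C(A) ∩ N(T)` multiplies `u` by a non-trivial element of `A`. -/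
structure Pivot (A : Subgroup G) (u : G) (T : Subgroup G) (s a : G) : Prop where
  isMax : IsMax A u T
  norm : s ∈ normalizer (T : Set G)
  cent : s ∈ centralizer (A : Set G)
  two : IsPGroup 2 ↥(zpowers s)
  mem : a ∈ A
  ne : a ≠ 1
  eq : s * u * s⁻¹ = u * a

/-- The group of translations of a block. -/
structure TGroup (A T P : Subgroup G) : Prop where
  le : T ≤ P
  isPGroup : IsPGroup 2 ↥P
  norm : P ≤ normalizer (T : Set G)
  cent : P ≤ centralizer (A : Set G)
  card : Nat.card ↥P = 64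
  comm : ∀ g ∈ P, ∀ x ∈ T, g * x * g⁻¹ * x⁻¹ ∈ A
  fix : ∀ g ∈ P, ∀ x ∈ T, x ∉ A → g * x = x * g → g ∈ T
  surj : ∀ x ∈ T, x ∉ A → ∀ a ∈ A, ∃ g ∈ P, g * x * g⁻¹ = x * a
  max : ∀ U : Subgroup G, IsPGroup 2 ↥U → U ≤ normalizer (T : Set G) →
    U ≤ centralizer (A : Set G) → Nat.card ↥U ≤ 64

variable [Finite G] {S : Sylow 2 G} {A T : Subgroup G} {u : G}

/-- A 2-subgroup centralising `u` lies in a maximal one. -/
theorem exists_maximal_comm {T₀ : Subgroup G} (hT : IsPGroup 2 ↥T₀)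
    (hc : ∀ t ∈ T₀, t * u = u * t) : ∃ T : Subgroup G, T₀ ≤ T ∧ IsPGroup 2 ↥T ∧
      (∀ t ∈ T, t * u = u * t) ∧
      ∀ U : Subgroup G, IsPGroup 2 ↥U → T ≤ U → (∀ t ∈ U, t * u = u * t) → U = T := by
  obtain ⟨T, hle, hmax⟩ := Finite.exists_le_maximal
    (p := fun U : Subgroup G => IsPGroup 2 ↥U ∧ ∀ t ∈ U, t * u = u * t) (show _ ∧ _ from ⟨hT, hc⟩)
  exact ⟨T, hle, hmax.1.1, hmax.1.2, fun U h1 h2 h3 => le_antisymm (hmax.2 ⟨h1, h3⟩ h2) h2⟩

theorem isPGroup_zpowers_of_sq {x : G} (hx : x * x = 1) : IsPGroup 2 ↥(zpowers x) := by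
  have h2 : x ^ 2 = 1 := by rw [pow_two, hx]
  haveI : Fact (Nat.Prime 2) := ⟨Nat.prime_two⟩
  by_cases hx1 : x = 1
  · subst hx1
    exact IsPGroup.of_card (n := 0) (by rw [Nat.card_zpowers, orderOf_one, pow_zero])
  · exact IsPGroup.of_card (n := 1) (by rw [Nat.card_zpowers, orderOf_eq_prime h2 hx1, pow_one])

/-- Normalising 2-elements extend a 2-subgroup. -/
theorem isPGroup_sup_zpowers (hT : IsPGroup 2 ↥T) {s : G} (hs : IsPGroup 2 ↥(zpowers s))
    (hsN : s ∈ normalizer (T : Set G)) : IsPGroup 2 ↥(T ⊔ zpowers s) :=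
  hT.to_sup_of_normal_left' hs (zpowers_le.2 hsN)

/-- The four cosets of a four-group in an elementary group of order 16. -/
theorem coset_cases (hT : Nat.card ↥T = 16) (hsq : ∀ t ∈ T, t * t = 1) (hAT : A ≤ T)
    (hA : Nat.card ↥A = 4) {x y z : G} (hx : x ∈ T) (hy : y ∈ T) (hz : z ∈ T) (hxA : x ∉ A)
    (hyA : y ∉ A) (hxy : y * x ∉ A) : z ∈ A ∨ z * x ∈ A ∨ z * y ∈ A ∨ z * (y * x) ∈ A := by
  haveI hc : IsMulCommutative ↥T :=
    ⟨⟨fun a b => Subtype.ext (Walter.Known.comm_of_exp_two hsq a a.2 b b.2)⟩⟩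
  set A' := A.subgroupOf T with hA'
  haveI : A'.Normal := ⟨fun a ha g => by
    rw [show g * a * g⁻¹ = a by rw [hc.is_comm.comm g a, mul_inv_cancel_right]]; exact ha⟩
  have h4 : Nat.card ↥(⊤ : Subgroup (↥T ⧸ A')) = 4 := by
    rw [card_top]
    have h1 := A'.card_mul_index
    rw [Subgroup.index, show Nat.card ↥A' = 4 from
      (Nat.card_congr (subgroupOfEquivOfLe hAT).toEquiv).trans hA, hT] at h1
    omega
  have he : ∀ a ∈ (⊤ : Subgroup (↥T ⧸ A')), a * a = 1 := by
    intro a _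
    induction a using QuotientGroup.induction_on with
    | H t => rw [← QuotientGroup.mk_mul, show t * t = 1 from Subtype.ext (hsq t t.2)]; rfl
  have hmem : ∀ {a b : ↥T}, (a : ↥T ⧸ A') = b → (a : G) * b ∈ A := by
    intro a b e
    have h1 := mem_subgroupOf.1 (QuotientGroup.eq.1 e)
    rwa [Subgroup.coe_mul, Subgroup.coe_inv, inv_eq_of_mul_eq_one_right (hsq a a.2)] at h1
  have hne : ∀ {a : ↥T}, (a : G) ∉ A → (a : ↥T ⧸ A') ≠ 1 := fun ha e =>
    ha (mem_subgroupOf.1 ((QuotientGroup.eq_one_iff _).1 e))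
  rcases RankTwoBadEnd.mem_cases h4 he (mem_top _) (hne (a := ⟨x, hx⟩) hxA) (mem_top _)
      (hne (a := ⟨y, hy⟩) hyA) (fun e => hxy (hmem e))
      (mem_top ((⟨z, hz⟩ : ↥T) : ↥T ⧸ A')) with e | e | e | e
  · exact Or.inl (mem_subgroupOf.1 ((QuotientGroup.eq_one_iff _).1 e))
  · exact Or.inr (Or.inl (hmem e))
  · exact Or.inr (Or.inr (Or.inl (hmem e)))
  · refine Or.inr (Or.inr (Or.inr ?_))
    rw [← QuotientGroup.mk_mul] at e
    have h1 := hmem e
    rwa [Subgroup.coe_mul, show (x : G) * y = y * x from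
      Walter.Known.comm_of_exp_two hsq x hx y hy] at h1

variable (h : Setting S A)
include h

theorem Rich.le_cent (hR : Rich A u T) : T ≤ centralizer (A : Set G) :=
  le_centralizer_of_isPGroup h hR.isPGroup hR.le

theorem Rich.mem (hR : Rich A u T) : u ∈ T := by
  have hN : u ∈ normalizer (T : Set G) := centralizer_le_normalizer _
    (mem_centralizer_iff.2 fun t ht => hR.comm t ht)
  have h1 := hR.maximal _ (isPGroup_sup_zpowers hR.isPGroup hR.bad.isPGroup_zpowers hN) le_sup_left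
    (fun t ht => mem_centralizer_singleton_iff.1
      ((sup_le (fun x hx => mem_centralizer_singleton_iff.2 (hR.comm x hx))
        (zpowers_le.2 (mem_centralizer_singleton_iff.2 rfl)) :
          T ⊔ zpowers u ≤ centralizer ({u} : Set G)) ht))
  exact h1.le (mem_sup_right (mem_zpowers u))

/-- A 2-element normalising `T` which commutes with `u` lies in `T`. -/
theorem Rich.mem_of_comm (hR : Rich A u T) {g : G} (hg : IsPGroup 2 ↥(zpowers g))
    (hgN : g ∈ normalizer (T : Set G)) (hgu : g * u = u * g) : g ∈ T := by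
  have h1 := hR.maximal _ (isPGroup_sup_zpowers hR.isPGroup hg hgN) le_sup_left
    (fun t ht => mem_centralizer_singleton_iff.1
      ((sup_le (fun x hx => mem_centralizer_singleton_iff.2 (hR.comm x hx))
        (zpowers_le.2 (mem_centralizer_singleton_iff.2 hgu)) :
          T ⊔ zpowers g ≤ centralizer ({u} : Set G)) ht))
  exact h1.le (mem_sup_right (mem_zpowers g))

/-- A Sylow subgroup of `G` is not one of a bad involution's centraliser. -/
theorem not_sylow (hu : Bad A u) (hT : IsPGroup 2 ↥T) (hAT : A ≤ T)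
    (hc : ∀ t ∈ T, t * u = u * t) (U : Sylow 2 G) : (U : Subgroup G) ≠ T := by
  intro hUT
  obtain ⟨n, hn, hnC, -, -, hdec⟩ := hu.exists_rot h hT hAT hc
  have hTA := le_centralizer_of_isPGroup h hT hAT
  obtain ⟨k, -, hk⟩ := exists_conj_le h hT hTA
  have hmap : T.map (MulAut.conj k).toMonoidHom = (S : Subgroup G) := by
    refine Subgroup.eq_of_le_of_card_ge ?_ ?_
    · rintro _ ⟨t, ht, rfl⟩
      exact hk t ht
    · rw [card_map_of_injective (f := (MulAut.conj k).toMonoidHom) (MulAut.conj k).injective,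
        ← hUT, Sylow.card_eq_multiplicity U, Sylow.card_eq_multiplicity S]
  have hcomm : ⁅T, T⁆ ≤ centralizer ({n} : Set G) := by
    rw [commutator_le]
    intro t ht t' ht'
    obtain ⟨c, hcA, htc⟩ := hdec t ht
    obtain ⟨c', hcA', htc'⟩ := hdec t' ht'
    have hcen : ∀ {d z : G}, d ∈ A → z ∈ T → Commute d z := fun hd hz =>
      mem_centralizer_iff.1 (hTA hz) _ hd
    have hout : ∀ {d z : G}, d ∈ A → z ∈ T → d * z * d⁻¹ = z := fun hd hz =>
      mul_inv_eq_iff_eq_mul.2 (hcen hd hz).eq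
    have e : ⁅t, t'⁆ = ⁅t * c, t' * c'⁆ := by
      rw [commutatorElement_def, commutatorElement_def]
      have e1 : c * (t' * c') * c⁻¹ = t' * c' := hout hcA (mul_mem ht' (hAT hcA'))
      have e2 : c' * t⁻¹ * c'⁻¹ = t⁻¹ := hout hcA' (inv_mem ht)
      calc t * t' * t⁻¹ * t'⁻¹ = t * (t' * (c' * t⁻¹ * c'⁻¹)) * t'⁻¹ := by rw [e2]; group
        _ = t * (t' * c') * t⁻¹ * (t' * c')⁻¹ := by group
        _ = t * (c * (t' * c') * c⁻¹) * t⁻¹ * (t' * c')⁻¹ := by rw [e1]
        _ = _ := by group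
    rw [e]
    exact mem_centralizer_singleton_iff.2
      (((show Commute n (t * c) from htc).mul_right (show Commute n (t' * c') from htc')).mul_right
        (show Commute n (t * c) from htc).inv_right |>.mul_right
          (show Commute n (t' * c') from htc').inv_right).symm.eq
  obtain ⟨a, ha, ha1, -⟩ := h.exists_ne (a := (1 : G))
  refine ha1 (eq_one_of_fixed h hn hnC ha (mem_centralizer_singleton_iff.1 (hcomm ?_)).symm)
  have hka : k * a * k⁻¹ ∈ A := h.hyp.closed.2 a ha k (hk a (hAT ha))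
  have h1 : (⟨k * a * k⁻¹, hk a (hAT ha)⟩ : ↥(S : Subgroup G)) ∈ commutator ↥(S : Subgroup G) :=
    h.derived (mem_subgroupOf.2 hka)
  have h2 : k * a * k⁻¹ ∈ ⁅T, T⁆.map (MulAut.conj k).toMonoidHom := by
    rw [Subgroup.map_commutator, hmap, ← map_subtype_commutator]
    exact mem_map_of_mem _ h1
  obtain ⟨z, hz, hze⟩ := h2
  exact (MulAut.conj k).injective hze ▸ hz

/-- It grows in a Sylow subgroup. -/
theorem exists_normalizing (hu : Bad A u) (hT : IsPGroup 2 ↥T) (hAT : A ≤ T)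
    (hc : ∀ t ∈ T, t * u = u * t) : ∃ (P : Sylow 2 G) (s : G), T ≤ (P : Subgroup G) ∧
      s ∈ (P : Subgroup G) ∧ s ∉ T ∧ s ∈ normalizer (T : Set G) := by
  haveI : Fact (Nat.Prime 2) := ⟨Nat.prime_two⟩
  obtain ⟨P, hP⟩ := hT.exists_le_sylow
  haveI : Group.IsNilpotent ↥(P : Subgroup G) := P.2.isNilpotent
  have hlt : T.subgroupOf (P : Subgroup G) < ⊤ := by
    refine lt_top_iff_ne_top.2 fun e => not_sylow h hu hT hAT hc P ?_
    exact le_antisymm (subgroupOf_eq_top.1 e) hP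
  obtain ⟨⟨s, hsP⟩, hsN, hsT⟩ :=
    SetLike.exists_of_lt ((Group.normalizerCondition_of_isNilpotent (G := ↥(P : Subgroup G))) _ hlt)
  refine ⟨P, s, hP, hsP, fun e => hsT (mem_subgroupOf.2 e), RankTwoKey.mem_normalizer_of_map_le ?_⟩
  rintro _ ⟨x, hx, rfl⟩
  exact mem_subgroupOf.1
    ((mem_normalizer_iff.1 hsN ⟨x, hP hx⟩).1 (mem_subgroupOf.2 hx))

/-- A rich pair exists. -/
theorem exists_rich
    (hall : ∀ x ∈ centralizer (A : Set G), x ∉ A → x * x = 1 → ∃ b ∈ A, Bad A (x * b))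
    {v s : G} (hvS : v ∈ (S : Subgroup G)) (hvA : v ∉ A) (hv2 : v * v = 1)
    (hsS : s ∈ (S : Subgroup G)) (hsv : s * v = v * s) (hsA : s ∉ A) (hsvA : s * v ∉ A) :
    ∃ u T, Rich A u T := by
  haveI : Fact (Nat.Prime 2) := ⟨Nat.prime_two⟩
  obtain ⟨b, hb, hu⟩ := hall v (h.sylow_le hvS) hvA hv2
  set u := v * b with hudef
  have hsu : s * u = u * s := by
    rw [hudef, ← mul_assoc, hsv, mul_assoc, h.mem_centralizer_of_commute (h.sylow_le hsS) hb,
      ← mul_assoc]
  have hS0 : A ⊔ zpowers s ≤ (S : Subgroup G) := sup_le h.hyp.closed.1 (zpowers_le.2 hsS)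
  obtain ⟨T, hT0, hT, hTc, hTmax⟩ := exists_maximal_comm (u := u) (S.2.to_le hS0) fun t ht =>
    mem_centralizer_singleton_iff.1 ((sup_le (fun a ha => mem_centralizer_singleton_iff.2
      (mem_centralizer_iff.1 hu.cent a ha)) (zpowers_le.2 (mem_centralizer_singleton_iff.2 hsu)) :
        A ⊔ zpowers s ≤ centralizer ({u} : Set G)) ht)
  have hAT : A ≤ T := le_sup_left.trans hT0
  refine ⟨u, T, hu, hAT, hT, hTc, hTmax, ?_⟩
  by_contra hno
  push Not at hno
  obtain ⟨n, hn, hnC, hnu, hnT, hdec⟩ := hu.exists_rot h hT hAT hTc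
  have hTA := le_centralizer_of_isPGroup h hT hAT
  have hinv : ∀ r ∈ T, n * r = r * n → r * r = 1 → r ≠ 1 → r = u := by
    intro r hr hnr hr2 hr1
    by_cases hrA : r ∈ A
    · exact absurd (eq_one_of_fixed h hn hnC hrA hnr) hr1
    · have h1 : r * u = 1 := eq_one_of_fixed h hn hnC (hno r hr hr2 hrA)
        ((show Commute n r from hnr).mul_right (show Commute n u from hnu)).eq
      rw [eq_inv_of_mul_eq_one_left h1, inv_eq_of_mul_eq_one_right hu.sq]
  -- `u` is a square, and the only square of order two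
  have hsT : s ∈ T := hT0 (mem_sup_right (mem_zpowers s))
  obtain ⟨a, ha, hsa⟩ := hdec s hsT
  have hsu' : s * a * (s * a) ≠ 1 := fun e => by
    by_cases h1 : s * a = 1
    · exact hsA (eq_inv_of_mul_eq_one_left h1 ▸ inv_mem ha)
    · have h2 := hinv _ (mul_mem hsT (hAT ha)) hsa e h1
      refine hsvA ?_
      have h3 : s = u * a⁻¹ := by rw [← h2]; group
      rw [h3, hudef]
      have : v * b * a⁻¹ * v = v * v * (b * a⁻¹) := by
        have hva : (b * a⁻¹) * v = v * (b * a⁻¹) :=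
          (h.mem_centralizer_of_commute (h.sylow_le hvS) (mul_mem hb (inv_mem ha))).symm
        calc v * b * a⁻¹ * v = v * ((b * a⁻¹) * v) := by group
          _ = v * v * (b * a⁻¹) := by rw [hva]; group
      rw [this, hv2, one_mul]
      exact mul_mem hb (inv_mem ha)
  obtain ⟨q, hqT, hnq, hqq⟩ : ∃ q ∈ T, n * q = q * n ∧ q * q = u := by
    obtain ⟨k, hk⟩ := IsPGroup.iff_orderOf.1 hT ⟨s * a, mul_mem hsT (hAT ha)⟩
    rw [Subgroup.orderOf_mk] at hk
    set r := s * a
    obtain ⟨j, rfl⟩ : ∃ j, k = j + 2 := by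
      refine ⟨k - 2, ?_⟩
      by_contra hlt
      have hk1 : k ≤ 1 := by omega
      refine hsu' ?_
      rw [← pow_two, ← orderOf_dvd_iff_pow_eq_one, hk]
      exact (pow_dvd_pow 2 hk1).trans (by norm_num)
    have hqT : r ^ 2 ^ j ∈ T := pow_mem (mul_mem hsT (hAT ha)) _
    have hq : n * r ^ 2 ^ j = r ^ 2 ^ j * n := ((show Commute n r from hsa).pow_right _).eq
    refine ⟨r ^ 2 ^ j, hqT, hq,
      hinv _ (mul_mem hqT hqT) ((show Commute n _ from hq).mul_right hq).eq ?_ ?_⟩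
    · rw [← pow_add, ← pow_add, show 2 ^ j + 2 ^ j + (2 ^ j + 2 ^ j) = 2 ^ (j + 2) by ring, ← hk,
        pow_orderOf_eq_one]
    · rw [← pow_add]
      refine pow_ne_one_of_lt_orderOf (by positivity) ?_
      rw [hk, pow_succ, pow_succ]
      have := Nat.two_pow_pos j
      omega
  have hsq : ∀ t ∈ T, t * t * (t * t) = 1 → t * t ≠ 1 → t * t = u := by
    intro t ht h1 h2
    obtain ⟨c, hc, htc⟩ := hdec t ht
    have e : t * c * (t * c) = t * t := by
      calc t * c * (t * c) = t * (c * t) * c := by group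
        _ = t * (t * c) * c := by rw [mem_centralizer_iff.1 (hTA ht) c hc]
        _ = t * t * (c * c) := by group
        _ = t * t := by rw [h.sq hc, mul_one]
    rw [← e] at h1 h2 ⊢
    exact hinv _ (mul_mem (mul_mem ht (hAT hc)) (mul_mem ht (hAT hc)))
      ((show Commute n (t * c) from htc).mul_right htc).eq h1 h2
  obtain ⟨P, g, hTP, hgP, hgT, hgN⟩ := exists_normalizing h hu hT hAT hTc
  refine hgT ?_
  have hg2 : IsPGroup 2 ↥(zpowers g) := P.2.to_le (zpowers_le.2 hgP)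
  have hgq : g * q * g⁻¹ ∈ T := (mem_normalizer_iff.1 hgN q).1 hqT
  have e : g * q * g⁻¹ * (g * q * g⁻¹) = g * u * g⁻¹ := by rw [← hqq]; group
  have h2 := hsq _ hgq (by
    rw [e]
    calc g * u * g⁻¹ * (g * u * g⁻¹) = g * (u * u) * g⁻¹ := by group
      _ = 1 := by rw [hu.sq, mul_one, mul_inv_cancel]) (by
    rw [e]
    exact fun e' => hu.ne_one (conj_eq_one_iff.1 e'))
  rw [e] at h2
  have hgu : g * u = u * g := mul_inv_eq_iff_eq_mul.1 h2
  have h3 := hTmax _ (isPGroup_sup_zpowers hT hg2 hgN) le_sup_left fun t ht =>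
    mem_centralizer_singleton_iff.1 ((sup_le (fun x hx => mem_centralizer_singleton_iff.2 (hTc x hx))
      (zpowers_le.2 (mem_centralizer_singleton_iff.2 hgu)) :
        T ⊔ zpowers g ≤ centralizer ({u} : Set G)) ht)
  exact h3.le (mem_sup_right (mem_zpowers g))

omit h in
/-- A largest rich pair exists. -/
theorem exists_isMax (hR : Rich A u T) : ∃ v U, IsMax A v U := by
  haveI : Nonempty {p : G × Subgroup G // Rich A p.1 p.2} := ⟨⟨(u, T), hR⟩⟩
  obtain ⟨⟨⟨v, U⟩, hp⟩, hmax⟩ :=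
    Finite.exists_max fun p : {p : G × Subgroup G // Rich A p.1 p.2} => Nat.card ↥p.1.2
  exact ⟨v, U, hp, fun w W hW => hmax ⟨(w, W), hW⟩⟩

/-- A largest pair has a pivot after changing the involution. -/
theorem exists_pivot (hM : IsMax A u T) : ∃ w s a, Pivot A w T s a := by
  haveI : Fact (Nat.Prime 2) := ⟨Nat.prime_two⟩
  have hR := hM.rich
  have hTA := hR.le_cent h
  obtain ⟨P, s, hTP, hsP, hsT, hsN⟩ := exists_normalizing h hR.bad hR.isPGroup hR.le hR.comm
  have hPA : (P : Subgroup G) ≤ centralizer (A : Set G) :=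
    le_centralizer_of_isPGroup h P.2 (hR.le.trans hTP)
  haveI : Group.IsNilpotent ↥(P : Subgroup G) := P.2.isNilpotent
  obtain ⟨N, hN⟩ := (isNilpotent_iff_lowerCentralSeries (S := (P : Subgroup G))).1 inferInstance
  classical
  let f : G → G := fun z => z * s * z⁻¹ * s⁻¹
  have hfP : ∀ i : ℕ, f^[i] u ∈ (P : Subgroup G).lowerCentralSeries i := by
    intro i
    induction i with
    | zero => exact hTP (hR.mem h)
    | succ i ih =>
      rw [Function.iterate_succ_apply', Subgroup.lowerCentralSeries_succ]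
      exact commutator_mem_commutator ih hsP
  let Z : G → Prop := fun z => z ∈ T ∧ z * z = 1 ∧ ∀ t ∈ T, t * z = z * t
  have hfZ : ∀ z, Z z → Z (f z) := by
    rintro z ⟨hz, hz2, hzc⟩
    have h1 : s * z⁻¹ * s⁻¹ ∈ T := (mem_normalizer_iff.1 hsN _).1 (inv_mem hz)
    have hzi : z⁻¹ = z := inv_eq_of_mul_eq_one_right hz2
    have hcs : ∀ t ∈ T, t * (s * z⁻¹ * s⁻¹) = s * z⁻¹ * s⁻¹ * t := by
      intro t ht
      have h2 : s⁻¹ * t * s ∈ T := by simpa using (mem_normalizer_iff.1 (inv_mem hsN) t).1 ht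
      calc t * (s * z⁻¹ * s⁻¹) = s * ((s⁻¹ * t * s) * z⁻¹) * s⁻¹ := by group
        _ = s * (z⁻¹ * (s⁻¹ * t * s)) * s⁻¹ := by rw [hzi, hzc _ h2]
        _ = _ := by group
    have e : f z = z * (s * z⁻¹ * s⁻¹) := by simp only [f]; group
    refine ⟨e ▸ mul_mem hz h1, ?_, fun t ht => ?_⟩
    · rw [e]
      calc z * (s * z⁻¹ * s⁻¹) * (z * (s * z⁻¹ * s⁻¹))
          = z * ((s * z⁻¹ * s⁻¹) * z) * (s * z⁻¹ * s⁻¹) := by group
        _ = z * (z * (s * z⁻¹ * s⁻¹)) * (s * z⁻¹ * s⁻¹) := by rw [hcs z hz]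
        _ = z * z * (s * (z⁻¹ * z⁻¹) * s⁻¹) := by group
        _ = 1 := by rw [hzi, hz2]; group
    · rw [e]
      exact ((show Commute t z from hzc t ht).mul_right (show Commute t _ from hcs t ht)).eq
  have hex : ∃ i, f^[i] u ∈ A := ⟨N, by
    have := hfP N
    rw [hN, mem_bot] at this
    rw [this]; exact one_mem A⟩
  have hall : ∀ i, Z (f^[i] u) := by
    intro i
    induction i with
    | zero => exact ⟨hR.mem h, hR.bad.sq, hR.comm⟩
    | succ i ih => rw [Function.iterate_succ_apply']; exact hfZ _ ih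
  obtain ⟨i, hi⟩ : ∃ i, Nat.find hex = i + 1 := Nat.exists_eq_succ_of_ne_zero fun e => by
    have := Nat.find_spec hex
    rw [e] at this
    exact hR.bad.notMem this
  have hzA : f^[i] u ∉ A := Nat.find_min hex (by omega)
  have hfA : f (f^[i] u) ∈ A := by
    rw [← Function.iterate_succ_apply' f i u]
    have := Nat.find_spec hex
    rwa [hi] at this
  obtain ⟨hzT, hz2, hzc⟩ := hall i
  set z := f^[i] u
  obtain ⟨n, hn, hnC, hnu, -, hdec⟩ := hR.bad.exists_rot h hR.isPGroup hR.le hR.comm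
  obtain ⟨c, hc, hzc'⟩ := hdec z hzT
  set w := z * c with hw
  have hzcomm : c * z = z * c := mem_centralizer_iff.1 (hTA hzT) c hc
  have hwT : w ∈ T := mul_mem hzT (hR.le hc)
  have hwA : w ∉ A := fun e => hzA (by
    have := mul_mem e hc
    rwa [hw, mul_assoc, h.sq hc, mul_one] at this)
  have hw2 : w * w = 1 := by
    rw [hw]
    calc z * c * (z * c) = z * (c * z) * c := by group
      _ = z * z * (c * c) := by rw [hzcomm]; group
      _ = 1 := by rw [hz2, h.sq hc, mul_one]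
  have hwc : ∀ t ∈ T, t * w = w * t := fun t ht =>
    ((show Commute t z from hzc t ht).mul_right
      (show Commute t c from (mem_centralizer_iff.1 (hTA ht) c hc).symm)).eq
  have hwb : Bad A w := hR.bad.of_mate h (hTA hwT) hwA hw2 (hR.comm w hwT)
    ⟨n, hn, hnC, hnu, hzc'⟩
  obtain ⟨W, hTW, hW, hWc, hWmax⟩ := exists_maximal_comm (u := w) hR.isPGroup hwc
  have hsec : ∃ r ∈ W, r * r = 1 ∧ r ∉ A ∧ r * w ∉ A := by
    by_cases he : u * w ∈ A
    · have h1 : u * w = 1 := eq_one_of_fixed h hn hnC he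
        ((show Commute n u from hnu).mul_right (show Commute n w from hzc')).eq
      have hwu : w = u := by
        rw [eq_inv_of_mul_eq_one_right h1, inv_eq_of_mul_eq_one_right hR.bad.sq]
      obtain ⟨r, hr, hr2, hrA, hru⟩ := hR.second
      exact ⟨r, hTW hr, hr2, hrA, by rwa [hwu]⟩
    · exact ⟨u, hTW (hR.mem h), hR.bad.sq, hR.bad.notMem, he⟩
  have hWr : Rich A w W := ⟨hwb, hR.le.trans hTW, hW, hWc, hWmax, hsec⟩
  have hWT : W = T := (Subgroup.eq_of_le_of_card_ge hTW (hM.max w W hWr)).symm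
  subst hWT
  have hwM : IsMax A w W := ⟨hWr, hM.max⟩
  have hs2 : IsPGroup 2 ↥(zpowers s) := P.2.to_le (zpowers_le.2 hsP)
  have hsw : s * w * s⁻¹ = w * (w⁻¹ * (s * w * s⁻¹)) := by group
  refine ⟨w, s, _, hwM, hsN, hPA hsP, hs2, ?_, fun e => hsT ?_, hsw⟩
  · have h1 : w⁻¹ * (s * w * s⁻¹) = z⁻¹ * (s * z * s⁻¹) := by
      have h2 : s * c = c * s := h.mem_centralizer_of_commute (hPA hsP) hc
      have h3 : c * (s * z * s⁻¹) = s * z * s⁻¹ * c :=
        mem_centralizer_iff.1 (hTA ((mem_normalizer_iff.1 hsN z).1 hzT)) c hc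
      rw [hw]
      calc (z * c)⁻¹ * (s * (z * c) * s⁻¹) = c⁻¹ * z⁻¹ * (s * z * s⁻¹) * (s * c * s⁻¹) := by group
        _ = c⁻¹ * z⁻¹ * ((s * z * s⁻¹) * c) := by rw [h2]; group
        _ = c⁻¹ * (z⁻¹ * c) * (s * z * s⁻¹) := by rw [← h3]; group
        _ = z⁻¹ * (s * z * s⁻¹) := by
          rw [show z⁻¹ * c = c * z⁻¹ from ((show Commute c z from hzcomm).inv_right).eq.symm]; group
    rw [h1]
    have h4 : z⁻¹ * (s * z * s⁻¹) = (f z)⁻¹ := by
      have hzi : z⁻¹ = z := inv_eq_of_mul_eq_one_right hz2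
      have hcs : z * (s * z * s⁻¹) = s * z * s⁻¹ * z :=
        (hzc _ ((mem_normalizer_iff.1 hsN z).1 hzT)).symm
      simp only [f, mul_inv_rev, inv_inv, hzi]
      rw [hcs]
      group
    rw [h4]
    exact inv_mem hfA
  · exact hWr.mem_of_comm h hs2 hsN (mul_inv_eq_iff_eq_mul.1 (hsw.trans (by rw [e, mul_one])))

/-- A pivot makes `T` elementary of order 16. -/
theorem Pivot.card_sq {s a : G} (hP : Pivot A u T s a) :
    Nat.card ↥T = 16 ∧ ∀ t ∈ T, t * t = 1 := by
  haveI : Fact (Nat.Prime 2) := ⟨Nat.prime_two⟩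
  have hR := hP.isMax.rich
  have hTA := hR.le_cent h
  obtain ⟨n, hn, hnC, hnu, -, hdec⟩ := hR.bad.exists_rot h hR.isPGroup hR.le hR.comm
  set n' := s * n * s⁻¹ with hn'
  have hsNA : s ∈ normalizer (A : Set G) := centralizer_le_normalizer _ hP.cent
  have hn'N : n' ∈ normalizer (A : Set G) := mul_mem (mul_mem hsNA hn) (inv_mem hsNA)
  have hn'C : n' ∉ centralizer (A : Set G) := fun e => hnC (by
    have := mul_mem (mul_mem (inv_mem hP.cent) e) hP.cent
    rwa [hn', show s⁻¹ * (s * n * s⁻¹) * s = n by group] at this)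
  have hn'u : n' * (u * a) = u * a * n' := by
    rw [← hP.eq, hn']
    calc s * n * s⁻¹ * (s * u * s⁻¹) = s * (n * u) * s⁻¹ := by group
      _ = s * (u * n) * s⁻¹ := by rw [hnu]
      _ = _ := by group
  set R := T ⊓ centralizer ({n} : Set G) with hRdef
  have hR2 : R ⊓ centralizer ({n'} : Set G) = ⊥ := by
    refine Subgroup.eq_bot_of_card_eq _ ?_
    have hp : IsPGroup 2 ↥(R ⊓ centralizer ({n'} : Set G)) :=
      hR.isPGroup.to_le (inf_le_left.trans inf_le_left)
    obtain ⟨k, hk⟩ := IsPGroup.iff_card.1 hp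
    rcases Nat.eq_zero_or_pos k with rfl | hk0
    · simpa using hk
    exfalso
    obtain ⟨⟨r, ⟨hrT, hrn⟩, hrn'⟩, hr⟩ := exists_prime_orderOf_dvd_card' 2
      (G := ↥(R ⊓ centralizer ({n'} : Set G))) (hk ▸ dvd_pow_self 2 hk0.ne')
    rw [← Subgroup.orderOf_coe] at hr
    change orderOf r = 2 at hr
    have hr2 : r * r = 1 := by rw [← pow_two, ← hr, pow_orderOf_eq_one]
    have hnr : n * r = r * n := (mem_centralizer_singleton_iff.1 hrn).symm
    have hn'r : n' * r = r * n' := (mem_centralizer_singleton_iff.1 hrn').symm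
    have hrA : r ∉ A := fun e => by
      rw [eq_one_of_fixed h hn hnC e hnr, orderOf_one] at hr
      omega
    have hrb : Bad A r := hR.bad.of_mate h (hTA hrT) hrA hr2 (hR.comm r hrT)
      ⟨n, hn, hnC, hnu, hnr⟩
    exact hP.ne (hrb.mate_unique h hR.bad.isPGroup_zpowers hR.bad.cent (hR.comm r hrT).symm hP.mem
      ⟨n, hn, hnC, hnr, hnu⟩ ⟨n', hn'N, hn'C, hn'r, hn'u⟩)
  have hcom : ∀ {t c : G}, t ∈ T → c ∈ A → c * t = t * c := fun ht hc =>
    mem_centralizer_iff.1 (hTA ht) _ hc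
  have hdec' : ∀ t ∈ T, ∃ c ∈ A, n' * (t * c) = t * c * n' := by
    intro t ht
    have h1 : s⁻¹ * t * s ∈ T := by simpa using (mem_normalizer_iff.1 (inv_mem hP.norm) t).1 ht
    obtain ⟨c, hc, hce⟩ := hdec _ h1
    refine ⟨c, hc, ?_⟩
    have hsc : s * c * s⁻¹ = c :=
      mul_inv_eq_iff_eq_mul.2 (h.mem_centralizer_of_commute hP.cent hc)
    have e : t * c = s * (s⁻¹ * t * s * c) * s⁻¹ := by
      calc t * c = t * (s * c * s⁻¹) := by rw [hsc]
        _ = _ := by group
    rw [e, hn']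
    calc s * n * s⁻¹ * (s * (s⁻¹ * t * s * c) * s⁻¹) = s * (n * (s⁻¹ * t * s * c)) * s⁻¹ := by group
      _ = s * (s⁻¹ * t * s * c * n) * s⁻¹ := by rw [hce]
      _ = _ := by group
  choose c hc hce using fun r : ↥R => hdec' r r.2.1
  have hinj : Function.Injective fun r : ↥R => (⟨c r, hc r⟩ : ↥A) := by
    intro x y hxy
    have he : c x = c y := congrArg Subtype.val hxy
    have h1 : (x : G) * (y : G)⁻¹ ∈ R ⊓ centralizer ({n'} : Set G) := by
      refine ⟨R.mul_mem x.2 (R.inv_mem y.2), mem_centralizer_singleton_iff.2 ?_⟩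
      rw [show (x : G) * (y : G)⁻¹ = (x : G) * c x * ((y : G) * c y)⁻¹ by rw [he]; group]
      exact ((show Commute n' _ from hce x).mul_right (show Commute n' _ from hce y).inv_right).eq.symm
    rw [hR2, mem_bot] at h1
    exact Subtype.ext (mul_inv_eq_one.1 h1)
  have hR4 : Nat.card ↥R ≤ 4 := h.card ▸ Nat.card_le_card_of_injective _ hinj
  have hRsq : ∀ r ∈ R, r * r = 1 := by
    intro r hr
    have h1 : r * r ∈ R ⊓ centralizer ({n'} : Set G) := by
      refine ⟨mul_mem hr hr, mem_centralizer_singleton_iff.2 ?_⟩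
      have hd := hc ⟨r, hr⟩
      have e : r * r = r * c ⟨r, hr⟩ * (r * c ⟨r, hr⟩) := by
        calc r * r = r * r * (c ⟨r, hr⟩ * c ⟨r, hr⟩) := by rw [h.sq hd, mul_one]
          _ = r * (r * c ⟨r, hr⟩) * c ⟨r, hr⟩ := by group
          _ = r * (c ⟨r, hr⟩ * r) * c ⟨r, hr⟩ := by rw [hcom hr.1 hd]
          _ = _ := by group
      rw [e]
      exact ((show Commute n' _ from hce ⟨r, hr⟩).mul_right (hce ⟨r, hr⟩)).eq.symm
    rwa [hR2, mem_bot] at h1
  refine ⟨?_, fun t ht => ?_⟩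
  swap
  · obtain ⟨d, hd, htd⟩ := hdec t ht
    have h1 := hRsq (t * d) ⟨mul_mem ht (hR.le hd), mem_centralizer_singleton_iff.2 htd.symm⟩
    calc t * t = t * (t * d) * d := by rw [← mul_assoc t t d, mul_assoc, h.sq hd, mul_one]
      _ = t * (d * t) * d := by rw [hcom ht hd]
      _ = 1 := by rw [← h1]; group
  have huR : u ∈ R := ⟨hR.mem h, mem_centralizer_singleton_iff.2 hnu.symm⟩
  obtain ⟨r₀, hr₀, hr02, hr0A, hr0u⟩ := hR.second
  obtain ⟨d, hd, hrd⟩ := hdec r₀ hr₀
  have hrR : r₀ * d ∈ R := ⟨mul_mem hr₀ (hR.le hd), mem_centralizer_singleton_iff.2 hrd.symm⟩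
  have hR4' : 4 ≤ Nat.card ↥R := by
    have hne1 : r₀ * d ≠ 1 := fun e => hr0A (eq_inv_of_mul_eq_one_left e ▸ inv_mem hd)
    have hneu : r₀ * d ≠ u := fun e => hr0u (by
      rw [← e, ← mul_assoc, hr02, one_mul]; exact hd)
    have hru1 : r₀ * d * u ≠ 1 := fun e => hneu (by
      rw [eq_inv_of_mul_eq_one_left e, inv_eq_of_mul_eq_one_right hR.bad.sq])
    have hsub : ({1, u, r₀ * d, r₀ * d * u} : Set G) ⊆ R := by
      rintro y (rfl | rfl | rfl | rfl)
      exacts [one_mem _, huR, hrR, mul_mem hrR huR]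
    have h1 := Set.ncard_le_ncard hsub
    rw [← Nat.card_coe_set_eq (R : Set G),
      Set.ncard_insert_of_notMem (by simp [Ne.symm hR.bad.ne_one, Ne.symm hne1, Ne.symm hru1]),
      Set.ncard_insert_of_notMem (by
        simp only [Set.mem_insert_iff, Set.mem_singleton_iff, not_or]
        exact ⟨Ne.symm hneu, fun e => hne1 (mul_eq_right.1 e.symm)⟩),
      Set.ncard_insert_of_notMem (by
        simp only [Set.mem_singleton_iff]
        exact fun e => hR.bad.ne_one (mul_eq_left.1 e.symm)), Set.ncard_singleton] at h1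
    exact h1
  let e : ↥R × ↥A → ↥T := fun p => ⟨p.1 * p.2, mul_mem p.1.2.1 (hR.le p.2.2)⟩
  have he : Function.Bijective e := by
    refine ⟨fun p q hpq => ?_, fun t => ?_⟩
    · have h1 : (p.1 : G) * p.2 = q.1 * q.2 := congrArg Subtype.val hpq
      have h2 : (q.1 : G)⁻¹ * p.1 = q.2 * (p.2 : G)⁻¹ := by
        calc (q.1 : G)⁻¹ * p.1 = (q.1 : G)⁻¹ * ((p.1 : G) * p.2) * (p.2 : G)⁻¹ := by group
          _ = _ := by rw [h1]; group
      have hm : (q.1 : G)⁻¹ * p.1 ∈ A := h2 ▸ mul_mem q.2.2 (inv_mem p.2.2)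
      have h3 := eq_one_of_fixed h hn hnC hm
        (mem_centralizer_singleton_iff.1 (mul_mem (inv_mem q.1.2) p.1.2).2).symm
      have h4 : q.1 = p.1 := Subtype.ext (inv_mul_eq_one.1 h3)
      exact Prod.ext h4.symm (Subtype.ext (mul_left_cancel (h4 ▸ h1)))
    · obtain ⟨d, hd, htd⟩ := hdec t t.2
      refine ⟨(⟨t * d, mul_mem t.2 (hR.le hd), mem_centralizer_singleton_iff.2 htd.symm⟩, ⟨d, hd⟩),
        Subtype.ext ?_⟩
      show (t : G) * d * d = t
      rw [mul_assoc, h.sq hd, mul_one]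
  rw [← Nat.card_congr (Equiv.ofBijective e he), Nat.card_prod, h.card,
    le_antisymm hR4 hR4']

/-- For a largest pair every bad element of `T` outside `A` has `T` as Sylow subgroup. -/
theorem IsMax.rich_of_bad (hM : IsMax A u T) {x : G} (hx : x ∈ T) (hxb : Bad A x) : Rich A x T := by
  obtain ⟨w, s, a, hP⟩ := exists_pivot h hM
  obtain ⟨hcard, hsq⟩ := hP.card_sq h
  have hcomm : ∀ t ∈ T, t * x = x * t := fun t ht =>
    Walter.Known.comm_of_exp_two hsq t ht x hx
  obtain ⟨W, hTW, hW, hWc, hWmax⟩ := exists_maximal_comm (u := x) hM.rich.isPGroup hcomm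
  obtain ⟨r, hr, hrA, hrx⟩ : ∃ r ∈ T, r ∉ A ∧ r * x ∉ A := by
    by_contra hcon
    push Not at hcon
    classical
    let f : ↥T → Bool × ↥A := fun t => if ht : (t : G) ∈ A then (true, ⟨t, ht⟩)
      else (false, ⟨t * x, hcon t t.2 ht⟩)
    have hf : Function.Injective f := by
      intro s t hst
      by_cases hs : (s : G) ∈ A <;> by_cases ht : (t : G) ∈ A <;> simp [f, hs, ht] at hst
      · exact hst
      · exact hst
    have := Nat.card_le_card_of_injective f hf
    rw [Nat.card_prod, h.card, hcard, show Nat.card Bool = 2 by simp] at this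
    omega
  have hWr : Rich A x W := ⟨hxb, hM.rich.le.trans hTW, hW, hWc, hWmax, r, hTW hr, hsq r hr, hrA, hrx⟩
  exact (Subgroup.eq_of_le_of_card_ge hTW (hM.max x W hWr)) ▸ hWr

/-- An element moving `A` and its square move an element of `A` to all others. -/
theorem rot_cases {n : G} (hn : n ∈ normalizer (A : Set G)) (hnC : n ∉ centralizer (A : Set G))
    {a b : G} (ha : a ∈ A) (ha1 : a ≠ 1) (hb : b ∈ A) (hb1 : b ≠ 1) :
    ∃ i : ℕ, n ^ i * a * (n ^ i)⁻¹ = b := by
  have hca : n * a * n⁻¹ ≠ a := fun e => ha1 (eq_one_of_fixed h hn hnC ha (mul_inv_eq_iff_eq_mul.1 e))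
  have ha' := h.conj_mem hn ha
  have ha'1 : n * a * n⁻¹ ≠ 1 := fun e => ha1 (conj_eq_one_iff.1 e)
  have ha'' := h.conj_mem hn ha'
  have ha''1 : n * (n * a * n⁻¹) * n⁻¹ ≠ 1 := fun e => ha'1 (conj_eq_one_iff.1 e)
  have h3 : n * (n * a * n⁻¹) * n⁻¹ = a * (n * a * n⁻¹) := by
    rcases h.cases ha ha1 ha' ha'1 (Ne.symm hca) ha'' with e | e | e | e
    · exact absurd e ha''1
    · exfalso
      have h1 : n * (a * (n * a * n⁻¹)) * n⁻¹ = a * (n * a * n⁻¹) := by
        calc n * (a * (n * a * n⁻¹)) * n⁻¹ = (n * a * n⁻¹) * (n * (n * a * n⁻¹) * n⁻¹) := by group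
          _ = (n * a * n⁻¹) * a := by rw [e]
          _ = _ := h.comm ha' ha
      have h2 := eq_one_of_fixed h hn hnC (mul_mem ha ha') (mul_inv_eq_iff_eq_mul.1 h1)
      exact hca ((eq_inv_of_mul_eq_one_right h2).trans (h.inv_eq ha))
    · exact absurd (mul_left_cancel (mul_right_cancel e)) hca
    · exact e
  rcases h.cases ha ha1 ha' ha'1 (Ne.symm hca) hb with rfl | rfl | rfl | rfl
  · exact absurd rfl hb1
  · exact ⟨0, by simp⟩
  · exact ⟨1, by simp⟩
  · refine ⟨2, ?_⟩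
    rw [← h3, pow_two]
    group

/-- A largest pair gives a block. -/
theorem IsMax.block (hM : IsMax A u T) : Block A T := by
  haveI : Fact (Nat.Prime 2) := ⟨Nat.prime_two⟩
  obtain ⟨w, s, a, hP⟩ := exists_pivot h hM
  obtain ⟨hcard, hsq⟩ := hP.card_sq h
  have hR := hP.isMax.rich
  have hTA := hR.le_cent h
  have hab : ∀ x ∈ T, ∀ y ∈ T, x * y = y * x := Walter.Known.comm_of_exp_two hsq
  obtain ⟨n, hn, hnC, hnw, -, hdec⟩ := hR.bad.exists_rot h hR.isPGroup hR.le hR.comm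
  have hsA : ∀ {c : G}, c ∈ A → s * c * s⁻¹ = c := fun hc =>
    mul_inv_eq_iff_eq_mul.2 (h.mem_centralizer_of_commute hP.cent hc)
  -- the complement
  have hbad : ∀ r ∈ T, n * r = r * n → r ∉ A → ∀ b ∈ A, Bad A (r * b) := by
    intro r hr hnr hrA b hb
    have hrb : Bad A r := hR.bad.of_mate h (hTA hr) hrA (hsq r hr) (hR.comm r hr)
      ⟨n, hn, hnC, hnw, hnr⟩
    obtain ⟨d, hd, hd1, hsd⟩ : ∃ d ∈ A, d ≠ 1 ∧ s * r * s⁻¹ = r * d := by
      by_cases hrw : r = w
      · exact ⟨a, hP.mem, hP.ne, hrw ▸ hP.eq⟩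
      have hy : s * r * s⁻¹ ∈ T := (mem_normalizer_iff.1 hP.norm r).1 hr
      -- the class of `s r s⁻¹` modulo `A`
      obtain ⟨e, he, hne⟩ := hdec _ hy
      set r' := s * r * s⁻¹ * e with hr'
      have hr'A : r' ∉ A := fun hm => hrA (by
        have h1 : s * r * s⁻¹ ∈ A := by
          have := mul_mem hm he
          rwa [hr', mul_assoc, h.sq he, mul_one] at this
        have h2 := hsA h1
        rwa [show s * r * s⁻¹ = r from (MulAut.conj s).injective (show s * (s * r * s⁻¹) * s⁻¹ = s * r * s⁻¹ from h2)] at h1)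
      have hr'T : r' ∈ T := mul_mem hy (hR.le he)
      have hsr : s * r * s⁻¹ = r' * e := by rw [hr', mul_assoc _ e e, h.sq he, mul_one]
      have h4 : r' = w ∨ r' = r ∨ r' = r * w := by
        have hkey : ∀ {p : G}, p ∈ T → n * p = p * n → r' * p ∈ A → r' = p := by
          intro p hp hnp hpA
          have h1 := eq_one_of_fixed h hn hnC hpA ((show Commute n r' from hne).mul_right hnp).eq
          rw [eq_inv_of_mul_eq_one_left h1, inv_eq_of_mul_eq_one_right (hsq p hp)]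
        have hrw' : r * w ∉ A := fun e' => hrw (by
          have h1 := eq_one_of_fixed h hn hnC e' ((show Commute n r from hnr).mul_right hnw).eq
          rw [eq_inv_of_mul_eq_one_left h1, inv_eq_of_mul_eq_one_right hR.bad.sq])
        rcases coset_cases hcard hsq hR.le h.card (hR.mem h) hr hr'T hR.bad.notMem hrA hrw' with
          e' | e' | e' | e'
        · exact absurd e' hr'A
        · exact Or.inl (hkey (hR.mem h) hnw e')
        · exact Or.inr (Or.inl (hkey hr hnr e'))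
        · exact Or.inr (Or.inr (hkey (mul_mem hr (hR.mem h))
            ((show Commute n r from hnr).mul_right hnw).eq e'))
      rcases h4 with e' | e' | e'
      · exfalso
        rw [e'] at hsr
        have h1 : r = w * (a * e) := by
          refine (MulAut.conj s).injective ?_
          show s * r * s⁻¹ = s * (w * (a * e)) * s⁻¹
          rw [hsr, show s * (w * (a * e)) * s⁻¹ = (s * w * s⁻¹) * (s * (a * e) * s⁻¹) by group, hP.eq,
            hsA (mul_mem hP.mem he), mul_assoc w a, ← mul_assoc a a, h.sq hP.mem, one_mul]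
        refine hrw ?_
        have h2 := eq_one_of_fixed h hn hnC (mul_mem hP.mem he) (by
          have h3 := ((show Commute n w from hnw).inv_right.mul_right (show Commute n r from hnr)).eq
          rwa [h1, inv_mul_cancel_left] at h3)
        rw [h1, h2, mul_one]
      · refine ⟨e, he, fun h1 => ?_, e' ▸ hsr⟩
        have hrT := (hP.isMax.rich_of_bad h hr hrb).mem_of_comm h hP.two hP.norm
          (mul_inv_eq_iff_eq_mul.1 (by rw [hsr, e', h1, mul_one]))
        exact hP.ne (by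
          have := hP.eq
          rw [hR.comm s hrT, mul_inv_cancel_right] at this
          exact mul_eq_left.1 this.symm)
      · exfalso
        rw [e'] at hsr
        have h2w : s * s * w * (s * s)⁻¹ = w := by
          calc s * s * w * (s * s)⁻¹ = s * (s * w * s⁻¹) * s⁻¹ := by group
            _ = s * (w * a) * s⁻¹ := by rw [hP.eq]
            _ = (s * w * s⁻¹) * (s * a * s⁻¹) := by group
            _ = w := by rw [hP.eq, hsA hP.mem, mul_assoc, h.sq hP.mem, mul_one]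
        have hssT : s * s ∈ T := hR.mem_of_comm h
          (hP.two.to_le (zpowers_le.2 (mul_mem (mem_zpowers s) (mem_zpowers s))))
          (mul_mem hP.norm hP.norm) (mul_inv_eq_iff_eq_mul.1 h2w)
        have h2r : s * s * r * (s * s)⁻¹ = r * a := by
          calc s * s * r * (s * s)⁻¹ = s * (s * r * s⁻¹) * s⁻¹ := by group
            _ = s * (r * w * e) * s⁻¹ := by rw [hsr]
            _ = (s * r * s⁻¹) * (s * w * s⁻¹) * (s * e * s⁻¹) := by group
            _ = r * w * e * (w * a) * e := by rw [hsr, hP.eq, hsA he]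
            _ = r * (w * (e * w)) * (a * e) := by group
            _ = r * (w * (w * e)) * (a * e) := by rw [← hab _ (hR.mem h) e (hR.le he)]
            _ = r * a := by
              rw [← mul_assoc w w, hR.bad.sq, one_mul, h.comm hP.mem he, ← mul_assoc, mul_assoc r e e,
                h.sq he, mul_one]
        rw [hab _ hssT r hr, mul_inv_cancel_right] at h2r
        exact hP.ne (mul_eq_left.1 h2r.symm)
    -- the other translates by rotation
    by_cases hb1 : b = 1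
    · rw [hb1, mul_one]; exact hrb
    obtain ⟨i, hi⟩ := rot_cases h hn hnC hd hd1 hb hb1
    have hb' := (hrb.conj h (centralizer_le_normalizer _ hP.cent)).conj h (pow_mem hn i)
    rw [hsd, show n ^ i * (r * d) * (n ^ i)⁻¹ = (n ^ i * r * (n ^ i)⁻¹) * (n ^ i * d * (n ^ i)⁻¹) by
      group, hi, mul_inv_eq_iff_eq_mul.2 ((show Commute n r from hnr).pow_left i).eq] at hb'
    exact hb'
  have hbadT : ∀ x ∈ T, x ∉ A → Bad A x := by
    intro x hx hxA
    obtain ⟨c, hc, hxc⟩ := hdec x hx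
    have h1 := hbad (x * c) (mul_mem hx (hR.le hc)) hxc (fun e => hxA (by
      have := mul_mem e hc
      rwa [mul_assoc, h.sq hc, mul_one] at this)) c hc
    rwa [mul_assoc, h.sq hc, mul_one] at h1
  refine ⟨hR.le, hTA, hcard, hsq, hbadT, fun x hx hxA =>
    (hP.isMax.rich_of_bad h hx (hbadT x hx hxA)).maximal, fun x hx hxA c hc hc1 d hd hd1 => ?_⟩
  obtain ⟨m, hm, hmC, hmx, hmT, -⟩ :=
    (hbadT x hx hxA).exists_rot h hR.isPGroup hR.le fun t ht => hab t ht x hx
  obtain ⟨i, hi⟩ := rot_cases h hm hmC hc hc1 hd hd1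
  exact ⟨m ^ i, pow_mem hm i, pow_mem hmT i, ((show Commute m x from hmx).pow_left i).eq, hi⟩

omit h in
theorem Block.comm (hB : Block A T) : ∀ x ∈ T, ∀ y ∈ T, x * y = y * x :=
  Walter.Known.comm_of_exp_two hB.sq

omit h in
theorem Block.isPGroup (hB : Block A T) : IsPGroup 2 ↥T :=
  IsPGroup.of_card (n := 4) (hB.card.trans (by norm_num))

/-- A 2-element fixing an element outside `A` lies in `T`. -/
theorem Block.fix (hB : Block A T) {g x : G} (hg : IsPGroup 2 ↥(zpowers g))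
    (hgN : g ∈ normalizer (T : Set G)) (hx : x ∈ T) (hxA : x ∉ A) (hgx : g * x = x * g) : g ∈ T := by
  have h1 := hB.maximal x hx hxA _ (isPGroup_sup_zpowers hB.isPGroup hg hgN) le_sup_left
    (fun t ht => mem_centralizer_singleton_iff.1
      ((sup_le (fun y hy => mem_centralizer_singleton_iff.2 (hB.comm y hy x hx))
        (zpowers_le.2 (mem_centralizer_singleton_iff.2 hgx)) :
          T ⊔ zpowers g ≤ centralizer ({x} : Set G)) ht))
  exact h1.le (mem_sup_right (mem_zpowers g))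

/-- 2-elements act on a block by translations. -/
theorem Block.translates (hB : Block A T) {g : G} (hg : IsPGroup 2 ↥(zpowers g))
    (hgN : g ∈ normalizer (T : Set G)) (hgA : g ∈ centralizer (A : Set G)) {x : G} (hx : x ∈ T) :
    g * x * g⁻¹ * x⁻¹ ∈ A := by
  haveI : Fact (Nat.Prime 2) := ⟨Nat.prime_two⟩
  by_contra hne
  have hconjA : ∀ {c : G}, c ∈ A → g * c * g⁻¹ = c := fun hc =>
    mul_inv_eq_iff_eq_mul.2 (h.mem_centralizer_of_commute hgA hc)
  have hxA : x ∉ A := fun e => hne (by rw [hconjA e, mul_inv_cancel]; exact one_mem A)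
  have hxi : x⁻¹ = x := inv_eq_of_mul_eq_one_right (hB.sq x hx)
  have hy : g * x * g⁻¹ ∈ T := (mem_normalizer_iff.1 hgN x).1 hx
  set y := g * x * g⁻¹ with hydef
  rw [hxi] at hne
  have hyA : y ∉ A := fun e => hxA (by
    have h2 := hconjA e
    rwa [show y = x from (MulAut.conj g).injective (show g * y * g⁻¹ = g * x * g⁻¹ from h2)] at e)
  set z := g * y * g⁻¹ with hzdef
  have hz : z ∈ T := (mem_normalizer_iff.1 hgN y).1 hy
  have hzy : z * y ∉ A := fun e => hne (by
    have h1 : g * (y * x) * g⁻¹ ∈ A := by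
      rw [show g * (y * x) * g⁻¹ = z * y by rw [hzdef, hydef]; group]; exact e
    have h2 := hconjA h1
    rwa [show g * (y * x) * g⁻¹ = y * x from (MulAut.conj g).injective
      (show g * (g * (y * x) * g⁻¹) * g⁻¹ = g * (y * x) * g⁻¹ from h2)] at h1)
  have hzA : z ∉ A := fun e => hyA (by
    have h2 := hconjA e
    rwa [show z = y from (MulAut.conj g).injective (show g * z * g⁻¹ = g * y * g⁻¹ from h2)] at e)
  -- `z` is `x` or `x y` modulo `A`
  have hzcase : z * x ∈ A ∨ z * (y * x) ∈ A := by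
    rcases coset_cases hB.card hB.sq hB.le h.card hx hy hz hxA hyA hne with e | e | e | e
    · exact absurd e hzA
    · exact Or.inl e
    · exact absurd e hzy
    · exact Or.inr e
  rcases hzcase with e | e
  · -- a transposition: `g` fixes the third coset
    set w := y * x with hw
    have hwT : w ∈ T := mul_mem hy hx
    set c := z * x with hc
    have hgw : g * w * g⁻¹ = w * c := by
      calc g * w * g⁻¹ = z * y := by rw [hw, hzdef, hydef]; group
        _ = y * (x * x) * z := by rw [hB.sq x hx, mul_one, hB.comm z hz y hy]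
        _ = y * x * (x * z) := by group
        _ = w * c := by rw [hB.comm x hx z hz]
    have hc1 : c ≠ 1 := fun h1 => hne (by
      have hgT := hB.fix h hg hgN hwT hne (mul_inv_eq_iff_eq_mul.1 (by rw [hgw, h1, mul_one]))
      rw [hw, hydef, hB.comm g hgT x hx, mul_inv_cancel_right, hB.sq x hx]
      exact one_mem A)
    have h2w : g * g * w * (g * g)⁻¹ = w := by
      calc g * g * w * (g * g)⁻¹ = g * (g * w * g⁻¹) * g⁻¹ := by group
        _ = g * (w * c) * g⁻¹ := by rw [hgw]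
        _ = (g * w * g⁻¹) * (g * c * g⁻¹) := by group
        _ = w := by rw [hgw, hconjA e, mul_assoc, h.sq e, mul_one]
    have hggT := hB.fix h (hg.to_le (zpowers_le.2 (mul_mem (mem_zpowers g) (mem_zpowers g))))
      (mul_mem hgN hgN) hwT hne (mul_inv_eq_iff_eq_mul.1 h2w)
    refine hc1 ?_
    have hzx : z = x := by
      rw [hzdef, hydef, show g * (g * x * g⁻¹) * g⁻¹ = g * g * x * (g * g)⁻¹ by group,
        hB.comm _ hggT x hx, mul_inv_cancel_right]
    rw [hc, hzx, hB.sq x hx]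
  · -- three cosets: `g³` fixes one
    let M : Subgroup G :=
      { carrier := {k | k ∈ normalizer (T : Set G) ∧ k ∈ centralizer (A : Set G) ∧
          k * x * k⁻¹ * x⁻¹ ∈ A}
        one_mem' := ⟨one_mem _, one_mem _, by simp [one_mem]⟩
        mul_mem' := fun {k l} hk hl => ⟨mul_mem hk.1 hl.1, mul_mem hk.2.1 hl.2.1, by
          have e1 : k * l * x * (k * l)⁻¹ * x⁻¹ =
              k * (l * x * l⁻¹ * x⁻¹) * k⁻¹ * (k * x * k⁻¹ * x⁻¹) := by group
          rw [e1, mul_inv_eq_iff_eq_mul.2 (h.mem_centralizer_of_commute hk.2.1 hl.2.2)]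
          exact mul_mem hl.2.2 hk.2.2⟩
        inv_mem' := fun {k} hk => ⟨inv_mem hk.1, inv_mem hk.2.1, by
          have e1 : k⁻¹ * x * k⁻¹⁻¹ * x⁻¹ = k⁻¹ * (k * x * k⁻¹ * x⁻¹)⁻¹ * k := by group
          rw [e1, mul_assoc, ← h.mem_centralizer_of_commute hk.2.1 (inv_mem hk.2.2),
            inv_mul_cancel_left]
          exact inv_mem hk.2.2⟩ }
    have hd : g * (z * (y * x)) * g⁻¹ = z * (y * x) := hconjA e
    have h3 : g ^ 3 ∈ M := by
      refine ⟨pow_mem hgN 3, pow_mem hgA 3, ?_⟩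
      have hz' : g * z * g⁻¹ ∈ T := (mem_normalizer_iff.1 hgN z).1 hz
      have e3 : g * (z * (y * x)) * g⁻¹ = g * z * g⁻¹ * (z * y) := by rw [hzdef, hydef]; group
      rw [e3] at hd
      have e4 : g * z * g⁻¹ = x := by
        have h5 : g * z * g⁻¹ = z * (y * x) * (z * y) := by
          rw [← hd, mul_assoc _ (z * y) (z * y), hB.sq (z * y) (mul_mem hz hy), mul_one]
        rw [h5, hB.comm z hz (y * x) (mul_mem hy hx), mul_assoc, ← mul_assoc z z, hB.sq z hz,
          one_mul, hB.comm y hy x hx, mul_assoc, hB.sq y hy, mul_one]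
      rw [show g ^ 3 * x * (g ^ 3)⁻¹ = g * z * g⁻¹ by
        rw [hzdef, hydef, pow_succ, pow_succ, pow_one]; group, e4, mul_inv_cancel]
      exact one_mem A
    have hgM : g ∈ M := by
      obtain ⟨i, hi⟩ := IsPGroup.iff_orderOf.1 hg ⟨g, mem_zpowers g⟩
      rw [Subgroup.orderOf_mk] at hi
      have hcop : (3 : ℕ).Coprime (orderOf g) := by
        rw [hi]; exact (show (3 : ℕ).Coprime 2 by norm_num).pow_right i
      have hmem : g ∈ zpowers (g ^ 3) := by
        obtain ⟨j, hj⟩ := exists_pow_eq_self_of_coprime hcop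
        exact ⟨(j : ℤ), by simpa [zpow_natCast] using hj⟩
      exact zpowers_le.2 h3 hmem
    exact hne (by have := hgM.2.2; rwa [hxi] at this)

/-- The translations of a largest pair's block. -/
theorem IsMax.exists_tGroup (hM : IsMax A u T) : ∃ P, TGroup A T P := by
  haveI : Fact (Nat.Prime 2) := ⟨Nat.prime_two⟩
  have hB := hM.block h
  obtain ⟨w, s, a, hP⟩ := exists_pivot h hM
  have hR := hP.isMax.rich
  have hwT := hR.mem h
  have hwA := hR.bad.notMem
  let M₀ : Subgroup G :=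
    { carrier := {k | k ∈ normalizer (T : Set G) ∧ k ∈ centralizer (A : Set G) ∧
        ∀ x ∈ T, k * x * k⁻¹ * x⁻¹ ∈ A}
      one_mem' := ⟨one_mem _, one_mem _, fun x _ => by simp [one_mem]⟩
      mul_mem' := fun {k l} hk hl => ⟨mul_mem hk.1 hl.1, mul_mem hk.2.1 hl.2.1, fun x hx => by
        have e1 : k * l * x * (k * l)⁻¹ * x⁻¹ =
            k * (l * x * l⁻¹ * x⁻¹) * k⁻¹ * (k * x * k⁻¹ * x⁻¹) := by group
        rw [e1, mul_inv_eq_iff_eq_mul.2 (h.mem_centralizer_of_commute hk.2.1 (hl.2.2 x hx))]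
        exact mul_mem (hl.2.2 x hx) (hk.2.2 x hx)⟩
      inv_mem' := fun {k} hk => ⟨inv_mem hk.1, inv_mem hk.2.1, fun x hx => by
        have e1 : k⁻¹ * x * k⁻¹⁻¹ * x⁻¹ = k⁻¹ * (k * x * k⁻¹ * x⁻¹)⁻¹ * k := by group
        rw [e1, mul_assoc, ← h.mem_centralizer_of_commute hk.2.1 (inv_mem (hk.2.2 x hx)),
          inv_mul_cancel_left]
        exact inv_mem (hk.2.2 x hx)⟩ }
  have hval : ∀ x ∈ T, ∃ f : ↥M₀ →* ↥A, ∀ k : ↥M₀, ((f k : ↥A) : G) = k * x * (k : G)⁻¹ * x⁻¹ := by
    intro x hx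
    refine ⟨{ toFun := fun k => ⟨_, k.2.2.2 x hx⟩, map_one' := Subtype.ext (by simp),
              map_mul' := fun k l => Subtype.ext ?_ }, fun k => rfl⟩
    show (k : G) * l * x * ((k : G) * l)⁻¹ * x⁻¹ = k * x * (k : G)⁻¹ * x⁻¹ * (l * x * (l : G)⁻¹ * x⁻¹)
    have e1 : (k : G) * l * x * ((k : G) * l)⁻¹ * x⁻¹ =
        k * (l * x * (l : G)⁻¹ * x⁻¹) * (k : G)⁻¹ * (k * x * (k : G)⁻¹ * x⁻¹) := by group
    rw [e1, mul_inv_eq_iff_eq_mul.2 (h.mem_centralizer_of_commute k.2.2.1 (l.2.2.2 x hx)),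
      h.comm (k.2.2.2 x hx) (l.2.2.2 x hx)]
  obtain ⟨f, hf⟩ := hval w hwT
  have hsM : s ∈ M₀ := ⟨hP.norm, hP.cent, fun x hx => hB.translates h hP.two hP.norm hP.cent hx⟩
  obtain ⟨n, hn, hnC, hnw, hnT, -⟩ := hR.bad.exists_rot h hR.isPGroup hR.le hR.comm
  have hnsp : IsPGroup 2 ↥(zpowers (n * s * n⁻¹)) := by
    have := hP.two.map (MulAut.conj n).toMonoidHom
    rwa [MonoidHom.map_zpowers] at this
  have hnsN : n * s * n⁻¹ ∈ normalizer (T : Set G) := mul_mem (mul_mem hnT hP.norm) (inv_mem hnT)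
  have hnsA : n * s * n⁻¹ ∈ centralizer (A : Set G) :=
    normalizer_le_normalizer_centralizer h hn hP.cent
  have hnsM : n * s * n⁻¹ ∈ M₀ :=
    ⟨hnsN, hnsA, fun x hx => hB.translates h hnsp hnsN hnsA hx⟩
  have hfs : ((f ⟨s, hsM⟩ : ↥A) : G) = a := by
    rw [hf, hP.eq, mul_assoc w a, ← h.mem_centralizer_of_commute (inv_mem hR.bad.cent) hP.mem,
      mul_inv_cancel_left]
  have hfns : ((f ⟨_, hnsM⟩ : ↥A) : G) = n * a * n⁻¹ := by
    rw [← hfs, hf, hf]
    have e : n⁻¹ * w * n = w := by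
      rw [mul_assoc, ← hnw, inv_mul_cancel_left]
    calc n * s * n⁻¹ * w * (n * s * n⁻¹)⁻¹ * w⁻¹
        = n * s * (n⁻¹ * w * n) * s⁻¹ * (n⁻¹ * w * n)⁻¹ * n⁻¹ := by group
      _ = _ := by rw [e]; group
  have hftop : f.range = ⊤ := by
    refine eq_top_iff.2 fun c _ => ?_
    have hna := h.conj_mem hn hP.mem
    have hna1 : n * a * n⁻¹ ≠ 1 := fun e => hP.ne (conj_eq_one_iff.1 e)
    have hne : a ≠ n * a * n⁻¹ := fun e =>
      hP.ne (eq_one_of_fixed h hn hnC hP.mem (mul_inv_eq_iff_eq_mul.1 e.symm))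
    rcases h.cases hP.mem hP.ne hna hna1 hne c.2 with e | e | e | e
    · exact ⟨1, Subtype.ext (by rw [map_one, e]; rfl)⟩
    · exact ⟨_, Subtype.ext (hfs.trans e.symm)⟩
    · exact ⟨_, Subtype.ext (hfns.trans e.symm)⟩
    · exact ⟨⟨s, hsM⟩ * ⟨_, hnsM⟩, Subtype.ext (by rw [map_mul, Subgroup.coe_mul, hfs, hfns, e])⟩
  obtain ⟨Q⟩ : Nonempty (Sylow 2 ↥M₀) := inferInstance
  set P := (Q : Subgroup ↥M₀).map M₀.subtype with hPdef
  have hPM : P ≤ M₀ := map_subtype_le _
  have hPp : IsPGroup 2 ↥P := Q.2.map _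
  have hTM : T ≤ M₀ := fun t ht => ⟨le_normalizer ht, hB.cent ht, fun x hx => by
    rw [hB.comm t ht x hx, mul_inv_cancel_right, mul_inv_cancel]; exact one_mem A⟩
  have hTP : T ≤ P := by
    haveI : (T.subgroupOf M₀).Normal :=
      normal_subgroupOf_of_le_normalizer fun k hk => hk.1
    intro t ht
    exact ⟨⟨t, hTM ht⟩, (IsPGroup.le_sylow_of_normal
      (hB.isPGroup.of_equiv (subgroupOfEquivOfLe hTM).symm) Q) (mem_subgroupOf.2 ht), rfl⟩
  have hfix : ∀ g ∈ P, ∀ x ∈ T, x ∉ A → g * x = x * g → g ∈ T := fun g hg x hx hxA hgx =>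
    hB.fix h (hPp.to_le (zpowers_le.2 hg)) (hPM hg).1 hx hxA hgx
  -- each evaluation maps `P` with kernel `T`
  have hev : ∀ x ∈ T, x ∉ A → ∀ f : ↥M₀ →* ↥A, (∀ k : ↥M₀, ((f k : ↥A) : G) = k * x * (k : G)⁻¹ * x⁻¹) →
      Nat.card ↥P = Nat.card ↥((Q : Subgroup ↥M₀).map f) * 16 := by
    intro x hx hxA f hf
    have hk : ((Q : Subgroup ↥M₀) ⊓ f.ker).map M₀.subtype = T := by
      refine le_antisymm ?_ fun t ht => ?_
      · rintro _ ⟨k, ⟨hk, hk'⟩, rfl⟩
        refine hfix _ (mem_map_of_mem _ hk) x hx hxA ?_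
        have h1 : (k : G) * x * (k : G)⁻¹ * x⁻¹ = 1 := by
          rw [← hf, MonoidHom.mem_ker.1 hk']; rfl
        exact mul_inv_eq_iff_eq_mul.1 (mul_inv_eq_one.1 h1)
      · obtain ⟨k, hk, rfl⟩ := hTP ht
        refine ⟨k, ⟨hk, MonoidHom.mem_ker.2 (Subtype.ext ?_)⟩, rfl⟩
        rw [hf, show M₀.subtype k = (k : G) from rfl] at *
        rw [hB.comm _ ht x hx, mul_inv_cancel_right, mul_inv_cancel]
        rfl
    set g := f.comp (Q : Subgroup ↥M₀).subtype with hg
    have h1 := Subgroup.card_mul_index g.ker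
    rw [Subgroup.index_ker, MonoidHom.range_comp, range_subtype] at h1
    have hker : g.ker.map (Q : Subgroup ↥M₀).subtype = (Q : Subgroup ↥M₀) ⊓ f.ker := by
      ext k
      constructor
      · rintro ⟨k', hk', rfl⟩
        exact ⟨k'.2, hk'⟩
      · rintro ⟨h2, h3⟩
        exact ⟨⟨k, h2⟩, h3, rfl⟩
    have hkc : Nat.card ↥g.ker = 16 := by
      rw [← hB.card, ← hk, card_map_of_injective M₀.subtype_injective, ← hker,
        card_map_of_injective (Q : Subgroup ↥M₀).subtype_injective]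
    rw [hkc] at h1
    rw [hPdef, card_map_of_injective M₀.subtype_injective, ← h1, mul_comm]
  have hcardP : Nat.card ↥P = 64 := by
    have hfsurj : Function.Surjective f := MonoidHom.range_eq_top.1 hftop
    have htop : (Q : Subgroup ↥M₀).map f = ⊤ := by
      refine index_eq_one.1 ?_
      have h1 : ((Q : Subgroup ↥M₀).map f).index ∣ Nat.card ↥A := Subgroup.index_dvd_card _
      have h2 : ¬ 2 ∣ ((Q : Subgroup ↥M₀).map f).index := fun h2 =>
        Q.not_dvd_index (h2.trans (index_map_dvd _ hfsurj))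
      rw [h.card, show (4 : ℕ) = 2 ^ 2 by norm_num, Nat.dvd_prime_pow Nat.prime_two] at h1
      obtain ⟨i, -, hi⟩ := h1
      rcases i with _ | i
      · exact hi
      · exact absurd (hi ▸ dvd_pow_self 2 i.succ_ne_zero) h2
    rw [hev w hwT hwA f hf, htop, card_top, h.card]
  have hsurj : ∀ x ∈ T, x ∉ A → ∀ c ∈ A, ∃ g ∈ P, g * x * g⁻¹ = x * c := by
    intro x hx hxA c hc
    obtain ⟨fx, hfx⟩ := hval x hx
    have h1 := hev x hx hxA fx hfx
    rw [hcardP] at h1
    have htop : (Q : Subgroup ↥M₀).map fx = ⊤ := eq_top_of_card_eq _ (by rw [h.card]; omega)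
    obtain ⟨k, hk, hkc⟩ := htop.ge (mem_top (⟨c, hc⟩ : ↥A))
    refine ⟨k, mem_map_of_mem _ hk, ?_⟩
    have h2 : (k : G) * x * (k : G)⁻¹ * x⁻¹ = c := by rw [← hfx, hkc]
    rw [← h.mem_centralizer_of_commute (hB.cent hx) hc |>.symm, ← h2]
    group
  refine ⟨P, hTP, hPp, fun g hg => (hPM hg).1, fun g hg => (hPM hg).2.1, hcardP,
    fun g hg => (hPM hg).2.2, hfix, hsurj, fun U hU hUN hUA => ?_⟩
  have hUM : U ≤ M₀ := fun k hk =>
    ⟨hUN hk, hUA hk, fun x hx => hB.translates h (hU.to_le (zpowers_le.2 hk)) (hUN hk) (hUA hk) hx⟩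
  set g := f.comp (Subgroup.inclusion hUM) with hg
  have h1 := Subgroup.card_mul_index g.ker
  rw [Subgroup.index_ker] at h1
  have h2 : Nat.card ↥g.range ≤ 4 := h.card ▸ Nat.card_le_card_of_injective _ g.range.subtype_injective
  have h3 : Nat.card ↥g.ker ≤ 16 := by
    rw [← hB.card, ← Subgroup.card_map_of_injective (K := g.ker) U.subtype_injective]
    refine Subgroup.card_le_of_le ?_
    rintro _ ⟨k, hk, rfl⟩
    refine hB.fix h (hU.to_le (zpowers_le.2 k.2)) (hUN k.2) hwT hwA ?_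
    have h4 : (k : G) * w * (k : G)⁻¹ * w⁻¹ = 1 := by
      rw [show (k : G) = ((Subgroup.inclusion hUM k : ↥M₀) : G) from rfl, ← hf]
      exact congrArg Subtype.val (MonoidHom.mem_ker.1 hk)
    exact mul_inv_eq_iff_eq_mul.1 (mul_inv_eq_one.1 h4)
  rw [← h1]
  exact Nat.mul_le_mul h3 h2

/-- Two blocks in their group of translations. -/
theorem exists_double
    (hall : ∀ x ∈ centralizer (A : Set G), x ∉ A → x * x = 1 → ∃ b ∈ A, Bad A (x * b))
    {v s : G} (hvS : v ∈ (S : Subgroup G)) (hvA : v ∉ A) (hv2 : v * v = 1)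
    (hsS : s ∈ (S : Subgroup G)) (hsv : s * v = v * s) (hsA : s ∉ A) (hsvA : s * v ∉ A) :
    ∃ T T₂ P, Double A T T₂ P := by
  haveI : Fact (Nat.Prime 2) := ⟨Nat.prime_two⟩
  obtain ⟨u₀, T₀, hR₀⟩ := exists_rich h hall hvS hvA hv2 hsS hsv hsA hsvA
  obtain ⟨u, T, hM⟩ := exists_isMax hR₀
  have hB := hM.block h
  obtain ⟨P, hP⟩ := hM.exists_tGroup h
  have huT := hM.rich.mem h
  have huA := hM.rich.bad.notMem
  obtain ⟨w₁, s₁, a₁, hpiv⟩ := exists_pivot h hM
  -- the value at `u`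
  have hcen : ∀ {g c : G}, g ∈ P → c ∈ A → g * c * g⁻¹ = c := fun hg hc =>
    mul_inv_eq_iff_eq_mul.2 (h.mem_centralizer_of_commute (hP.cent hg) hc)
  let φ : ↥P →* ↥A :=
    { toFun := fun g => ⟨g * u * (g : G)⁻¹ * u⁻¹, hP.comm g g.2 u huT⟩
      map_one' := Subtype.ext (by simp)
      map_mul' := fun k l => Subtype.ext (by
        show (k : G) * l * u * ((k : G) * l)⁻¹ * u⁻¹ =
          k * u * (k : G)⁻¹ * u⁻¹ * (l * u * (l : G)⁻¹ * u⁻¹)
        have e1 : (k : G) * l * u * ((k : G) * l)⁻¹ * u⁻¹ =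
            k * (l * u * (l : G)⁻¹ * u⁻¹) * (k : G)⁻¹ * (k * u * (k : G)⁻¹ * u⁻¹) := by group
        rw [e1, hcen k.2 (hP.comm l l.2 u huT), h.comm (hP.comm k k.2 u huT) (hP.comm l l.2 u huT)]) }
  have hφT : ∀ g : ↥P, φ g = 1 ↔ (g : G) ∈ T := by
    intro g
    refine ⟨fun e => hP.fix g g.2 u huT huA (mul_inv_eq_iff_eq_mul.1
      (mul_inv_eq_one.1 (congrArg Subtype.val e))), fun hg => Subtype.ext ?_⟩
    show (g : G) * u * (g : G)⁻¹ * u⁻¹ = 1
    rw [hB.comm _ hg u huT, mul_inv_cancel_right, mul_inv_cancel]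
  have hφsurj : Function.Surjective φ := fun c => by
    obtain ⟨g, hg, hge⟩ := hP.surj u huT huA c c.2
    refine ⟨⟨g, hg⟩, Subtype.ext ?_⟩
    show g * u * g⁻¹ * u⁻¹ = c
    rw [hge, mul_assoc, ← h.mem_centralizer_of_commute (inv_mem (hB.cent huT)) c.2,
      mul_inv_cancel_left]
  -- squares and translations
  have htr : ∀ g ∈ P, g ∉ T → ∀ c ∈ A, ∃ x ∈ T, g * x * g⁻¹ = x * c := by
    intro g hg hgT
    let ψ : ↥T →* ↥A :=
      { toFun := fun x => ⟨g * x * g⁻¹ * (x : G)⁻¹, hP.comm g hg x x.2⟩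
        map_one' := Subtype.ext (by simp)
        map_mul' := fun x y => Subtype.ext (by
          show g * ((x : G) * y) * g⁻¹ * ((x : G) * y)⁻¹ =
            g * x * g⁻¹ * (x : G)⁻¹ * (g * y * g⁻¹ * (y : G)⁻¹)
          have e1 : g * ((x : G) * y) * g⁻¹ * ((x : G) * y)⁻¹ =
              g * x * g⁻¹ * (g * y * g⁻¹ * (y : G)⁻¹) * (x : G)⁻¹ := by group
          rw [e1, mul_assoc _ (g * y * g⁻¹ * (y : G)⁻¹) _,
            ← h.mem_centralizer_of_commute (inv_mem (hB.cent x.2)) (hP.comm g hg y y.2), ← mul_assoc]) }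
    have hk : Nat.card ↥ψ.ker ≤ 4 := by
      rw [← h.card]
      refine Nat.card_le_card_of_injective (fun x => ⟨((x : ↥T) : G), ?_⟩) fun x y he =>
        Subtype.ext (Subtype.ext (congrArg (fun z : ↥A => (z : G)) he))
      by_contra hxA
      refine hgT (hP.fix g hg x x.1.2 hxA (mul_inv_eq_iff_eq_mul.1 (mul_inv_eq_one.1 ?_)))
      exact congrArg Subtype.val (MonoidHom.mem_ker.1 x.2)
    have h1 := Subgroup.card_mul_index ψ.ker
    rw [Subgroup.index_ker, hB.card] at h1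
    have h2 : Nat.card ↥ψ.range ≤ 4 := h.card ▸ Nat.card_le_card_of_injective _ ψ.range.subtype_injective
    have h3 : ψ.range = ⊤ := eq_top_of_card_eq _ (by
      rw [h.card]
      have h4 := Nat.mul_le_mul hk (le_refl (Nat.card ↥ψ.range))
      omega)
    intro c hc
    obtain ⟨x, hx⟩ := h3.ge (mem_top (⟨c, hc⟩ : ↥A))
    refine ⟨x, x.2, ?_⟩
    have h5 : g * x * g⁻¹ * (x : G)⁻¹ = c := congrArg Subtype.val hx
    rw [h.mem_centralizer_of_commute (hB.cent x.2) hc, ← h5]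
    group
  have hA2 : ∀ c : ↥A, c * c = 1 := fun c => Subtype.ext (h.sq c.2)
  have hsqA : ∀ g ∈ P, g ∉ T → g * g ∈ A := by
    intro g hg hgT
    have h1 : g * g ∈ T := (hφT (⟨g, hg⟩ * ⟨g, hg⟩)).1 (by rw [map_mul, hA2])
    by_contra h2
    exact hgT (hP.fix g hg _ h1 h2 (mul_assoc g g g).symm)
  -- an involution outside `T`
  obtain ⟨a, ha, ha1, -⟩ := h.exists_ne (a := (1 : G))
  obtain ⟨⟨g, hg⟩, hga⟩ := hφsurj ⟨a, ha⟩
  have hgT : g ∉ T := fun e => ha1 (congrArg Subtype.val (hga.symm.trans ((hφT ⟨g, hg⟩).2 e)))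
  obtain ⟨x, hx, hgx⟩ := htr g hg hgT _ (hsqA g hg hgT)
  set y := g * x with hy
  have hy2 : y * y = 1 := by
    calc g * x * (g * x) = g * x * g⁻¹ * (g * g) * x := by group
      _ = x * (g * g * (g * g)) * x := by rw [hgx]; group
      _ = 1 := by rw [h.sq (hsqA g hg hgT), mul_one, hB.sq x hx]
  have hyP : y ∈ P := mul_mem hg (hP.le hx)
  have hyT : y ∉ T := fun e => hgT (by
    have := mul_mem e (inv_mem hx)
    rwa [hy, mul_inv_cancel_right] at this)
  have hyA : y ∉ A := fun e => hyT (hB.le e)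
  -- one commuting with it in a further coset
  obtain ⟨b, hb, hb1, hba⟩ := h.exists_ne (a := ((φ ⟨y, hyP⟩ : ↥A) : G))
  obtain ⟨⟨z, hz⟩, hzb⟩ := hφsurj ⟨b, hb⟩
  have hzT : z ∉ T := fun e => hb1 (congrArg Subtype.val (hzb.symm.trans ((hφT ⟨z, hz⟩).2 e)))
  have hyzT : y * z ∉ T := fun e => hba (by
    have h1 := (hφT (⟨y, hyP⟩ * ⟨z, hz⟩)).2 e
    rw [map_mul, hzb] at h1
    have h2 : ((φ ⟨y, hyP⟩ : ↥A) : G) * b = 1 := congrArg Subtype.val h1
    rw [eq_inv_of_mul_eq_one_right h2, h.inv_eq (φ ⟨y, hyP⟩).2])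
  have hyi : y⁻¹ = y := inv_eq_of_mul_eq_one_right hy2
  have hcA : y * z * y⁻¹ * z⁻¹ ∈ A := by
    have h1 := mul_mem (hsqA _ (mul_mem hyP hz) hyzT) (inv_mem (hsqA z hz hzT))
    rwa [show y * z * (y * z) * (z * z)⁻¹ = y * z * y * z⁻¹ by group,
      show y * z * y * z⁻¹ = y * z * y⁻¹ * z⁻¹ by rw [hyi]] at h1
  obtain ⟨x', hx', hyx'⟩ := htr y hyP hyT _ hcA
  set t := z * x' with ht
  have htP : t ∈ P := mul_mem hz (hP.le hx')
  have htT : t ∉ T := fun e => hzT (by
    have := mul_mem e (inv_mem hx')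
    rwa [ht, mul_inv_cancel_right] at this)
  have hytT : y * t ∉ T := fun e => hyzT (by
    have := mul_mem e (inv_mem hx')
    rwa [ht, ← mul_assoc, mul_inv_cancel_right] at this)
  have hyt : t * y = y * t := by
    refine (mul_inv_eq_iff_eq_mul.1 ?_).symm
    set c := y * z * y⁻¹ * z⁻¹ with hc
    calc y * t * y⁻¹ = (y * z * y⁻¹) * (y * x' * y⁻¹) := by rw [ht]; group
      _ = c * z * (x' * c) := by rw [hyx', hc]; group
      _ = z * (c * x') * c := by
        rw [← h.mem_centralizer_of_commute (hP.cent hz) hcA]; group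
      _ = t := by
        rw [← h.mem_centralizer_of_commute (hB.cent hx') hcA, ht, mul_assoc z, mul_assoc x',
          h.sq hcA, mul_one]
  -- the second block
  obtain ⟨e, he, hbad⟩ := hall y (hP.cent hyP) hyA hy2
  set v := y * e with hv
  set D := A ⊔ zpowers y ⊔ zpowers t with hD
  have hDP : D ≤ P := sup_le (sup_le (hB.le.trans hP.le) (zpowers_le.2 hyP)) (zpowers_le.2 htP)
  have hcomm : ∀ k ∈ D, k * v = v * k := fun k hk => mem_centralizer_singleton_iff.1
    ((sup_le (sup_le (fun c hc => mem_centralizer_singleton_iff.2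
        (mem_centralizer_iff.1 hbad.cent c hc))
      (zpowers_le.2 (mem_centralizer_singleton_iff.2 (by
        rw [hv, ← mul_assoc, mul_assoc y e y, ← h.mem_centralizer_of_commute (hP.cent hyP) he,
          mul_assoc]))))
      (zpowers_le.2 (mem_centralizer_singleton_iff.2 (by
        rw [hv, ← mul_assoc, hyt, mul_assoc, h.mem_centralizer_of_commute (hP.cent htP) he,
          ← mul_assoc]))) : D ≤ centralizer ({v} : Set G)) hk)
  obtain ⟨W, hDW, hW, hWc, hWmax⟩ := exists_maximal_comm (u := v) (hP.isPGroup.to_le hDP) hcomm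
  have hAW : A ≤ W := le_sup_left.trans (le_sup_left.trans hDW)
  have htW : t ∈ W := hDW (mem_sup_right (mem_zpowers t))
  have hsec : t * t = 1 ∧ t ∉ A ∧ t * v ∉ A := by
    refine ⟨?_, fun e' => htT (hB.le e'), fun e' => hytT ?_⟩
    · obtain ⟨n, hn, hnC, -, -, hdec⟩ := hbad.exists_rot h hW hAW hWc
      obtain ⟨c, hc, hnc⟩ := hdec t htW
      have e1 : t * c * (t * c) = t * t := by
        calc t * c * (t * c) = t * (c * t) * c := by group
          _ = t * (t * c) * c := by rw [← h.mem_centralizer_of_commute (hP.cent htP) hc]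
          _ = t * t * (c * c) := by group
          _ = t * t := by rw [h.sq hc, mul_one]
      have h1 := eq_one_of_fixed h hn hnC (hsqA t htP htT)
        (by rw [← e1]; exact ((show Commute n (t * c) from hnc).mul_right hnc).eq)
      exact h1
    · have h1 := hB.le (mul_mem e' he)
      rwa [hv, ← mul_assoc, mul_assoc (t * y) e e, h.sq he, mul_one, hyt] at h1
  have hWR : Rich A v W := ⟨hbad, hAW, hW, hWc, hWmax, t, htW, hsec⟩
  have hW16 : Nat.card ↥W ≤ 16 := hB.card ▸ hM.max v W hWR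
  -- it is `D`
  have hφD : ∀ c : ↥A, ∃ k ∈ D, ∃ hk : k ∈ P, φ ⟨k, hk⟩ = c := by
    have hy1 : ((φ ⟨y, hyP⟩ : ↥A) : G) ≠ 1 := fun e' =>
      hyT ((hφT ⟨y, hyP⟩).1 (Subtype.ext e'))
    have hzt : ((φ ⟨t, htP⟩ : ↥A) : G) = b := by
      rw [show (⟨t, htP⟩ : ↥P) = ⟨z, hz⟩ * ⟨x', hP.le hx'⟩ from rfl, map_mul,
        (hφT ⟨x', hP.le hx'⟩).2 hx', mul_one, hzb]
    intro c
    rcases h.cases (φ ⟨y, hyP⟩).2 hy1 hb hb1 hba.symm c.2 with e' | e' | e' | e'
    · exact ⟨1, one_mem D, one_mem P, Subtype.ext (by rw [e']; simp [φ])⟩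
    · exact ⟨y, mem_sup_left (mem_sup_right (mem_zpowers y)), hyP, Subtype.ext e'.symm⟩
    · exact ⟨t, mem_sup_right (mem_zpowers t), htP, Subtype.ext (hzt.trans e'.symm)⟩
    · refine ⟨y * t, mul_mem (mem_sup_left (mem_sup_right (mem_zpowers y)))
        (mem_sup_right (mem_zpowers t)), mul_mem hyP htP, Subtype.ext ?_⟩
      rw [show (⟨y * t, mul_mem hyP htP⟩ : ↥P) = ⟨y, hyP⟩ * ⟨t, htP⟩ from rfl, map_mul,
        Subgroup.coe_mul, hzt, e']
  let φD := φ.comp (Subgroup.inclusion hDP)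
  have hφDsurj : Function.Surjective φD := fun c => by
    obtain ⟨k, hk, hk', he'⟩ := hφD c
    exact ⟨⟨k, hk⟩, he'⟩
  have hkerD := Subgroup.card_mul_index φD.ker
  rw [Subgroup.index_ker, MonoidHom.range_eq_top.2 hφDsurj, card_top, h.card] at hkerD
  have hAker : A.subgroupOf D ≤ φD.ker := fun k hk => (hφT _).2 (hB.le (mem_subgroupOf.1 hk))
  have hA4 : Nat.card ↥(A.subgroupOf D) = 4 := by
    rw [Nat.card_congr (subgroupOfEquivOfLe (le_sup_left.trans le_sup_left : A ≤ D)).toEquiv, h.card]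
  have hk4 := Subgroup.card_le_of_le hAker
  have hDle := Subgroup.card_le_of_le hDW
  have hWD : W = D := (Subgroup.eq_of_le_of_card_ge hDW (by omega)).symm
  have hM2 : IsMax A v W := ⟨hWR, fun w U hU => (hM.max w U hU).trans (by rw [hB.card]; omega)⟩
  have hB2 := hM2.block h
  rw [hWD] at hB2
  have hkerA : ∀ k ∈ D, k ∈ T → k ∈ A := by
    intro k hk hkT
    have h16 := hB2.card
    have : φD.ker = A.subgroupOf D := (Subgroup.eq_of_le_of_card_ge hAker (by omega)).symm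
    exact mem_subgroupOf.1 (this.le (show φD ⟨k, hk⟩ = 1 from (hφT ⟨k, hDP hk⟩).2 hkT))
  have hinf : T ⊓ D = A := le_antisymm (fun k hk => hkerA k hk.2 hk.1) (le_inf hB.le hB2.le)
  have hdecP : ∀ k ∈ P, ∃ x ∈ T, ∃ t' ∈ D, k = x * t' := by
    intro k hk
    obtain ⟨t', ht', htP', he'⟩ := hφD (φ ⟨k, hk⟩)
    refine ⟨k * t'⁻¹, (hφT (⟨k, hk⟩ * ⟨t', htP'⟩⁻¹)).1 ?_, t', ht', by group⟩
    rw [map_mul, map_inv, he', mul_inv_cancel]
  have hTD : ∀ x ∈ T, ∀ t' ∈ D, x * t' * x⁻¹ * t'⁻¹ ∈ A := by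
    intro x hx t' ht'
    have h1 := inv_mem (hP.comm t' (hDP ht') x hx)
    rwa [show (t' * x * t'⁻¹ * x⁻¹)⁻¹ = x * t' * x⁻¹ * t'⁻¹ by group] at h1
  refine ⟨T, D, P, hB, hB2, hP.le, hDP, hinf, hP.isPGroup, hP.card, hP.norm, ?_, ?_, hTD,
    hP.surj, ?_, hP.max, ?_⟩
  · intro k hk
    obtain ⟨x, hx, t', ht', rfl⟩ := hdecP k hk
    refine mul_mem (RankTwoKey.mem_normalizer_of_map_le ?_) (le_normalizer ht')
    rintro _ ⟨d, hd, rfl⟩
    have := mul_mem (hB2.le (hTD x hx d hd)) hd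
    rwa [inv_mul_cancel_right] at this
  · intro k hk hk2
    obtain ⟨x, hx, t', ht', rfl⟩ := hdecP k hk
    by_cases htA : t' ∈ A
    · exact Or.inl (mul_mem hx (hB.le htA))
    by_cases hxA : x ∈ A
    · exact Or.inr (mul_mem (hB2.le hxA) ht')
    exfalso
    refine htA (hkerA t' ht' (hP.fix t' (hDP ht') x hx hxA ?_))
    have := eq_inv_of_mul_eq_one_left hk2
    rw [mul_inv_rev, inv_eq_of_mul_eq_one_right (hB.sq x hx),
      inv_eq_of_mul_eq_one_right (hB2.sq t' ht')] at this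
    exact this.symm
  · intro t' ht' htA c hc
    obtain ⟨x, hx, htx⟩ := htr t' (hDP ht') (fun e' => htA (hkerA t' ht' e')) c hc
    refine ⟨x, hP.le hx, ?_⟩
    calc x * t' * x⁻¹ = x * (t' * x⁻¹ * t'⁻¹) * t' := by group
      _ = x * (x * c)⁻¹ * t' := by rw [← htx]; group
      _ = t' * c := by
        rw [mul_inv_rev, h.inv_eq hc, inv_eq_of_mul_eq_one_right (hB.sq x hx), ← mul_assoc,
          h.mem_centralizer_of_commute (hB.cent hx) hc, mul_assoc c, hB.sq x hx, mul_one,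
          h.mem_centralizer_of_commute (hB2.cent ht') hc]
  · intro U hU hUN hUA
    obtain ⟨Q, hQ⟩ := hM2.exists_tGroup h
    exact hQ.max U hU (hWD ▸ hUN) hUA

end Cfsg.Agent.Lib.Goldschmidt53.RankTwoBadOne
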